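import Groth.Agent.Pi1B.FlowPurity
import Groth.Agent.Pi1A.ExtAlg

/-!
# Purity for local rings with a flow moving the closed point

`purityHolds_of_flow`: `B` Noetherian local of depth `≥ 2`, `φ : B → B⟦X⟧` a ring homomorphism which is
the identity modulo `X`, `f ∈ 𝔪` with `φ f ∉ 𝔪 B⟦X⟧`. Then purity holds for `B`.
-/

set_option autoImplicit false
universe u

open CategoryTheory CategoryTheory.Limits AlgebraicGeometry PowerSeries

namespace Groth.Agent.Pi1B.FlowPurityHolds

open Pi1A.DepthTwo Pi1A.ExtAlg Pi1C.SectionsOverAffine IsLocalRing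

/-- Purity for Noetherian local rings of depth `≥ 2` with a flow moving the closed point. -/
theorem purityHolds_of_flow (B : Type u) [CommRing B] [IsNoetherianRing B] [IsLocalRing B]
    (hB : (2 : ℕ∞) ≤ LocCoh.depth B B) (φ : B →+* B⟦X⟧)
    (hφ : (constantCoeff (R := B)).comp φ = RingHom.id B) (f : B) (hfm : f ∈ maximalIdeal B)
    (hf : φ f ∉ (maximalIdeal B).map (C (R := B))) : FEt.PurityHolds B := by
  obtain ⟨a, ha, b, hb, hab⟩ := exists_isRegPair_of_two_le_depth B hB
  constructor
  intro V
  let R : CommRingCat.{u} := CommRingCat.of B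
  let U : (Spec R).Opens := FEt.puncturedSpec B
  have hNoeth : IsNoetherianRing R := inferInstanceAs (IsNoetherianRing B)
  have hUc : CompactSpace U := by
    have hN : TopologicalSpace.NoetherianSpace (PrimeSpectrum R) := inferInstance
    have h0 : IsCompact (U : Set (Spec R)) :=
      @TopologicalSpace.NoetherianSpace.isCompact (PrimeSpectrum R) _ hN _
    exact isCompact_iff_compactSpace.mp h0
  have hle : ∀ x : B, x ∈ maximalIdeal B → PrimeSpectrum.basicOpen x ≤ U := by
    intro x hx q hq hq'
    have hq'' : q = IsLocalRing.closedPoint B := hq'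
    subst hq''
    exact hq hx
  have h1 : IsFinite V.hom := V.prop.1
  have h2 : Etale V.hom := V.prop.2
  let p : V.left ⟶ Spec R := V.hom ≫ U.ι
  have hflat : Flat p := inferInstance
  refine exists_extension (R := R) U V hab (hle _ ha) (hle _ hb) ?_
  let E := Γ(V.left, ⊤)
  let _ : Algebra B E := (toΓ p).toAlgebra
  have hfin : Module.Finite B E := finite_toΓ (R := R) U V.hom hab (hle _ ha) (hle _ hb)
  have hreg : IsRegPair (algebraMap B E a) (algebraMap B E b) := isRegPair_toΓ (R := R) p hab
  have het : ∀ x : B, x ∈ maximalIdeal B →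
      Algebra.Etale B (Localization.Away (algebraMap B E x)) := fun x hx =>
    etale_away (R := R) U V.hom x (hle x hx)
  have := het a ha
  have := het b hb
  have := het f hfm
  have : Algebra.Etale B E := FlowPurity.etale_of_flow E φ hφ (a := a) (b := b)
    ⟨hreg.fst, hreg.snd⟩ f hf
  exact RingHom.etale_algebraMap.mpr this

end Groth.Agent.Pi1B.FlowPurityHolds
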