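import Groth.Prelude.Def_CAlg
import Mathlib.RingTheory.Regular.Flat
import Mathlib.RingTheory.Flat.TorsionFree
import Mathlib.RingTheory.Ideal.AssociatedPrime.Finiteness
import Mathlib.RingTheory.Regular.IsSMulRegular
import Mathlib.RingTheory.Localization.AtPrime.Basic

/-!
# Regular pairs (depth at least two, elementary form)

`RegPair M x y` : `x` is a nonzerodivisor on `M` and `y` is a nonzerodivisor on `M / x M`.
-/

set_option autoImplicit false

universe u v w

namespace Groth.Agent.Pi1B.RegPair

open RingTheory.Sequence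

/-- `x` is a nonzerodivisor on `M` and `y` is a nonzerodivisor on `M / x M`. -/
structure IsRegPair {A : Type u} [CommRing A] (M : Type v) [AddCommGroup M] [Module A M]
    (x y : A) : Prop where
  reg : ∀ m : M, x • m = 0 → m = 0
  reg₂ : ∀ m m' : M, y • m = x • m' → ∃ c, m = x • c

section basic

variable {A : Type u} [CommRing A] {M : Type v} [AddCommGroup M] [Module A M]

theorem IsRegPair.isSMulRegular {x y : A} (h : IsRegPair M x y) : IsSMulRegular M x := by
  intro a b hab
  have : x • (a - b) = 0 := by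
    rw [smul_sub, sub_eq_zero]; exact hab
  exact sub_eq_zero.mp (h.reg _ this)

theorem isRegPair_iff {x y : A} : IsRegPair M x y ↔ IsWeaklyRegular M [x, y] := by
  rw [isWeaklyRegular_cons_iff, isWeaklyRegular_singleton_iff]
  constructor
  · intro h
    refine ⟨h.isSMulRegular, ?_⟩
    rw [isSMulRegular_iff_right_eq_zero_of_smul]
    intro m hm
    obtain ⟨m, rfl⟩ := Submodule.Quotient.mk_surjective _ m
    rw [← Submodule.Quotient.mk_smul, Submodule.Quotient.mk_eq_zero,
      Submodule.mem_smul_pointwise_iff_exists] at hm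
    obtain ⟨m', -, hm'⟩ := hm
    obtain ⟨c, hc⟩ := h.reg₂ m m' hm'.symm
    rw [Submodule.Quotient.mk_eq_zero, Submodule.mem_smul_pointwise_iff_exists]
    exact ⟨c, trivial, hc.symm⟩
  · rintro ⟨h1, h2⟩
    refine ⟨fun m hm => h1 (by simpa using hm), fun m m' hmm' => ?_⟩
    rw [isSMulRegular_iff_right_eq_zero_of_smul] at h2
    have := h2 (Submodule.Quotient.mk m) (by
      rw [← Submodule.Quotient.mk_smul, Submodule.Quotient.mk_eq_zero,
        Submodule.mem_smul_pointwise_iff_exists]
      exact ⟨m', trivial, hmm'.symm⟩)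
    rw [Submodule.Quotient.mk_eq_zero, Submodule.mem_smul_pointwise_iff_exists] at this
    obtain ⟨c, -, hc⟩ := this
    exact ⟨c, hc.symm⟩

theorem IsRegPair.of_linearEquiv {N : Type w} [AddCommGroup N] [Module A N] (e : M ≃ₗ[A] N)
    {x y : A} (h : IsRegPair M x y) : IsRegPair N x y where
  reg m hm := by
    have := h.reg (e.symm m) (by rw [← map_smul, hm, map_zero])
    simpa using this
  reg₂ m m' hmm' := by
    obtain ⟨c, hc⟩ := h.reg₂ (e.symm m) (e.symm m') (by rw [← map_smul, hmm', map_smul])
    exact ⟨e c, by rw [← map_smul, ← hc, LinearEquiv.apply_symm_apply]⟩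

/-- powers of the second element. -/
theorem IsRegPair.pow_right {x y : A} (h : IsRegPair M x y) (n : ℕ) : IsRegPair M x (y ^ n) := by
  refine ⟨h.reg, ?_⟩
  induction n with
  | zero => intro m m' hm; exact ⟨m', by simpa using hm⟩
  | succ n ih =>
    intro m m' hm
    rw [pow_succ', mul_smul] at hm
    obtain ⟨c, hc⟩ := h.reg₂ _ _ hm
    exact ih _ _ hc

/-- powers of the first element. -/
theorem IsRegPair.pow_left {x y : A} (h : IsRegPair M x y) (n : ℕ) : IsRegPair M (x ^ n) y := by
  induction n with
  | zero =>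
    exact ⟨fun m hm => by simpa using hm, fun m m' _ => ⟨m, by simp⟩⟩
  | succ n ih =>
    refine ⟨fun m hm => ?_, fun m m' hm => ?_⟩
    · rw [pow_succ', mul_smul] at hm
      exact ih.reg _ (h.reg _ hm)
    · rw [pow_succ', mul_smul] at hm
      obtain ⟨c, rfl⟩ := h.reg₂ _ _ hm
      have h' : y • c = x ^ n • m' := by
        have : x • (y • c - x ^ n • m') = 0 := by
          rw [smul_sub, ← hm, smul_comm x y c, sub_self]
        exact sub_eq_zero.mp (h.reg _ this)
      obtain ⟨d, rfl⟩ := ih.reg₂ _ _ h'
      exact ⟨d, by rw [pow_succ', mul_smul]⟩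

theorem IsRegPair.pow {x y : A} (h : IsRegPair M x y) (n k : ℕ) :
    IsRegPair M (x ^ n) (y ^ k) := (h.pow_left n).pow_right k

/-- Over a flat algebra / for a flat module, regular pairs on the ring remain regular pairs. -/
theorem IsRegPair.of_flat {N : Type w} [AddCommGroup N] [Module A N] [Module.Flat A N]
    {x y : A} (h : IsRegPair A x y) : IsRegPair N x y := by
  have hx : ∀ n : N, x • n = 0 → n = 0 := by
    intro n hn
    have hr : IsRegular x := by
      have h1 : IsLeftRegular x := fun a b hab => h.isSMulRegular (by simpa using hab)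
      exact ⟨h1, fun a b hab => h1 (by simpa [mul_comm] using hab)⟩
    have := Module.Flat.isSMulRegular_of_isRegular (M := N) hr
    exact this (by simpa using hn)
  refine ⟨hx, fun n n' hnn' => ?_⟩
  -- the map A ⧸ x → A ⧸ x, multiplication by y, is injective; tensor with N
  let Q := A ⧸ Ideal.span {x}
  let f : Q →ₗ[A] Q := LinearMap.lsmul A Q y
  have hf : Function.Injective f := by
    rw [injective_iff_map_eq_zero]
    intro q hq
    obtain ⟨a, rfl⟩ := Ideal.Quotient.mk_surjective q
    have : (Ideal.Quotient.mk (Ideal.span {x})) (y * a) = 0 := by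
      have h3 : f ((Ideal.Quotient.mk (Ideal.span {x})) a) =
        (Ideal.Quotient.mk (Ideal.span {x})) (y * a) := rfl
      rw [← h3, hq]
    rw [Ideal.Quotient.eq_zero_iff_mem, Ideal.mem_span_singleton'] at this
    obtain ⟨b, hb⟩ := this
    obtain ⟨c, hc⟩ := h.reg₂ a b (by simp only [smul_eq_mul]; rw [← hb, mul_comm])
    rw [Ideal.Quotient.eq_zero_iff_mem, hc]
    exact Ideal.mul_mem_right _ _ (Ideal.mem_span_singleton_self x)
  have hinj := Module.Flat.lTensor_preserves_injective_linearMap (M := N) f hf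
  -- n ⊗ 1
  have h0 : (LinearMap.lTensor N f) (n ⊗ₜ (1 : Q)) = 0 := by
    rw [LinearMap.lTensor_tmul]
    have : f (1 : Q) = y • (1 : Q) := rfl
    rw [this, TensorProduct.tmul_smul, TensorProduct.smul_tmul', hnn', ← TensorProduct.smul_tmul',
      ← TensorProduct.tmul_smul]
    have : x • (1 : Q) = 0 := by
      have : x • (1 : Q) = (Ideal.Quotient.mk (Ideal.span {x})) (x * 1) := rfl
      rw [this, mul_one, Ideal.Quotient.eq_zero_iff_mem]
      exact Ideal.mem_span_singleton_self x
    rw [this, TensorProduct.tmul_zero]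
  have h1 : (n ⊗ₜ (1 : Q) : TensorProduct A N Q) = 0 := hinj (by rw [h0, map_zero])
  have h2 := congrArg (TensorProduct.tensorQuotEquivQuotSMul N (Ideal.span {x})) h1
  rw [map_zero] at h2
  have h3 : (TensorProduct.tensorQuotEquivQuotSMul N (Ideal.span {x}))
      (n ⊗ₜ (1 : Q)) = Submodule.Quotient.mk n := by
    have := TensorProduct.tensorQuotEquivQuotSMul_tmul_mk (M := N) (I := Ideal.span {x}) n 1
    simpa using this
  rw [h3, Submodule.Quotient.mk_eq_zero, Submodule.ideal_span_singleton_smul,
    Submodule.mem_smul_pointwise_iff_exists] at h2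
  obtain ⟨c, -, hc⟩ := h2
  exact ⟨c, hc.symm⟩

theorem IsRegPair.of_algebra {B : Type w} [CommRing B] [Algebra A B] {x y : A}
    {N : Type v} [AddCommGroup N] [Module A N] [Module B N] [IsScalarTower A B N]
    (h : IsRegPair N x y) : IsRegPair N (algebraMap A B x) (algebraMap A B y) where
  reg m hm := h.reg m (by rwa [algebraMap_smul] at hm)
  reg₂ m m' hm := by
    simp only [algebraMap_smul] at hm ⊢
    exact h.reg₂ m m' hm

theorem IsRegPair.map_flat {B : Type w} [CommRing B] [Algebra A B] [Module.Flat A B] {x y : A}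
    (h : IsRegPair A x y) : IsRegPair B (algebraMap A B x) (algebraMap A B y) :=
  IsRegPair.of_algebra (B := B) (IsRegPair.of_flat (N := B) h)

theorem IsRegPair.of_ringEquiv {B : Type w} [CommRing B] (e : A ≃+* B) {x y : A}
    (h : IsRegPair A x y) : IsRegPair B (e x) (e y) where
  reg m hm := by
    have : x • (e.symm m) = 0 := by
      have := congrArg e.symm hm
      simpa [smul_eq_mul] using this
    simpa using h.reg _ this
  reg₂ m m' hm := by
    have : y • (e.symm m) = x • (e.symm m') := by
      have := congrArg e.symm hm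
      simpa [smul_eq_mul] using this
    obtain ⟨c, hc⟩ := h.reg₂ _ _ this
    refine ⟨e c, ?_⟩
    have := congrArg e hc
    simpa [smul_eq_mul] using this

end basic

section depth

variable {R : Type u} [CommRing R] [IsLocalRing R]

theorem two_le_depth_of_isRegPair {M : Type v} [AddCommGroup M] [Module R M] {a b : R}
    (ha : a ∈ IsLocalRing.maximalIdeal R) (hb : b ∈ IsLocalRing.maximalIdeal R)
    (h : IsRegPair M a b) : 2 ≤ LocCoh.depth R M := by
  unfold LocCoh.depth LocCoh.idealDepth
  split_ifs with h0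
  · exact le_top
  · refine le_iSup₂_of_le [a, b] ⟨isRegPair_iff.mp h, ?_⟩ ?_
    · intro r hr
      simp only [List.mem_cons, List.not_mem_nil, or_false] at hr
      rcases hr with rfl | rfl
      exacts [ha, hb]
    · simp

theorem exists_isRegPair_of_two_le_depth_module {M : Type v} [AddCommGroup M] [Module R M]
    (hM : IsLocalRing.maximalIdeal R • (⊤ : Submodule R M) ≠ ⊤)
    (h : 2 ≤ LocCoh.depth R M) :
    ∃ a ∈ IsLocalRing.maximalIdeal R, ∃ b ∈ IsLocalRing.maximalIdeal R, IsRegPair M a b := by
  unfold LocCoh.depth LocCoh.idealDepth at h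
  rw [if_neg hM] at h
  by_contra hcon
  push Not at hcon
  have : (⨆ (rs : List R) (_ : RingTheory.Sequence.IsWeaklyRegular M rs ∧
      ∀ r ∈ rs, r ∈ IsLocalRing.maximalIdeal R), (rs.length : ℕ∞)) ≤ 1 := by
    refine iSup₂_le fun rs hrs => ?_
    match rs, hrs with
    | [], _ => simp
    | [a], _ => simp
    | a :: b :: l, ⟨hrs1, hrs2⟩ =>
      exfalso
      refine hcon a (hrs2 a (by simp)) b (hrs2 b (by simp)) ?_
      rw [isRegPair_iff]
      have : a :: b :: l = [a, b] ++ l := rfl
      rw [this, isWeaklyRegular_append_iff] at hrs1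
      exact hrs1.1
  exact absurd (h.trans this) (by decide)

theorem two_le_depth_iff : 2 ≤ LocCoh.depth R R ↔
    ∃ a ∈ IsLocalRing.maximalIdeal R, ∃ b ∈ IsLocalRing.maximalIdeal R, IsRegPair R a b := by
  constructor
  · refine exists_isRegPair_of_two_le_depth_module ?_
    intro h
    have h1 : (1 : R) ∈ IsLocalRing.maximalIdeal R • (⊤ : Submodule R R) := by rw [h]; trivial
    rw [Ideal.smul_top_eq_map] at h1
    simp at h1
  · rintro ⟨a, ha, b, hb, h⟩
    exact two_le_depth_of_isRegPair ha hb h

/-- transport of "depth at least two" along a ring isomorphism -/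
theorem two_le_depth_of_ringEquiv {R' : Type w} [CommRing R'] [IsLocalRing R'] (e : R ≃+* R')
    (h : 2 ≤ LocCoh.depth R R) : 2 ≤ LocCoh.depth R' R' := by
  rw [two_le_depth_iff] at h ⊢
  obtain ⟨a, ha, b, hb, h⟩ := h
  have hm : ∀ c ∈ IsLocalRing.maximalIdeal R, e c ∈ IsLocalRing.maximalIdeal R' := by
    intro c hc
    rw [IsLocalRing.mem_maximalIdeal, mem_nonunits_iff] at hc ⊢
    intro hu
    exact hc (by simpa using hu.map e.symm)
  exact ⟨e a, hm a ha, e b, hm b hb, h.of_ringEquiv e⟩

end depth

section avoidance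

variable {A : Type u} [CommRing A] [IsNoetherianRing A]

/-- Prime avoidance: an ideal not contained in an associated prime contains a nonzerodivisor. -/
theorem exists_mem_isSMulRegular (M : Type v) [AddCommGroup M] [Module A M] [Module.Finite A M]
    (I : Ideal A) (hI : ∀ p ∈ associatedPrimes A M, ¬ I ≤ p) :
    ∃ x ∈ I, ∀ m : M, x • m = 0 → m = 0 := by
  have hfin := associatedPrimes.finite A M
  have hnot : ¬ ((I : Set A) ⊆ ⋃ p ∈ associatedPrimes A M, (p : Set A)) := by
    rw [Ideal.subset_union_prime_finite hfin (f := fun p => p) (⊥ : Ideal A) (⊥ : Ideal A)]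
    · rintro ⟨p, hp, hIp⟩
      exact hI p hp hIp
    · intro p hp _ _
      exact hp.isPrime
  rw [Set.not_subset] at hnot
  obtain ⟨x, hxI, hx⟩ := hnot
  refine ⟨x, hxI, ?_⟩
  rw [biUnion_associatedPrimes_eq_compl_regular] at hx
  simp only [Set.mem_compl_iff, Set.mem_ofPred_eq, not_not] at hx
  intro m hm
  exact hx (by simpa using hm)

/-- local computation: if `(a, b)` is a regular pair on `N` and `x` is a nonzerodivisor on `N`
with `a z, b z ∈ x N`, then `z ∈ x N`. -/
theorem IsRegPair.mem_of_smul_mem {R : Type u} [CommRing R] {N : Type v} [AddCommGroup N]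
    [Module R N] {a b x : R} (h : IsRegPair N a b) (hx : ∀ n : N, x • n = 0 → n = 0) {z w w' : N}
    (hw : a • z = x • w) (hw' : b • z = x • w') : ∃ c, z = x • c := by
  have h1 : b • w = a • w' := by
    have : x • (b • w - a • w') = 0 := by
      rw [smul_sub, smul_comm x b w, ← hw, smul_comm x a w', ← hw', smul_comm b a z, sub_self]
    exact sub_eq_zero.mp (hx _ this)
  obtain ⟨c, rfl⟩ := h.reg₂ _ _ h1
  refine ⟨c, ?_⟩
  have : a • (z - x • c) = 0 := by
    rw [smul_sub, hw, smul_comm x a c, sub_self]
  exact sub_eq_zero.mp (h.reg _ this)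

/-- If all localizations `M_p` for `p ∈ V(I)` admit a regular pair in the maximal ideal, then `I`
contains a regular pair on `M`. -/
theorem exists_isRegPair_module (M : Type v) [AddCommGroup M] [Module A M] [Module.Finite A M]
    (I : Ideal A)
    (h : ∀ (p : Ideal A) [p.IsPrime], I ≤ p →
      ∃ a ∈ IsLocalRing.maximalIdeal (Localization.AtPrime p),
      ∃ b ∈ IsLocalRing.maximalIdeal (Localization.AtPrime p),
        IsRegPair (LocalizedModule p.primeCompl M) a b) :
    ∃ x ∈ I, ∃ y ∈ I, IsRegPair M x y := by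
  -- elements of the maximal ideal of the localization
  have key : ∀ (p : Ideal A) [p.IsPrime] (a : Localization.AtPrime p),
      a ∈ IsLocalRing.maximalIdeal (Localization.AtPrime p) →
      ∃ (c : A) (s : p.primeCompl), c ∈ p ∧ a = IsLocalization.mk' _ c s := by
    intro p hp a ha
    obtain ⟨c, s, rfl⟩ := IsLocalization.exists_mk'_eq p.primeCompl a
    exact ⟨c, s, (IsLocalization.AtPrime.mk'_mem_maximal_iff _ p c s).mp ha, rfl⟩
  have key2 : ∀ (p : Ideal A) [p.IsPrime] (c : A) (s : p.primeCompl) (z : M),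
      (IsLocalization.mk' (Localization.AtPrime p) c s) •
        (LocalizedModule.mkLinearMap p.primeCompl M z) = LocalizedModule.mk (c • z) s := by
    intro p hp c s z
    rw [LocalizedModule.mkLinearMap_apply, ← Localization.mk_eq_mk', LocalizedModule.mk_smul_mk,
      mul_one]
  obtain ⟨x, hxI, hx⟩ := exists_mem_isSMulRegular M I (by
    intro p hp hIp
    have hpp : p.IsPrime := hp.isPrime
    obtain ⟨a, ha, b, hb, hab⟩ := h p hIp
    rw [AssociatedPrimes.mem_iff, isAssociatedPrime_iff] at hp
    obtain ⟨-, z, hz⟩ := hp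
    have hz' : ∀ c, c ∈ p ↔ c • z = 0 := by
      intro c
      rw [hz]
      simp [Submodule.mem_colon_singleton]
    obtain ⟨c, s, hc, rfl⟩ := key p a ha
    have hz0 : LocalizedModule.mkLinearMap p.primeCompl M z = 0 := by
      apply hab.reg
      rw [key2, (hz' c).mp hc, LocalizedModule.zero_mk]
    rw [IsLocalizedModule.eq_zero_iff p.primeCompl] at hz0
    obtain ⟨t, ht⟩ := hz0
    exact t.2 ((hz' _).mpr ht))
  obtain ⟨y, hyI, hy⟩ := exists_mem_isSMulRegular (QuotSMulTop x M) I (by
    intro p hp hIp
    have hpp : p.IsPrime := hp.isPrime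
    obtain ⟨a, ha, b, hb, hab⟩ := h p hIp
    rw [AssociatedPrimes.mem_iff, isAssociatedPrime_iff] at hp
    obtain ⟨-, z, hz⟩ := hp
    obtain ⟨z, rfl⟩ := Submodule.Quotient.mk_surjective _ z
    have hz' : ∀ c, c ∈ p ↔ ∃ m, x • m = c • z := by
      intro c
      rw [hz, Submodule.mem_colon_singleton, Submodule.mem_bot, ← Submodule.Quotient.mk_smul,
        Submodule.Quotient.mk_eq_zero, Submodule.mem_smul_pointwise_iff_exists]
      simp
    -- x is regular on the localization
    have hx' : ∀ n : LocalizedModule p.primeCompl M, (algebraMap A (Localization.AtPrime p) x) • n = 0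
        → n = 0 := by
      intro n hn
      obtain ⟨⟨m, s⟩, rfl⟩ := IsLocalizedModule.mk'_surjective p.primeCompl
        (LocalizedModule.mkLinearMap p.primeCompl M) n
      simp only [Function.uncurry_apply_pair] at hn ⊢
      rw [algebraMap_smul, ← IsLocalizedModule.mk'_smul, IsLocalizedModule.mk'_eq_zero'] at hn
      rw [IsLocalizedModule.mk'_eq_zero']
      obtain ⟨t, ht⟩ := hn
      refine ⟨t, hx _ ?_⟩
      rw [smul_comm]; exact ht
    obtain ⟨c, s, hc, rfl⟩ := key p a ha
    obtain ⟨d, t, hd, rfl⟩ := key p b hb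
    obtain ⟨m, hm⟩ := (hz' c).mp hc
    obtain ⟨m', hm'⟩ := (hz' d).mp hd
    have e1 : (IsLocalization.mk' (Localization.AtPrime p) c s) •
        (LocalizedModule.mkLinearMap p.primeCompl M z) =
        (algebraMap A (Localization.AtPrime p) x) • LocalizedModule.mk m s := by
      rw [key2, ← hm, algebraMap_smul, LocalizedModule.smul'_mk]
    have e2 : (IsLocalization.mk' (Localization.AtPrime p) d t) •
        (LocalizedModule.mkLinearMap p.primeCompl M z) =
        (algebraMap A (Localization.AtPrime p) x) • LocalizedModule.mk m' t := by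
      rw [key2, ← hm', algebraMap_smul, LocalizedModule.smul'_mk]
    obtain ⟨n, hn⟩ := hab.mem_of_smul_mem hx' e1 e2
    obtain ⟨⟨m, s⟩, rfl⟩ := IsLocalizedModule.mk'_surjective p.primeCompl
        (LocalizedModule.mkLinearMap p.primeCompl M) n
    simp only [Function.uncurry_apply_pair] at hn
    rw [algebraMap_smul, ← IsLocalizedModule.mk'_smul, eq_comm, IsLocalizedModule.mk'_eq_iff,
      Submonoid.smul_def, ← map_smul, IsLocalizedModule.eq_iff_exists p.primeCompl] at hn
    obtain ⟨t, ht⟩ := hn
    have : (t : A) * (s : A) ∈ p := (hz' _).mpr ⟨(t : A) • m, by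
      rw [smul_comm]
      simpa [Submonoid.smul_def, mul_smul] using ht⟩
    exact (p.primeCompl.mul_mem t.2 s.2) this)
  refine ⟨x, hxI, y, hyI, ⟨hx, ?_⟩⟩
  intro m m' hm
  have := hy (Submodule.Quotient.mk m) (by
    rw [← Submodule.Quotient.mk_smul, Submodule.Quotient.mk_eq_zero,
      Submodule.mem_smul_pointwise_iff_exists]
    exact ⟨m', trivial, hm.symm⟩)
  rw [Submodule.Quotient.mk_eq_zero, Submodule.mem_smul_pointwise_iff_exists] at this
  obtain ⟨c, -, hc⟩ := this
  exact ⟨c, hc.symm⟩

/-- If all local rings `A_p` for `p ∈ V(I)` have depth at least two, `I` contains a regular pair. -/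
theorem exists_isRegPair (I : Ideal A)
    (h : ∀ (p : Ideal A) [p.IsPrime], I ≤ p →
      2 ≤ LocCoh.depth (Localization.AtPrime p) (Localization.AtPrime p)) :
    ∃ x ∈ I, ∃ y ∈ I, IsRegPair A x y :=
  exists_isRegPair_module A I (fun p _ hIp => two_le_depth_iff.mp (h p hIp))

end avoidance

end Groth.Agent.Pi1B.RegPair
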