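import Groth.Agent.Pi1B.FlowExist
import Groth.Agent.Pi1B.FlowPurityHolds
import Groth.Agent.Pi1B.RegPair
import Mathlib.RingTheory.Unramified.LocalStructure
import Mathlib.RingTheory.RingHom.StandardSmooth
import Mathlib.AlgebraicGeometry.Morphisms.Smooth
import Mathlib.AlgebraicGeometry.Noetherian
import Mathlib.AlgebraicGeometry.Fiber
import Mathlib.AlgebraicGeometry.Properties

/-!
# Purity at non-generic points of the fibres of a smooth morphism
-/

set_option autoImplicit false

open PowerSeries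

namespace Groth.Agent.Pi1B.FlowSmooth

universe u

/-- If the coordinates are algebraically independent in the residue field of `q`, then `q` is
minimal in its fibre. -/
theorem eq_of_algebraicIndependent {R D κ : Type*} [CommRing R] [CommRing D] [Field κ] {n : ℕ}
    [Algebra (MvPolynomial (Fin n) R) D] [Algebra.QuasiFinite (MvPolynomial (Fin n) R) D]
    (q q' : Ideal D) [q.IsPrime] [q'.IsPrime] (hle : q' ≤ q)
    (π : D →+* κ) (hker : RingHom.ker π = q)
    (hcomap : q.comap ((algebraMap (MvPolynomial (Fin n) R) D).comp MvPolynomial.C) ≤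
      q'.comap ((algebraMap (MvPolynomial (Fin n) R) D).comp MvPolynomial.C))
    (ρ : R →+* κ)
    (hρ : ρ = (π.comp (algebraMap (MvPolynomial (Fin n) R) D)).comp MvPolynomial.C)
    (T : Fin n → κ)
    (hT : ∀ i, T i = π (algebraMap (MvPolynomial (Fin n) R) D (MvPolynomial.X i)))
    (hind : AlgebraicIndependent ρ.range T) : q' = q := by
  apply Algebra.QuasiFinite.eq_of_le_of_under_eq (R := MvPolynomial (Fin n) R) _ _ hle
  apply le_antisymm (Ideal.comap_mono hle)
  intro g hg
  have hg1 : π (algebraMap (MvPolynomial (Fin n) R) D g) = 0 := by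
    rw [← RingHom.mem_ker, hker]
    exact hg
  have h2 : π.comp (algebraMap (MvPolynomial (Fin n) R) D) = MvPolynomial.eval₂Hom ρ T := by
    apply MvPolynomial.ringHom_ext
    · intro r
      rw [hρ]
      simp
    · intro i
      simp [hT]
  have h3 : MvPolynomial.eval₂Hom ρ T =
      ((MvPolynomial.aeval T : MvPolynomial (Fin n) ρ.range →ₐ[ρ.range] κ) :
        MvPolynomial (Fin n) ρ.range →+* κ).comp (MvPolynomial.map ρ.rangeRestrict) := by
    apply MvPolynomial.ringHom_ext
    · intro r
      simp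
      rfl
    · intro i
      simp
  have h4 : MvPolynomial.map ρ.rangeRestrict g = 0 := by
    apply hind
    rw [map_zero]
    have h5 : (π.comp (algebraMap (MvPolynomial (Fin n) R) D)) g = 0 := hg1
    rw [h2, h3] at h5
    exact h5
  change algebraMap (MvPolynomial (Fin n) R) D g ∈ q'
  rw [g.as_sum, map_sum]
  refine Ideal.sum_mem _ fun m _ => ?_
  have h6 : MvPolynomial.monomial m (g.coeff m) =
      MvPolynomial.C (g.coeff m) * MvPolynomial.monomial m 1 := by
    rw [MvPolynomial.C_mul_monomial, mul_one]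
  rw [h6, map_mul]
  apply Ideal.mul_mem_right
  have h7 : ρ (g.coeff m) = 0 := by
    have := congr_arg (MvPolynomial.coeff m) h4
    rw [MvPolynomial.coeff_map, MvPolynomial.coeff_zero] at this
    exact congr_arg Subtype.val this
  apply hcomap
  rw [Ideal.mem_comap, ← hker, RingHom.mem_ker]
  rw [hρ] at h7
  exact h7


open AlgebraicGeometry IsLocalRing in
/-- Depth at least two ascends along flat morphisms. -/
theorem two_le_depth_stalk {X S : Scheme.{u}} (f : X ⟶ S) [Flat f] (x : X)
    (hd : (2 : ℕ∞) ≤ LocCoh.depth (S.presheaf.stalk (f x)) (S.presheaf.stalk (f x))) :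
    (2 : ℕ∞) ≤ LocCoh.depth (X.presheaf.stalk x) (X.presheaf.stalk x) := by
  obtain ⟨a, ha, b, hb, hab⟩ := Pi1A.DepthTwo.exists_isRegPair_of_two_le_depth _ hd
  have hflat : (f.stalkMap x).hom.Flat := Flat.stalkMap f x
  have h2 := hab.map_of_flat (f.stalkMap x).hom hflat
  refine RegPair.two_le_depth_of_isRegPair (a := (f.stalkMap x).hom a)
    (b := (f.stalkMap x).hom b) ?_ ?_ ⟨?_, ?_⟩
  · exact map_nonunit (f.stalkMap x).hom a ha
  · exact map_nonunit (f.stalkMap x).hom b hb
  · exact fun m hm => h2.fst m hm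
  · exact fun m m' hm => h2.snd m m' hm

open AlgebraicGeometry IsLocalRing in
/-- Purity holds for the local rings of a smooth scheme over a base of depth `≥ 2`, at points which
are not generic in their fibre. -/
theorem purityHolds_stalk {X S : Scheme.{u}} (f : X ⟶ S) [Smooth f] [IsLocallyNoetherian S]
    (x : X) (hd : (2 : ℕ∞) ≤ LocCoh.depth (S.presheaf.stalk (f x)) (S.presheaf.stalk (f x)))
    (x' : X) (hx' : x' ⤳ x) (hne : x' ≠ x) (hfx : f x' = f x) :
    FEt.PurityHolds (X.presheaf.stalk x) := by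
  have hXN : IsLocallyNoetherian X := LocallyOfFiniteType.isLocallyNoetherian f
  have hdX := two_le_depth_stalk f x hd
  obtain ⟨V, hV, W, hW, hxW, e, hsm⟩ := Smooth.exists_isStandardSmooth f x
  obtain ⟨n, g, hg, hget⟩ := hsm.exists_etale_mvPolynomial
  have hx'W : x' ∈ W := hx'.mem_open W.2 hxW
  let _ : Algebra (MvPolynomial (Fin n) Γ(S, V)) Γ(X, W) := g.toAlgebra
  have : Algebra.Etale (MvPolynomial (Fin n) Γ(S, V)) Γ(X, W) := hget
  let q : Ideal Γ(X, W) := (hW.primeIdealOf ⟨x, hxW⟩).asIdeal
  let q' : Ideal Γ(X, W) := (hW.primeIdealOf ⟨x', hx'W⟩).asIdeal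
  let _ : Algebra Γ(X, W) (X.presheaf.stalk x) := X.presheaf.algebra_section_stalk ⟨x, hxW⟩
  have hloc : IsLocalization.AtPrime (X.presheaf.stalk x) q := hW.isLocalization_stalk ⟨x, hxW⟩
  have hle : q' ≤ q := by
    have h1 : (⟨x', hx'W⟩ : W) ⤳ (⟨x, hxW⟩ : W) :=
      (Topology.IsInducing.subtypeVal.specializes_iff).mp hx'
    have h2 : hW.primeIdealOf ⟨x', hx'W⟩ ⤳ hW.primeIdealOf ⟨x, hxW⟩ :=
      h1.map hW.isoSpec.hom.continuous
    exact (PrimeSpectrum.le_iff_specializes _ _).mpr h2
  have hneq : q' ≠ q := by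
    intro h
    apply hne
    have h1 : hW.primeIdealOf ⟨x', hx'W⟩ = hW.primeIdealOf ⟨x, hxW⟩ := PrimeSpectrum.ext h
    have h2 := congr_arg hW.fromSpec h1
    rwa [hW.fromSpec_primeIdealOf, hW.fromSpec_primeIdealOf] at h2
  have hcomap : q.comap (f.appLE V W e).hom ≤ q'.comap (f.appLE V W e).hom := by
    have h1 := IsAffineOpen.comap_primeIdealOf_appLE (f := f) V hV W hW e hxW
    have h2 := IsAffineOpen.comap_primeIdealOf_appLE (f := f) V hV W hW e hx'W
    have h3 : (⟨f x', e hx'W⟩ : V) = ⟨f x, e hxW⟩ := Subtype.ext hfx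
    rw [h3, ← h1] at h2
    exact (congr_arg PrimeSpectrum.asIdeal h2).ge
  let π : X.presheaf.stalk x →+* ResidueField (X.presheaf.stalk x) := residue _
  let ρ : Γ(S, V) →+* ResidueField (X.presheaf.stalk x) :=
    (π.comp ((algebraMap Γ(X, W) (X.presheaf.stalk x)).comp
      (algebraMap (MvPolynomial (Fin n) Γ(S, V)) Γ(X, W)))).comp MvPolynomial.C
  let T : Fin n → ResidueField (X.presheaf.stalk x) := fun i =>
    π (algebraMap Γ(X, W) (X.presheaf.stalk x)
      (algebraMap (MvPolynomial (Fin n) Γ(S, V)) Γ(X, W) (MvPolynomial.X i)))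
  have hdep : ¬ AlgebraicIndependent ρ.range T := by
    intro hind
    apply hneq
    refine eq_of_algebraicIndependent q q' hle (π.comp (algebraMap Γ(X, W) (X.presheaf.stalk x)))
      ?_ ?_ ρ rfl T (fun i => rfl) hind
    · rw [← RingHom.comap_ker]
      have : RingHom.ker π = maximalIdeal _ := ker_residue
      rw [this]
      exact IsLocalization.AtPrime.under_maximalIdeal (X.presheaf.stalk x) q
    · have h1 : (algebraMap (MvPolynomial (Fin n) Γ(S, V)) Γ(X, W)).comp MvPolynomial.C =
        (f.appLE V W e).hom := hg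
      rw [h1]
      exact hcomap
  obtain ⟨φ, hφ, t, ht, ht'⟩ := FlowExist.exists_flow_moving (R := Γ(S, V)) (D := Γ(X, W))
    (B := X.presheaf.stalk x) q π residue_surjective ker_residue ρ rfl T (fun i => rfl) hdep
  exact FlowPurityHolds.purityHolds_of_flow _ hdX φ hφ t ht ht'

open TopologicalSpace in
/-- In a Noetherian sober space, a point without proper generizations lies in every open set
whose closure contains it. -/
theorem mem_of_generic_top {α : Type*} [TopologicalSpace α] [NoetherianSpace α] [QuasiSober α] (y0 : α)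
    (h1 : ∀ y' : α, y' ⤳ y0 → y' = y0) (U : Set α) (hU : IsOpen U) (hcl : y0 ∈ closure U) :
    y0 ∈ U := by
  obtain ⟨η, hη⟩ := QuasiSober.sober (isIrreducible_irreducibleComponent (x := y0))
    isClosed_irreducibleComponent
  have hη' : η ⤳ y0 := by
    rw [specializes_iff_mem_closure, hη.def]
    exact mem_irreducibleComponent
  obtain rfl := h1 η hη'
  obtain ⟨o, ho, hne, hsub⟩ := NoetherianSpace.exists_isOpen_nonempty_subset_irreducibleComponent _
    (irreducibleComponent_mem_irreducibleComponents η)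
  rw [← hη.def] at hsub
  have hyo : η ∈ o := by
    obtain ⟨z, hz⟩ := hne
    have := hsub hz
    exact (specializes_iff_mem_closure.mpr this).mem_open ho hz
  obtain ⟨z, hz0, hzU⟩ := mem_closure_iff.mp hcl _ ho hyo
  have h3 : η ⤳ z := specializes_iff_mem_closure.mpr (hsub hz0)
  exact h3.mem_open hU hzU

open TopologicalSpace in
theorem mem_of_generic_emb {α β : Type*} [TopologicalSpace α] [TopologicalSpace β]
    [NoetherianSpace α] [QuasiSober α] (i : α → β) (hi : Topology.IsOpenEmbedding i) (y0 : α)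
    (hy : ∀ y' : β, y' ⤳ i y0 → y' = i y0) (U : Set β) (hU : IsOpen U) (hcl : i y0 ∈ closure U) :
    i y0 ∈ U := by
  refine mem_of_generic_top y0 (fun y' h => hi.injective (hy _ (h.map hi.continuous))) (i ⁻¹' U)
    (hU.preimage hi.continuous) ?_
  rw [← hi.isOpenMap.preimage_closure_eq_closure_preimage hi.continuous]
  exact hcl

open AlgebraicGeometry TopologicalSpace in
theorem mem_of_generic {Y : Scheme.{u}} [IsLocallyNoetherian Y] (y : Y)
    (hy : ∀ y' : Y, y' ⤳ y → y' = y) (U : Set Y) (hU : IsOpen U) (hcl : y ∈ closure U) : y ∈ U := by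
  obtain ⟨W, hW, hyW, -⟩ := exists_isAffineOpen_mem_and_subset (show y ∈ (⊤ : Y.Opens) from trivial)
  have : IsNoetherianRing Γ(Y, W) := IsLocallyNoetherian.component_noetherian ⟨W, hW⟩
  have : NoetherianSpace W.toScheme := noetherianSpace_of_isAffineOpen W hW
  obtain ⟨y, rfl⟩ : ∃ y' : W.toScheme, W.ι y' = y := ⟨⟨y, hyW⟩, rfl⟩
  exact mem_of_generic_emb W.ι W.ι.isOpenEmbedding y hy U hU hcl

open AlgebraicGeometry TopologicalSpace CategoryTheory CategoryTheory.Limits in
/-- If `x ∉ U` lies in the closure of the part of `U` in its fibre, it is not a generic point of the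
fibre. -/
theorem exists_generization {X S : Scheme.{u}} (f : X ⟶ S) [LocallyOfFiniteType f] (x : X) (U : X.Opens)
    (hx : x ∉ U) (hcl : x ∈ closure ((U : Set X) ∩ f ⁻¹' {f x})) :
    ∃ x' : X, x' ⤳ x ∧ x' ≠ x ∧ f x' = f x := by
  by_contra hcon
  push Not at hcon
  generalize hs : f x = s at hcl hcon
  have : LocallyOfFiniteType (f.fiberToSpecResidueField s) :=
    inferInstanceAs (LocallyOfFiniteType (pullback.snd _ _))
  have : IsLocallyNoetherian (f.fiber s) :=
    LocallyOfFiniteType.isLocallyNoetherian (f.fiberToSpecResidueField s)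
  obtain ⟨y, hy⟩ : x ∈ Set.range (f.fiberι s) := by
    rw [f.range_fiberι]
    exact hs
  have hemb : Topology.IsEmbedding (f.fiberι s) := (f.fiberι s).isEmbedding
  apply hx
  rw [← hy]
  refine mem_of_generic y ?_ ((f.fiberι s) ⁻¹ᵁ U) ((f.fiberι s) ⁻¹ᵁ U).2 ?_
  · intro y' hy'
    by_contra hne
    refine hcon (f.fiberι _ y') ?_ ?_ ?_
    · rw [← hy]
      exact hy'.map hemb.continuous
    · rw [← hy]
      exact fun h => hne (hemb.injective h)
    · have : f.fiberι _ y' ∈ Set.range (f.fiberι s) := ⟨y', rfl⟩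
      rw [f.range_fiberι] at this
      exact this
  · rw [hemb.isInducing.closure_eq_preimage_closure_image]
    have : f.fiberι s '' ((f.fiberι s) ⁻¹ᵁ U) = (U : Set X) ∩ f ⁻¹' {s} := by
      have h1 : (((f.fiberι s) ⁻¹ᵁ U : (f.fiber s).Opens) : Set (f.fiber s)) = f.fiberι s ⁻¹' U := rfl
      rw [h1, Set.image_preimage_eq_inter_range, f.range_fiberι]
    rw [this, Set.mem_preimage, hy]
    exact hcl

end Groth.Agent.Pi1B.FlowSmooth
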