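import Groth.Prelude.Def_Pi1
import Mathlib.RingTheory.Regular.Flat
import Mathlib.RingTheory.KrullDimension.Regular
import Mathlib.RingTheory.AdicCompletion.LocalRing
import Mathlib.RingTheory.AdicCompletion.Algebra
import Groth.Agent.S0564
import Groth.Agent.S0543
import Groth.Agent.S0547
import Groth.Agent.S0548
import Groth.Agent.Models.CICpl
import Groth.Agent.CalgA.AdicLe
import Groth.Agent.Ega41.LiftKill
import Groth.Agent.Sga3C.QSliceAlg
import Groth.Agent.Ega4A.RegCM
import Groth.Agent.Ega4A.CMCatenary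
import Groth.Agent.Ega4A.QuotLoc
import Groth.Agent.CalgA.DepthSmall

/-!
# Induction principle for complete intersections

`ci_induction`: a ring-iso invariant property of Noetherian local rings which holds for regular local
rings of dimension `≥ d`, passes from the completion to the ring and from `A` (complete) and its
localizations at primes with `dim A/p = 1`, `f ∉ p` to `A/f`, holds for all complete intersections of
dimension `≥ d`.
-/

set_option autoImplicit false
universe u

open IsLocalRing RingTheory.Sequence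

namespace Groth.Agent.Pi1B.CIInduction

/-- `A` is a quotient of a regular local ring by a regular sequence of length `n`. -/
def Pres (n : ℕ) (A : Type u) [CommRing A] : Prop :=
  ∃ (B : Type u) (_ : CommRing B) (_ : IsRegularLocalRing B) (rs : List B) (φ : B →+* A),
    rs.length = n ∧ Function.Surjective φ ∧ RingHom.ker φ = Ideal.ofList rs ∧ IsRegular B rs

lemma Pres.congr {n : ℕ} {A A' : Type u} [CommRing A] [CommRing A'] (e : A ≃+* A')
    (h : Pres n A) : Pres n A' := by
  obtain ⟨B, _, _, rs, φ, hn, hφ, hker, hreg⟩ := h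
  exact ⟨B, inferInstance, inferInstance, rs, e.toRingHom.comp φ, hn, e.surjective.comp hφ,
    by rw [RingHom.ker_equiv_comp, hker], hreg⟩

lemma mem_maximalIdeal_of_isRegular {B : Type u} [CommRing B] [IsLocalRing B] {rs : List B}
    (h : IsRegular B rs) : ∀ r ∈ rs, r ∈ maximalIdeal B := by
  have hne : Ideal.ofList rs ≠ ⊤ := fun h' => h.top_ne_smul (by rw [h']; simp)
  exact fun r hr => le_maximalIdeal hne (Ideal.subset_span hr)

/-- Completing a presentation. -/
lemma exists_cpl_pres {n : ℕ} {A : Type u} [CommRing A] [IsLocalRing A] [IsNoetherianRing A]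
    (h : Pres n A) : ∃ (B : Type u) (_ : CommRing B) (_ : IsRegularLocalRing B)
      (_ : IsAdicComplete (maximalIdeal B) B) (rs : List B)
      (φ : B →+* AdicCompletion (maximalIdeal A) A),
    rs.length = n ∧ Function.Surjective φ ∧ RingHom.ker φ = Ideal.ofList rs ∧ IsRegular B rs := by
  obtain ⟨R, _, _, rs, ψ, hn, hψ, hkerψ, hreg⟩ := h
  have hRN : IsNoetherianRing (AdicCompletion (maximalIdeal R) R) := Groth.Agent.S0543.result R _
  have hTreg : IsRegularLocalRing (AdicCompletion (maximalIdeal R) R) :=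
    (Groth.Agent.S0548.result R).mp inferInstance
  have hff : Module.FaithfullyFlat R (AdicCompletion (maximalIdeal R) R) :=
    Module.FaithfullyFlat.of_flat_of_isLocalHom
  obtain ⟨φ, -, hφ, hker⟩ := Groth.Agent.Models.CICpl.exists_surjective_completion ψ hψ
  refine ⟨AdicCompletion (maximalIdeal R) R, inferInstance, hTreg, inferInstance,
    rs.map (algebraMap R _), φ, by simpa using hn, hφ, ?_, hreg.of_faithfullyFlat⟩
  rw [hker, hkerψ, Ideal.map_ofList]

lemma Pres.cpl {n : ℕ} {A : Type u} [CommRing A] [IsLocalRing A] [IsNoetherianRing A]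
    (h : Pres n A) : Pres n (AdicCompletion (maximalIdeal A) A) := by
  obtain ⟨B, h1, h2, -, rs, φ, h3⟩ := exists_cpl_pres h
  exact ⟨B, h1, h2, rs, φ, h3⟩

/-- Localizing a presentation. -/
lemma Pres.localization {n : ℕ} {A : Type u} [CommRing A] (h : Pres n A) (p : Ideal A)
    [p.IsPrime] : Pres n (Localization.AtPrime p) := by
  obtain ⟨B, _, _, rs, q, hn, hq, hkerq, hreg⟩ := h
  let P' : Ideal B := p.comap q
  have hP' : P'.IsPrime := Ideal.comap_isPrime q p
  have hBreg : IsRegularLocalRing (Localization.AtPrime P') := Groth.Agent.S0564.result B P'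
  let φ : Localization.AtPrime P' →+* Localization.AtPrime p :=
    Localization.localRingHom P' p q rfl
  have hφ : Function.Surjective φ := Groth.Agent.Ega4A.QuotLoc.localRingHom_surjective q hq p P' rfl
  have hkerφ : RingHom.ker φ = Ideal.ofList (rs.map (algebraMap B (Localization.AtPrime P'))) := by
    rw [← Ideal.map_ofList, ← hkerq]
    ext y
    constructor
    · intro hy
      obtain ⟨b, t, rfl⟩ := IsLocalization.exists_mk'_eq P'.primeCompl y
      rw [RingHom.mem_ker, Localization.localRingHom_mk', IsLocalization.mk'_eq_zero_iff] at hy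
      obtain ⟨m, hm⟩ := hy
      obtain ⟨c, hc⟩ := hq m.1
      have hcP : c ∈ P'.primeCompl := by
        intro h
        apply m.2
        rw [← hc]
        exact h
      rw [← hc, ← map_mul] at hm
      have h1 : IsLocalization.mk' (Localization.AtPrime P') b t =
          IsLocalization.mk' (Localization.AtPrime P') (1 : B) (⟨c, hcP⟩ * t) *
            algebraMap B (Localization.AtPrime P') (c * b) := by
        rw [mul_comm, ← IsLocalization.mk'_eq_mul_mk'_one]
        rw [IsLocalization.mk'_eq_iff_eq]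
        congr 1
        simp only [Submonoid.coe_mul]
        ring
      rw [h1]
      exact Ideal.mul_mem_left _ _ (Ideal.mem_map_of_mem _ hm)
    · intro hy
      have h1 : (RingHom.ker q).map (algebraMap B (Localization.AtPrime P')) ≤ RingHom.ker φ := by
        rw [Ideal.map_le_iff_le_comap]
        intro b hb
        rw [Ideal.mem_comap, RingHom.mem_ker, Localization.localRingHom_to_map,
          (RingHom.mem_ker).mp hb, map_zero]
      exact h1 hy
  have hmemP' : ∀ r ∈ rs, r ∈ P' := by
    intro r hr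
    rw [Ideal.mem_comap]
    have : r ∈ RingHom.ker q := by
      rw [hkerq]
      exact Ideal.subset_span hr
    rw [(RingHom.mem_ker).mp this]
    exact zero_mem _
  exact ⟨Localization.AtPrime P', inferInstance, hBreg, rs.map (algebraMap B _), φ, by simpa using hn,
    hφ, hkerφ, hreg.1.isRegular_of_isLocalization_of_mem (Localization.AtPrime P') P' hmemP'⟩

/-- Splitting off the last element of the regular sequence. -/
lemma exists_hyperplane {n : ℕ} {B C : Type u} [CommRing B] [IsRegularLocalRing B] [CommRing C]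
    (rs : List B) (φ : B →+* C) (hn : rs.length = n + 1) (hφ : Function.Surjective φ)
    (hker : RingHom.ker φ = Ideal.ofList rs) (hreg : IsRegular B rs) :
    ∃ (I : Ideal B) (_ : IsLocalRing (B ⧸ I)) (f : B ⧸ I), Pres n (B ⧸ I) ∧
      f ∈ maximalIdeal (B ⧸ I) ∧ IsSMulRegular (B ⧸ I) f ∧
      Nonempty (((B ⧸ I) ⧸ Ideal.span {f}) ≃+* C) := by
  obtain ⟨rs', f, rfl⟩ : ∃ (rs' : List B) (f : B), rs = rs' ++ [f] := by
    rcases List.eq_nil_or_concat rs with h | ⟨l, a, h⟩
    · simp [h] at hn
    · exact ⟨l, a, by simpa using h⟩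
  have hm := mem_maximalIdeal_of_isRegular hreg
  have hw := hreg.toIsWeaklyRegular
  rw [isWeaklyRegular_append_iff] at hw
  obtain ⟨hw1, hw2⟩ := hw
  have hI : Ideal.ofList rs' ≤ maximalIdeal B :=
    Ideal.span_le.mpr fun r hr => hm r (List.mem_append_left _ hr)
  have hIne : Ideal.ofList rs' ≠ ⊤ := fun h => by
    rw [h, top_le_iff] at hI
    exact (maximalIdeal.isMaximal B).ne_top hI
  have hnt : Nontrivial (B ⧸ Ideal.ofList rs') := Ideal.Quotient.nontrivial_iff.mpr hIne
  have hloc : IsLocalRing (B ⧸ Ideal.ofList rs') :=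
    IsLocalRing.of_surjective' (Ideal.Quotient.mk _) Ideal.Quotient.mk_surjective
  have hreg' : IsRegular B rs' := ⟨hw1, by
    intro h
    apply hIne
    simpa using h.symm⟩
  refine ⟨Ideal.ofList rs', hloc, Ideal.Quotient.mk _ f, ?_, ?_, ?_, ?_⟩
  · exact ⟨B, inferInstance, inferInstance, rs', Ideal.Quotient.mk _, by simpa using hn,
      Ideal.Quotient.mk_surjective, Ideal.mk_ker, hreg'⟩
  · have h1 : (maximalIdeal B).map (Ideal.Quotient.mk (Ideal.ofList rs')) =
        maximalIdeal (B ⧸ Ideal.ofList rs') :=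
      IsLocalRing.map_maximalIdeal_of_surjective _ Ideal.Quotient.mk_surjective
    rw [← h1]
    exact Ideal.mem_map_of_mem _ (hm f (by simp))
  · rw [isWeaklyRegular_singleton_iff] at hw2
    have h1 : (Ideal.ofList rs' • ⊤ : Submodule B B) = Ideal.ofList rs' := by simp
    have h2 : IsSMulRegular (B ⧸ Ideal.ofList rs') f := by
      rw [h1] at hw2
      exact hw2
    intro x y hxy
    exact h2 (by simpa [Algebra.smul_def] using hxy)
  · have h1 : Ideal.span {Ideal.Quotient.mk (Ideal.ofList rs') f} =
        (Ideal.span {f}).map (Ideal.Quotient.mk (Ideal.ofList rs')) := by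
      rw [Ideal.map_span, Set.image_singleton]
    have h2 : Ideal.ofList rs' ⊔ Ideal.span {f} = RingHom.ker φ := by
      rw [hker, Ideal.ofList_append, Ideal.ofList_singleton]
    exact ⟨((Ideal.quotEquivOfEq h1).trans
      (DoubleQuot.quotQuotEquivQuotSup _ _)).trans
      ((Ideal.quotEquivOfEq h2).trans (RingHom.quotientKerEquivOfSurjective hφ))⟩

/-- transport of Cohen-Macaulayness along a ring isomorphism. -/
theorem isCM_of_ringEquiv {R : Type u} {S : Type u} [CommRing R] [CommRing S] (e : R ≃+* S)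
    (h : LocCoh.IsCohenMacaulayLocalRing R) : LocCoh.IsCohenMacaulayLocalRing S := by
  have h1 : IsLocalRing R := h.toIsLocalRing
  have h2 : IsNoetherianRing R := h.toIsNoetherian
  have h3 : IsLocalRing S := e.isLocalRing
  have h4 : IsNoetherianRing S := isNoetherianRing_of_ringEquiv R e
  refine { supportDim_eq_depth := ?_ }
  have h5 := h.supportDim_eq_depth
  rw [Module.supportDim_self_eq_ringKrullDim] at h5 ⊢
  rw [← ringKrullDim_eq_of_ringEquiv e, h5, Groth.Agent.CalgA.DepthSmall.depth_ringEquiv e]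

/-- A ring with a presentation is Cohen-Macaulay. -/
lemma Pres.isCM {n : ℕ} : ∀ {A : Type u} [CommRing A], Pres n A → LocCoh.IsCohenMacaulayLocalRing A := by
  induction n with
  | zero =>
    intro A _ h
    obtain ⟨B, _, _, rs, φ, hn, hφ, hker, hreg⟩ := h
    rw [List.length_eq_zero_iff] at hn
    subst hn
    have hinj : Function.Injective φ := by
      rw [RingHom.injective_iff_ker_eq_bot, hker, Ideal.ofList_nil]
    have := Groth.Agent.Ega4A.RegCM.isCohenMacaulayLocalRing_of_isRegularLocalRing B
    exact isCM_of_ringEquiv (RingEquiv.ofBijective φ ⟨hinj, hφ⟩) this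
  | succ n ih =>
    intro A _ h
    obtain ⟨B, _, _, rs, φ, hn, hφ, hker, hreg⟩ := h
    obtain ⟨I, _, f, h1, h2, h3, ⟨e⟩⟩ := exists_hyperplane rs φ hn hφ hker hreg
    have h4 := ih h1
    exact isCM_of_ringEquiv e
      (Groth.Agent.Sga3C.QSliceAlg.isCM_quotient_span h2 h3)

lemma Pres.height_add {n : ℕ} {A : Type u} [CommRing A] [IsLocalRing A] [IsNoetherianRing A]
    (h : Pres n A) (p : Ideal A) [p.IsPrime] :
    ringKrullDim (Localization.AtPrime p) + ringKrullDim (A ⧸ p) = ringKrullDim A := by
  have hcm := h.isCM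
  rw [IsLocalization.AtPrime.ringKrullDim_eq_height p]
  exact Groth.Agent.Ega4A.CMCatenary.height_add_ringKrullDim_quotient (M := A)
    hcm.supportDim_eq_depth (by
      rw [Module.support_eq_zeroLocus, Module.annihilator_eq_bot.mpr inferInstance]
      simp) p

theorem main (P : ∀ (A : Type u) [CommRing A] [IsLocalRing A], Prop)
    (hiso : ∀ (A B : Type u) [CommRing A] [IsLocalRing A] [CommRing B] [IsLocalRing B] (_ : A ≃+* B), P A → P B)
    (hcompl : ∀ (A : Type u) [CommRing A] [IsLocalRing A] [IsNoetherianRing A]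
      [IsLocalRing (AdicCompletion (IsLocalRing.maximalIdeal A) A)],
      P (AdicCompletion (IsLocalRing.maximalIdeal A) A) → P A)
    (d : ℕ) (hreg : ∀ (A : Type u) [CommRing A] [IsRegularLocalRing A], (d : WithBot ℕ∞) ≤ ringKrullDim A → P A)
    (hstep : ∀ (A : Type u) [CommRing A] [IsLocalRing A] [IsNoetherianRing A]
      [IsAdicComplete (IsLocalRing.maximalIdeal A) A] (f : A) (_ : f ∈ IsLocalRing.maximalIdeal A)
      (_ : IsSMulRegular A f) [IsAdicComplete (Ideal.span {f}) A] [IsLocalRing (A ⧸ Ideal.span {f})],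
      ((d + 1 : ℕ) : ℕ∞) ≤ LocCoh.depth A A → P A →
      (∀ (p : Ideal A) [p.IsPrime], f ∉ p → ringKrullDim (A ⧸ p) = 1 → P (Localization.AtPrime p)) →
      P (A ⧸ Ideal.span {f})) (n : ℕ) :
    ∀ (A : Type u) [CommRing A] [IsLocalRing A] [IsNoetherianRing A],
      Pres n (AdicCompletion (IsLocalRing.maximalIdeal A) A) →
      (d : WithBot ℕ∞) ≤ ringKrullDim A → P A := by
  induction n with
  | zero =>
    intro A _ _ _ h hdim
    obtain ⟨B, _, _, rs, φ, hn, hφ, hker, hreg'⟩ := h
    rw [List.length_eq_zero_iff] at hn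
    subst hn
    have hinj : Function.Injective φ := by
      rw [RingHom.injective_iff_ker_eq_bot, hker, Ideal.ofList_nil]
    have e : B ≃+* AdicCompletion (maximalIdeal A) A := RingEquiv.ofBijective φ ⟨hinj, hφ⟩
    apply hcompl A
    apply hiso B _ e
    apply hreg B
    rwa [ringKrullDim_eq_of_ringEquiv e, Groth.Agent.S0547.result]
  | succ n ih =>
    intro A _ _ _ h hdim
    have : IsNoetherianRing (AdicCompletion (maximalIdeal A) A) := Groth.Agent.S0543.result A _
    apply hcompl A
    obtain ⟨B, _, _, _, rs, φ, hn, hφ, hker, hreg'⟩ := exists_cpl_pres h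
    obtain ⟨I, _, f, h1, h2, h3, ⟨e⟩⟩ := exists_hyperplane rs φ hn hφ hker hreg'
    have e' : ((B ⧸ I) ⧸ Ideal.span {f}) ≃+* AdicCompletion (maximalIdeal A) A :=
      e.trans (AdicCompletion.ofAlgEquiv
        (maximalIdeal (AdicCompletion (maximalIdeal A) A))).symm.toRingEquiv
    have hloc' : IsLocalRing ((B ⧸ I) ⧸ Ideal.span {f}) := e'.symm.isLocalRing
    have hcplI : IsAdicComplete (maximalIdeal (B ⧸ I)) (B ⧸ I) :=
      Groth.Agent.Ega41.LiftKill.isAdicComplete_quotient B I
    have hcplf : IsAdicComplete (Ideal.span {f}) (B ⧸ I) :=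
      Groth.Agent.CalgA.AdicLe.isAdicComplete_of_le
        ((Ideal.span_singleton_le_iff_mem _).mpr h2) (Submodule.fg_span_singleton f)
    have hdimI : ringKrullDim A + 1 = ringKrullDim (B ⧸ I) := by
      rw [← ringKrullDim_quotient_span_singleton_succ_eq_ringKrullDim h3 h2,
        ringKrullDim_eq_of_ringEquiv e', Groth.Agent.S0547.result]
    have hdimI' : ((d + 1 : ℕ) : WithBot ℕ∞) ≤ ringKrullDim (B ⧸ I) := by
      rw [← hdimI]
      push_cast
      gcongr
    have hcm := h1.isCM
    have hdep : ringKrullDim (B ⧸ I) = ((LocCoh.depth (B ⧸ I) (B ⧸ I) : ℕ∞) : WithBot ℕ∞) := by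
      rw [← hcm.supportDim_eq_depth, Module.supportDim_self_eq_ringKrullDim]
    apply hiso _ _ e'
    apply hstep (B ⧸ I) f h2 h3
    · rw [hdep] at hdimI'
      exact_mod_cast hdimI'
    · exact ih _ h1.cpl ((by exact_mod_cast Nat.le_succ d : (d : WithBot ℕ∞) ≤ ((d + 1 : ℕ) : WithBot ℕ∞)).trans hdimI')
    · intro p _ hfp hp1
      apply ih _ (h1.localization p).cpl
      have h4 := h1.height_add p
      rw [hp1, ← hdimI] at h4
      refine le_trans hdim ?_
      rw [← ENat.WithBot.add_le_add_one_right_iff, h4]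

/-- (L5) -/
theorem ci_induction (P : ∀ (A : Type u) [CommRing A] [IsLocalRing A], Prop)
    (hiso : ∀ (A B : Type u) [CommRing A] [IsLocalRing A] [CommRing B] [IsLocalRing B] (_ : A ≃+* B), P A → P B)
    (hcompl : ∀ (A : Type u) [CommRing A] [IsLocalRing A] [IsNoetherianRing A]
      [IsLocalRing (AdicCompletion (IsLocalRing.maximalIdeal A) A)],
      P (AdicCompletion (IsLocalRing.maximalIdeal A) A) → P A)
    (d : ℕ) (hreg : ∀ (A : Type u) [CommRing A] [IsRegularLocalRing A], (d : WithBot ℕ∞) ≤ ringKrullDim A → P A)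
    (hstep : ∀ (A : Type u) [CommRing A] [IsLocalRing A] [IsNoetherianRing A]
      [IsAdicComplete (IsLocalRing.maximalIdeal A) A] (f : A) (_ : f ∈ IsLocalRing.maximalIdeal A)
      (_ : IsSMulRegular A f) [IsAdicComplete (Ideal.span {f}) A] [IsLocalRing (A ⧸ Ideal.span {f})],
      ((d + 1 : ℕ) : ℕ∞) ≤ LocCoh.depth A A → P A →
      (∀ (p : Ideal A) [p.IsPrime], f ∉ p → ringKrullDim (A ⧸ p) = 1 → P (Localization.AtPrime p)) →
      P (A ⧸ Ideal.span {f}))
    (A : Type u) [CommRing A] [IsLocalRing A] [IsNoetherianRing A] (hA : Pi1.IsCompleteIntersection A)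
    (hdim : (d : WithBot ℕ∞) ≤ ringKrullDim A) : P A := by
  obtain ⟨B, _, _, rs, -, hrs, ⟨e⟩⟩ := hA
  refine main P hiso hcompl d hreg hstep rs.length A
    ⟨B, inferInstance, inferInstance, rs, e.symm.toRingHom.comp (Ideal.Quotient.mk _), rfl,
      e.symm.surjective.comp Ideal.Quotient.mk_surjective, ?_, hrs⟩ hdim
  rw [RingHom.ker_equiv_comp, Ideal.mk_ker]

end Groth.Agent.Pi1B.CIInduction
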