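import Mathlib.RingTheory.Etale.Kaehler
import Mathlib.RingTheory.Kaehler.Polynomial
import Mathlib.RingTheory.RingHom.Etale

/-!
# Etale maps to affine space and differentials

* `formallyEtale_of_bijective`: for `R → S → T` with `T` formally smooth over `R` and
  `T ⊗ Ω[S/R] → Ω[T/R]` bijective, `T` is formally etale over `S`.
* `formallyEtale_aeval_iff`: for `C` formally smooth over `k`, the map
  `k[X_i] → C`, `X_i ↦ x_i` is formally etale iff the `d x_i` form a basis of `Ω[C/k]`.
-/

set_option autoImplicit false

open TensorProduct KaehlerDifferential Algebra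

namespace Groth.Agent.Pi1B.EtaleDiff

universe u₁ u₂ u₃

theorem formallyEtale_of_bijective {R : Type u₁} {S : Type u₂} {T : Type u₃} [CommRing R] [CommRing S] [CommRing T] [Algebra R S]
    [Algebra S T] [Algebra R T] [IsScalarTower R S T] [FormallySmooth R T]
    (h : Function.Bijective (KaehlerDifferential.mapBaseChange R S T)) :
    FormallyEtale S T := by
  constructor
  · refine ⟨fun a b => ?_⟩
    obtain ⟨a', rfl⟩ := KaehlerDifferential.map_surjective R S T a
    obtain ⟨b', rfl⟩ := KaehlerDifferential.map_surjective R S T b
    rw [← sub_eq_zero, ← map_sub]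
    rw [(KaehlerDifferential.exact_mapBaseChange_map R S T)]
    exact h.2 _
  · refine ⟨fun a b => ?_⟩
    rw [← sub_eq_zero]
    have h1 : H1Cotangent.δ R S T (a - b) = 0 := by
      apply h.1
      rw [map_zero]
      rw [H1Cotangent.exact_δ_mapBaseChange]
      exact ⟨_, rfl⟩
    rw [H1Cotangent.exact_map_δ] at h1
    obtain ⟨c, hc⟩ := h1
    rw [← hc, Subsingleton.elim c 0, map_zero]

theorem bijective_of_formallyEtale {R : Type u₁} {S : Type u₂} {T : Type u₃} [CommRing R] [CommRing S] [CommRing T] [Algebra R S]
    [Algebra S T] [Algebra R T] [IsScalarTower R S T] [FormallyEtale S T] :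
    Function.Bijective (KaehlerDifferential.mapBaseChange R S T) :=
  (tensorKaehlerEquivOfFormallyEtale R S T).bijective

theorem bijective_mapBaseChange_iff {k : Type u₁} {σ : Type u₂} {C : Type u₃} [CommRing k] [CommRing C]
    [Algebra k C] [Algebra (MvPolynomial σ k) C] [IsScalarTower k (MvPolynomial σ k) C] :
    Function.Bijective (KaehlerDifferential.mapBaseChange k (MvPolynomial σ k) C) ↔
      Function.Bijective (Finsupp.linearCombination C
        (fun i => KaehlerDifferential.D k C (algebraMap (MvPolynomial σ k) C (MvPolynomial.X i)))) := by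
  set b := (KaehlerDifferential.mvPolynomialBasis k σ).baseChange C
  have : (Finsupp.linearCombination C
        (fun i => KaehlerDifferential.D k C (algebraMap (MvPolynomial σ k) C (MvPolynomial.X i)))) =
      (KaehlerDifferential.mapBaseChange k (MvPolynomial σ k) C) ∘ₗ b.repr.symm.toLinearMap := by
    ext i
    simp [b]
  rw [this]
  simp only [LinearMap.coe_comp, LinearEquiv.coe_coe, EquivLike.bijective_comp]

theorem formallyEtale_aeval_iff {k : Type u₁} {σ : Type u₂} {C : Type u₃} [CommRing k] [CommRing C]
    [Algebra k C] [FormallySmooth k C] (x : σ → C) :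
    (MvPolynomial.aeval x : MvPolynomial σ k →ₐ[k] C).toRingHom.FormallyEtale ↔
      Function.Bijective (Finsupp.linearCombination C (fun i => KaehlerDifferential.D k C (x i))) := by
  letI := (MvPolynomial.aeval x : MvPolynomial σ k →ₐ[k] C).toRingHom.toAlgebra
  haveI : IsScalarTower k (MvPolynomial σ k) C := .of_algebraMap_eq' (by
    ext a; simp [RingHom.algebraMap_toAlgebra])
  have h1 : (Finsupp.linearCombination C (fun i => KaehlerDifferential.D k C (x i))) =
      (Finsupp.linearCombination C
        (fun i => KaehlerDifferential.D k C (algebraMap (MvPolynomial σ k) C (MvPolynomial.X i)))) := by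
    simp [RingHom.algebraMap_toAlgebra]
  rw [h1, ← bijective_mapBaseChange_iff]
  constructor
  · intro h
    haveI : FormallyEtale (MvPolynomial σ k) C := h
    exact bijective_of_formallyEtale
  · intro h
    exact formallyEtale_of_bijective h

/-- Being formally etale over affine space only depends on the differentials of the coordinates. -/
theorem formallyEtale_aeval_congr {k : Type u₁} {σ : Type u₂} {C : Type u₃} [CommRing k] [CommRing C]
    [Algebra k C] (x x' : σ → C)
    (hD : ∀ i, KaehlerDifferential.D k C (x i) = KaehlerDifferential.D k C (x' i))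
    (h : (MvPolynomial.aeval x : MvPolynomial σ k →ₐ[k] C).toRingHom.FormallyEtale) :
    (MvPolynomial.aeval x' : MvPolynomial σ k →ₐ[k] C).toRingHom.FormallyEtale := by
  haveI : FormallySmooth k C := by
    letI := (MvPolynomial.aeval x : MvPolynomial σ k →ₐ[k] C).toRingHom.toAlgebra
    haveI : IsScalarTower k (MvPolynomial σ k) C := .of_algebraMap_eq' (by
      ext a; simp [RingHom.algebraMap_toAlgebra])
    haveI : FormallyEtale (MvPolynomial σ k) C := h
    exact FormallySmooth.comp k (MvPolynomial σ k) C
  rw [formallyEtale_aeval_iff] at h ⊢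
  simpa only [hD] using h

/-- Being etale over affine space only depends on the differentials of the coordinates. -/
theorem etale_aeval_congr {k : Type u₁} {σ : Type u₂} {C : Type u₃} [CommRing k] [Finite σ] [CommRing C]
    [Algebra k C] (x x' : σ → C)
    (hD : ∀ i, KaehlerDifferential.D k C (x i) = KaehlerDifferential.D k C (x' i))
    (h : (MvPolynomial.aeval x : MvPolynomial σ k →ₐ[k] C).toRingHom.Etale) :
    (MvPolynomial.aeval x' : MvPolynomial σ k →ₐ[k] C).toRingHom.Etale := by
  have h1 : (MvPolynomial.aeval x : MvPolynomial σ k →ₐ[k] C).toRingHom.FormallyEtale :=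
    letI := (MvPolynomial.aeval x : MvPolynomial σ k →ₐ[k] C).toRingHom.toAlgebra
    haveI : Algebra.Etale (MvPolynomial σ k) C := h
    (inferInstance : Algebra.FormallyEtale (MvPolynomial σ k) C)
  have h2 := formallyEtale_aeval_congr x x' hD h1
  have h3 : Algebra.FinitePresentation k C := by
    let := (MvPolynomial.aeval x : MvPolynomial σ k →ₐ[k] C).toRingHom.toAlgebra
    have : IsScalarTower k (MvPolynomial σ k) C := .of_algebraMap_eq' (by
      ext a; simp [RingHom.algebraMap_toAlgebra])
    have : Algebra.Etale (MvPolynomial σ k) C := h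
    exact Algebra.FinitePresentation.trans k (MvPolynomial σ k) C
  let := (MvPolynomial.aeval x' : MvPolynomial σ k →ₐ[k] C).toRingHom.toAlgebra
  have : IsScalarTower k (MvPolynomial σ k) C := .of_algebraMap_eq' (by
    ext a; simp [RingHom.algebraMap_toAlgebra])
  have : Algebra.FormallyEtale (MvPolynomial σ k) C := h2
  have : Algebra.FinitePresentation (MvPolynomial σ k) C :=
    Algebra.FinitePresentation.of_restrict_scalars_finitePresentation k (MvPolynomial σ k) C
  exact (⟨inferInstance, inferInstance⟩ : Algebra.Etale (MvPolynomial σ k) C)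

end Groth.Agent.Pi1B.EtaleDiff
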