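import Groth.Agent.Pi1B.NoetherP
import Groth.Agent.Pi1B.EtaleDiff
import Mathlib.RingTheory.Etale.Field
import Mathlib.RingTheory.Unramified.Finite
import Mathlib.RingTheory.RingHom.Etale
import Mathlib.RingTheory.Algebraic.Integral
import Mathlib.RingTheory.Flat.TorsionFree
import Mathlib.RingTheory.Etale.QuasiFinite

/-!
# Finite etale maps to affine space in characteristic `p` (Achinger, Stacks 0G1F, 0G1G)

Main result `exists_finite_etale`: let `k` be a field of characteristic `p`, `C` etale over
`k[X_1, …, X_n]` via `x`, and `J` an ideal of `C` such that `C / J` is integral over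
`k[X_1, …, X_n]`. Then `x` can be changed by elements of `J` to an `x'` such that `C` is finite
etale over `k[X_1, …, X_n]` via `x'`.
-/

set_option autoImplicit false

open MvPolynomial Polynomial

namespace Groth.Agent.Pi1B.Achinger

/-- An element of an etale algebra over a domain satisfies a nonzero polynomial. -/
theorem exists_polynomial_of_etale {P C : Type*} [CommRing P] [IsDomain P] [CommRing C] [Algebra P C]
    [Algebra.Etale P C] (y : C) : IsAlgebraic P y := by
  have hinj : Function.Injective (Algebra.TensorProduct.includeRight :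
      C →ₐ[P] TensorProduct P (FractionRing P) C) :=
    Algebra.TensorProduct.includeRight_injective (IsFractionRing.injective P (FractionRing P))
  have : Module.Finite (FractionRing P) (TensorProduct P (FractionRing P) C) :=
    Algebra.FormallyUnramified.finite_of_free _ _
  rw [← isAlgebraic_algHom_iff _ hinj]
  rw [IsFractionRing.isAlgebraic_iff P (FractionRing P) (TensorProduct P (FractionRing P) C)]
  exact (Algebra.IsIntegral.isIntegral (R := FractionRing P) _).isAlgebraic

theorem isIntegral_of_le {k C : Type*} [CommRing k] [CommRing C] [Algebra k C] (S S' : Subalgebra k C)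
    (h : ∀ c ∈ S', IsIntegral S c) (h' : ∀ c : C, IsIntegral S' c) (c : C) : IsIntegral S c := by
  let f : S' →+* integralClosure S C :=
    { toFun := fun c => ⟨c, h c c.2⟩
      map_one' := rfl
      map_mul' := fun _ _ => rfl
      map_zero' := rfl
      map_add' := fun _ _ => rfl }
  obtain ⟨p, hp, hp'⟩ := h' c
  have : IsIntegral (integralClosure S C) c := by
    refine ⟨p.map f, hp.map f, ?_⟩
    rw [Polynomial.eval₂_map]
    exact hp'
  exact isIntegral_trans c this

theorem isIntegral_of_generators {k C : Type*} [CommRing k] [CommRing C] [Algebra k C] (S : Subalgebra k C)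
    (t : Set C) (h : ∀ c ∈ t, IsIntegral S c) (h' : ∀ c : C, IsIntegral (Algebra.adjoin k t) c)
    (c : C) : IsIntegral S c := by
  refine isIntegral_of_le S (Algebra.adjoin k t) ?_ h' c
  intro c hc
  have : Algebra.adjoin k t ≤ (integralClosure S C).restrictScalars k :=
    Algebra.adjoin_le fun c hc => h c hc
  exact this hc

theorem isIntegral_of_isIntegralElem {k C : Type*} [CommRing k] [CommRing C] [Algebra k C] {n : ℕ}
    (x : Fin n → C) (S : Subalgebra k C) (hS : Set.range x ⊆ S) (y : C)
    (hy : (aeval x : MvPolynomial (Fin n) k →ₐ[k] C).toRingHom.IsIntegralElem y) :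
    IsIntegral S y := by
  have h1 : ∀ f : MvPolynomial (Fin n) k, aeval x f ∈ S := by
    intro f
    have : aeval x f ∈ (aeval x : MvPolynomial (Fin n) k →ₐ[k] C).range := ⟨f, rfl⟩
    rw [← Algebra.adjoin_range_eq_range_aeval] at this
    exact Algebra.adjoin_le hS this
  obtain ⟨p, hp, hp'⟩ := hy
  refine ⟨p.map ((aeval x : MvPolynomial (Fin n) k →ₐ[k] C).codRestrict S h1).toRingHom, hp.map _, ?_⟩
  rw [Polynomial.eval₂_map]
  exact hp'

variable {k : Type*} [Field k] (p : ℕ) [Fact p.Prime] [CharP k p] {n : ℕ} {C : Type*} [CommRing C]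
  [Algebra k C]

include p in
theorem step (J : Ideal C) (x : Fin n → C)
    (hx : (aeval x : MvPolynomial (Fin n) k →ₐ[k] C).toRingHom.Etale) (y : C) (hy : y ∈ J) :
    ∃ x' : Fin n → C, (aeval x' : MvPolynomial (Fin n) k →ₐ[k] C).toRingHom.Etale ∧
      (∀ i, x' i - x i ∈ J) ∧ (∀ i, x i - x' i ∈ Algebra.adjoin k {y}) ∧
      (aeval x' : MvPolynomial (Fin n) k →ₐ[k] C).toRingHom.IsIntegralElem y := by
  obtain ⟨F, hF, hFy⟩ : ∃ F : Polynomial (MvPolynomial (Fin n) k), F ≠ 0 ∧
      F.eval₂ (aeval x : MvPolynomial (Fin n) k →ₐ[k] C).toRingHom y = 0 := by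
    let := (aeval x : MvPolynomial (Fin n) k →ₐ[k] C).toRingHom.toAlgebra
    have : Algebra.Etale (MvPolynomial (Fin n) k) C := hx
    exact exists_polynomial_of_etale (P := MvPolynomial (Fin n) k) y
  obtain ⟨N, hqN, hN1, hN⟩ := NoetherP.exists_isIntegralElem p (Fact.out (p := p.Prime)).pos x y F hF hFy
  refine ⟨fun i : Fin n => x i - y ^ (N ^ (i.1 + 1)), ?_, ?_, ?_, hN⟩
  · refine EtaleDiff.etale_aeval_congr x
      (fun i : Fin n => x i - y ^ (N ^ (i.1 + 1))) (fun i => ?_) hx
    have : ((N ^ (i.1 + 1) : ℕ) : C) = 0 := by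
      obtain ⟨m, rfl⟩ := hqN
      have h0 : (p : C) = 0 := by
        rw [← map_natCast (algebraMap k C) p, CharP.cast_eq_zero k p, map_zero]
      push_cast
      rw [h0]
      simp
    rw [map_sub, Derivation.leibniz_pow]
    rw [← Nat.cast_smul_eq_nsmul C, this, zero_smul, sub_zero]
  · intro i
    have : N ^ (i.1 + 1) ≠ 0 := by positivity
    simpa using J.neg_mem (Ideal.pow_mem_of_mem J hy _ (Nat.pos_of_ne_zero this))
  · intro i
    simp only [sub_sub_cancel]
    exact Subalgebra.pow_mem _ (Algebra.subset_adjoin (Set.mem_singleton y)) _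

include p in
theorem exists_integral_aux (J : Ideal C) (s : Finset C) (hs : ∀ y ∈ s, y ∈ J) :
    ∀ x : Fin n → C, (aeval x : MvPolynomial (Fin n) k →ₐ[k] C).toRingHom.Etale →
      (∀ c : C, IsIntegral (Algebra.adjoin k (Set.range x ∪ (s : Set C))) c) →
      ∃ x' : Fin n → C, (aeval x' : MvPolynomial (Fin n) k →ₐ[k] C).toRingHom.Etale ∧
        (∀ i, x' i - x i ∈ J) ∧ (aeval x' : MvPolynomial (Fin n) k →ₐ[k] C).toRingHom.IsIntegral := by
  classical
  induction s using Finset.induction_on with
  | empty =>
    intro x hx hint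
    refine ⟨x, hx, fun i => by simp, fun c => ?_⟩
    have hS : Algebra.adjoin k (Set.range x ∪ ((∅ : Finset C) : Set C)) =
      Algebra.adjoin k (Set.range x) := by simp
    rw [hS] at hint
    obtain ⟨q, hq, hq'⟩ := hint c
    -- lift the coefficients
    have hsurj : Function.Surjective ((aeval x : MvPolynomial (Fin n) k →ₐ[k] C).codRestrict
        (Algebra.adjoin k (Set.range x)) (fun f => by
          rw [Algebra.adjoin_range_eq_range_aeval]; exact ⟨f, rfl⟩)) := by
      rintro ⟨c, hc⟩
      have hc' := hc
      rw [Algebra.adjoin_range_eq_range_aeval] at hc'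
      obtain ⟨f, hf⟩ := hc'
      exact ⟨f, Subtype.ext hf⟩
    obtain ⟨q', hq'1, -, hq'2⟩ := Polynomial.lifts_and_natDegree_eq_and_monic
      (f := ((aeval x : MvPolynomial (Fin n) k →ₐ[k] C).codRestrict
        (Algebra.adjoin k (Set.range x)) (fun f => by
          rw [Algebra.adjoin_range_eq_range_aeval]; exact ⟨f, rfl⟩)).toRingHom) (p := q)
      (by
        rw [Polynomial.lifts_iff_coeff_lifts]
        intro i
        exact hsurj _) hq
    refine ⟨q', hq'2, ?_⟩
    rw [← hq'1, Polynomial.eval₂_map] at hq'
    exact hq'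
  | insert y s hys ih =>
    intro x hx hint
    obtain ⟨x₁, hx₁, hJ₁, hadj, hy⟩ := step p J x hx y (hs y (Finset.mem_insert_self _ _))
    obtain ⟨x₂, hx₂, hJ₂, hint₂⟩ := ih (fun z hz => hs z (Finset.mem_insert_of_mem hz)) x₁ hx₁ (by
      refine isIntegral_of_generators _ _ ?_ hint
      have hy' : IsIntegral (Algebra.adjoin k (Set.range x₁ ∪ (s : Set C))) y :=
        isIntegral_of_isIntegralElem x₁ _ (Set.subset_union_left.trans Algebra.subset_adjoin) y hy
      have halg : ∀ z ∈ Algebra.adjoin k (Set.range x₁ ∪ (s : Set C)),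
          IsIntegral (Algebra.adjoin k (Set.range x₁ ∪ (s : Set C))) z := fun z hz =>
        isIntegral_algebraMap (x := (⟨z, hz⟩ : Algebra.adjoin k (Set.range x₁ ∪ (s : Set C))))
      rintro c (⟨i, rfl⟩ | hc)
      · have h1 : IsIntegral (Algebra.adjoin k (Set.range x₁ ∪ (s : Set C))) (x i - x₁ i) := by
          have : Algebra.adjoin k {y} ≤
              (integralClosure (Algebra.adjoin k (Set.range x₁ ∪ (s : Set C))) C).restrictScalars k := by
            refine Algebra.adjoin_le ?_
            rintro _ rfl
            exact hy'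
          exact this (hadj i)
        have h2 := h1.add (halg _ (Algebra.subset_adjoin (Or.inl ⟨i, rfl⟩)))
        rwa [sub_add_cancel] at h2
      · rw [Finset.coe_insert] at hc
        rcases hc with rfl | hc
        · exact hy'
        · exact halg _ (Algebra.subset_adjoin (Or.inr hc)))
    refine ⟨x₂, hx₂, fun i => ?_, hint₂⟩
    have := J.add_mem (hJ₂ i) (hJ₁ i)
    rwa [sub_add_sub_cancel] at this

include p in
/-- Achinger's lemma: an etale `k[X_1, …, X_n]`-algebra `C` such that `C / J` is integral over
`k[X_1, …, X_n]` becomes finite etale after changing the `X_i` by elements of `J`. -/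
theorem exists_finite_etale (J : Ideal C) (x : Fin n → C)
    (hx : (aeval x : MvPolynomial (Fin n) k →ₐ[k] C).toRingHom.Etale)
    (hJ : ((Ideal.Quotient.mk J).comp (aeval x : MvPolynomial (Fin n) k →ₐ[k] C).toRingHom).IsIntegral) :
    ∃ x' : Fin n → C, (aeval x' : MvPolynomial (Fin n) k →ₐ[k] C).toRingHom.Etale ∧
        (∀ i, x' i - x i ∈ J) ∧ (aeval x' : MvPolynomial (Fin n) k →ₐ[k] C).toRingHom.Finite := by
  classical
  have hft : Algebra.FiniteType k C := by
    let := (MvPolynomial.aeval x : MvPolynomial (Fin n) k →ₐ[k] C).toRingHom.toAlgebra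
    have : IsScalarTower k (MvPolynomial (Fin n) k) C := .of_algebraMap_eq' (by
      ext a; simp [RingHom.algebraMap_toAlgebra])
    have : Algebra.Etale (MvPolynomial (Fin n) k) C := hx
    exact Algebra.FiniteType.trans (S := MvPolynomial (Fin n) k) inferInstance inferInstance
  obtain ⟨t, ht⟩ := hft.out
  -- for every generator `c` a monic polynomial of positive degree with `h(c) ∈ J`
  have h1 : ∀ c : C, ∃ h : Polynomial (MvPolynomial (Fin n) k), h.Monic ∧ 0 < h.natDegree ∧
      h.eval₂ (aeval x : MvPolynomial (Fin n) k →ₐ[k] C).toRingHom c ∈ J := by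
    intro c
    obtain ⟨h, hm, hh⟩ := hJ (Ideal.Quotient.mk J c)
    refine ⟨h * Polynomial.X, hm.mul Polynomial.monic_X, ?_, ?_⟩
    · rw [hm.natDegree_mul Polynomial.monic_X]
      simp
    · rw [Polynomial.eval₂_mul]
      refine J.mul_mem_right _ ?_
      rw [← Ideal.Quotient.eq_zero_iff_mem, Polynomial.hom_eval₂]
      exact hh
  choose h hm hd hJ' using h1
  obtain ⟨x', hx', hJx', hint⟩ := exists_integral_aux p J
    (t.image fun c => (h c).eval₂ (aeval x : MvPolynomial (Fin n) k →ₐ[k] C).toRingHom c)
    (by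
      intro y hy
      rw [Finset.mem_image] at hy
      obtain ⟨c, -, rfl⟩ := hy
      exact hJ' c) x hx (by
    set S := Algebra.adjoin k (Set.range x ∪ ((t.image fun c => (h c).eval₂
      (aeval x : MvPolynomial (Fin n) k →ₐ[k] C).toRingHom c : Finset C) : Set C)) with hS
    have hxS : ∀ f : MvPolynomial (Fin n) k, aeval x f ∈ S := by
      intro f
      have : aeval x f ∈ (aeval x : MvPolynomial (Fin n) k →ₐ[k] C).range := ⟨f, rfl⟩
      rw [← Algebra.adjoin_range_eq_range_aeval] at this
      exact Algebra.adjoin_mono Set.subset_union_left this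
    have h2 : ∀ c ∈ t, IsIntegral S c := by
      intro c hc
      rcases subsingleton_or_nontrivial C with hC | hC
      · rw [Subsingleton.elim c 0]
        exact isIntegral_zero
      have hyS : (h c).eval₂ (aeval x : MvPolynomial (Fin n) k →ₐ[k] C).toRingHom c ∈ S := by
        refine Algebra.subset_adjoin (Or.inr ?_)
        simp only [Finset.coe_image]
        exact ⟨c, hc, rfl⟩
      refine ⟨(h c).map ((aeval x : MvPolynomial (Fin n) k →ₐ[k] C).codRestrict S hxS).toRingHom -
        Polynomial.C ⟨_, hyS⟩, ?_, ?_⟩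
      · refine ((hm c).map _).sub_of_left ?_
        refine lt_of_le_of_lt Polynomial.degree_C_le ?_
        have : Nontrivial S := inferInstance
        rw [((hm c).degree_map _), Polynomial.degree_eq_natDegree (hm c).ne_zero]
        exact_mod_cast hd c
      · rw [Polynomial.eval₂_sub, Polynomial.eval₂_map, Polynomial.eval₂_C]
        exact sub_self _
    intro c
    have h3 : Algebra.adjoin k (t : Set C) ≤ (integralClosure S C).restrictScalars k :=
      Algebra.adjoin_le h2
    rw [ht] at h3
    exact h3 Algebra.mem_top)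
  refine ⟨x', hx', hJx', hint.to_finite ?_⟩
  let := (MvPolynomial.aeval x' : MvPolynomial (Fin n) k →ₐ[k] C).toRingHom.toAlgebra
  have : Algebra.Etale (MvPolynomial (Fin n) k) C := hx'
  exact (inferInstance : Algebra.FiniteType (MvPolynomial (Fin n) k) C)

end Groth.Agent.Pi1B.Achinger
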