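import Mathlib.RingTheory.Smooth.NoetherianDescent
import Mathlib.RingTheory.Smooth.Flat
import Mathlib.RingTheory.RingHom.Etale

/-!
# Descent of finite etale algebras to finitely generated subalgebras

If `B` is a finite etale `A`-algebra and `A` is an `R`-algebra, there is a finitely generated
`R`-subalgebra `A₁` of `A` and a finite etale `A₁`-algebra `B₁` with `B ≃ A ⊗[A₁] B₁`.
-/

set_option autoImplicit false

open TensorProduct Algebra

namespace Groth.Agent.Pi1B.FEtDescent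

universe u v w

/-- If `A ⊗[A₀] B₀` is finite over `A`, with `A₀` a subalgebra of `A` and `B₀` flat and of finite type
over `A₀`, then after enlarging `A₀` by finitely many elements the algebra becomes finite. -/
theorem exists_finite_of_finite_baseChange {R : Type v} {A : Type u} [CommRing R] [CommRing A]
    [Algebra R A] (A₀ : Subalgebra R A) (hA₀ : A₀.FG)
    (B₀ : Type w) [CommRing B₀] [Algebra A₀ B₀] [Module.Flat A₀ B₀] [Algebra.FiniteType A₀ B₀]
    [Module.Finite A (A ⊗[A₀] B₀)] :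
    ∃ (A₁ : Subalgebra R A) (h : A₀ ≤ A₁), A₁.FG ∧
      letI := (Subalgebra.inclusion h).toRingHom.toAlgebra
      Module.Finite A₁ (A₁ ⊗[A₀] B₀) := by
  classical
  obtain ⟨t, ht⟩ := ‹Algebra.FiniteType A₀ B₀›.out
  have hint : ∀ b : B₀, ∃ q : Polynomial A, q.Monic ∧
      q.eval₂ (algebraMap A (A ⊗[A₀] B₀)) (1 ⊗ₜ b) = 0 := fun b =>
    Algebra.IsIntegral.isIntegral (R := A) (1 ⊗ₜ b : A ⊗[A₀] B₀)
  choose q hq hqb using hint
  let S : Subalgebra R A := Algebra.adjoin R ((t.biUnion fun b => (q b).coeffs : Finset A) : Set A)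
  refine ⟨A₀ ⊔ S, le_sup_left, hA₀.sup ⟨_, rfl⟩, ?_⟩
  set A₁ := A₀ ⊔ S with hA₁
  let _ : Algebra A₀ A₁ := (Subalgebra.inclusion (le_sup_left : A₀ ≤ A₀ ⊔ S)).toRingHom.toAlgebra
  have _ : IsScalarTower A₀ A₁ A := .of_algebraMap_eq' rfl
  -- injectivity
  let ι : A₁ ⊗[A₀] B₀ →ₐ[A₁] A ⊗[A₀] B₀ :=
    Algebra.TensorProduct.map (Algebra.ofId A₁ A) (AlgHom.id A₀ B₀)
  have hι : Function.Injective ι := by
    have := Module.Flat.rTensor_preserves_injective_linearMap (M := B₀)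
      ((Algebra.ofId A₁ A).restrictScalars A₀).toLinearMap Subtype.val_injective
    exact this
  have hgen : ∀ b ∈ t, IsIntegral A₁ (1 ⊗ₜ b : A₁ ⊗[A₀] B₀) := by
    intro b hb
    obtain ⟨q', hq'1, -, hq'2⟩ := Polynomial.lifts_and_natDegree_eq_and_monic
      (f := algebraMap A₁ A) (p := q b) (by
        rw [Polynomial.lifts_iff_coeff_lifts]
        intro i
        by_cases h0 : (q b).coeff i = 0
        · exact ⟨0, by rw [h0, map_zero]⟩
        · refine ⟨⟨(q b).coeff i, ?_⟩, rfl⟩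
          refine (le_sup_right : S ≤ A₀ ⊔ S) (Algebra.subset_adjoin ?_)
          simp only [Finset.coe_biUnion, Set.mem_iUnion]
          exact ⟨b, hb, Polynomial.coeff_mem_coeffs h0⟩) (hq b)
    refine ⟨q', hq'2, hι ?_⟩
    rw [map_zero, ← hqb b, ← hq'1, Polynomial.eval₂_map]
    have h1 := Polynomial.hom_eval₂ q' (algebraMap A₁ (A₁ ⊗[A₀] B₀)) ι.toRingHom (1 ⊗ₜ b)
    refine h1.trans ?_
    congr 1
  have hadj : Algebra.adjoin A₁ ((fun b => (1 ⊗ₜ b : A₁ ⊗[A₀] B₀)) '' (t : Set B₀)) = ⊤ := by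
    rw [_root_.eq_top_iff]
    have h2 : ∀ b : B₀, (1 ⊗ₜ b : A₁ ⊗[A₀] B₀) ∈
        Algebra.adjoin A₁ ((fun b => (1 ⊗ₜ b : A₁ ⊗[A₀] B₀)) '' (t : Set B₀)) := by
      intro b
      have hb : b ∈ Algebra.adjoin A₀ (t : Set B₀) := by rw [ht]; exact Algebra.mem_top
      induction hb using Algebra.adjoin_induction with
      | mem x hx =>
        exact Algebra.subset_adjoin ⟨x, hx, rfl⟩
      | algebraMap r =>
        rw [Algebra.algebraMap_eq_smul_one, ← TensorProduct.smul_tmul, ← Algebra.algebraMap_eq_smul_one]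
        exact Subalgebra.algebraMap_mem _ (algebraMap A₀ A₁ r)
      | add x y _ _ hx hy => rw [TensorProduct.tmul_add]; exact add_mem hx hy
      | mul x y _ _ hx hy =>
        have : (1 ⊗ₜ (x * y) : A₁ ⊗[A₀] B₀) = (1 ⊗ₜ x) * (1 ⊗ₜ y) := by simp
        rw [this]
        exact mul_mem hx hy
    intro z _
    induction z using TensorProduct.induction_on with
    | zero => exact zero_mem _
    | add x y hx hy => exact add_mem (hx trivial) (hy trivial)
    | tmul a b =>
      have : (a ⊗ₜ b : A₁ ⊗[A₀] B₀) = a • (1 ⊗ₜ b) := by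
        rw [TensorProduct.smul_tmul', smul_eq_mul, mul_one]
      rw [this]
      exact Subalgebra.smul_mem _ (h2 b) a
  constructor
  have h3 := fg_adjoin_of_finite (R := A₁)
    (s := ((fun b => (1 ⊗ₜ b : A₁ ⊗[A₀] B₀)) '' (t : Set B₀))) ((Finset.finite_toSet t).image _) (by
      intro x hx
      obtain ⟨b, hb, rfl⟩ := hx
      exact hgen b hb)
  rwa [hadj] at h3

/-- Finite etale algebras descend to finitely generated subalgebras of the base. -/
theorem exists_subalgebra_fg (R : Type v) (A : Type u) (B : Type w) [CommRing R] [CommRing A]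
    [Algebra R A] [CommRing B] [Algebra A B] [Module.Finite A B] [Algebra.Etale A B] :
    ∃ (A₁ : Subalgebra R A) (B₁ : Type u) (_ : CommRing B₁) (_ : Algebra A₁ B₁),
      A₁.FG ∧ Module.Finite A₁ B₁ ∧ Etale A₁ B₁ ∧ Nonempty (B ≃ₐ[A] A ⊗[A₁] B₁) := by
  obtain ⟨A₀, B₀, _, _, hA₀, hB₀, ⟨e⟩⟩ := Algebra.Etale.exists_subalgebra_fg R A B
  have : Module.Finite A (A ⊗[A₀] B₀) := Module.Finite.equiv e.toLinearEquiv
  obtain ⟨A₁, h, hA₁, hfin⟩ := exists_finite_of_finite_baseChange A₀ hA₀ B₀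
  let _ := (Subalgebra.inclusion h).toRingHom.toAlgebra
  have _ : IsScalarTower A₀ A₁ A := .of_algebraMap_eq' rfl
  exact ⟨A₁, A₁ ⊗[A₀] B₀, inferInstance, inferInstance, hA₁, hfin, inferInstance,
    ⟨e.trans (Algebra.TensorProduct.cancelBaseChange A₀ A₁ A A B₀).symm⟩⟩

end Groth.Agent.Pi1B.FEtDescent
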