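import Groth.Agent.Pi1B.AchingerClosed
import Groth.Agent.Pi1B.FEtDescent

/-!
# Finite etale covers of closed subschemes of affine schemes of characteristic `p` (Stacks 0G1I)
-/

set_option autoImplicit false

open TensorProduct

namespace Groth.Agent.Pi1B.AchingerAffine

universe u

theorem exists_finite_etale_surj (k : Type u) [Field k] (p : ℕ) [Fact p.Prime] [CharP k p]
    (R A B : Type u) [CommRing R] [CommRing A] [CommRing B] [Algebra k R] [Algebra R A]
    (hRA : Function.Surjective (algebraMap R A)) [Algebra A B] [Module.Finite A B]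
    [Algebra.Etale A B] :
    ∃ (C : Type u) (_ : CommRing C) (_ : Algebra R C), Module.Finite R C ∧ Algebra.Etale R C ∧
      ∃ ψ : A ⊗[R] C →ₐ[A] B, Function.Surjective ψ := by
  let _ : Algebra k A := ((algebraMap R A).comp (algebraMap k R)).toAlgebra
  have _ : IsScalarTower k R A := .of_algebraMap_eq' rfl
  obtain ⟨A₁, B₁, _, _, hA₁, hB₁, hB₁', ⟨e⟩⟩ := FEtDescent.exists_subalgebra_fg k A B
  rw [Subalgebra.fg_iff_finiteType] at hA₁
  obtain ⟨n, f, hf⟩ := Algebra.FiniteType.iff_quotient_mvPolynomial''.mp hA₁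
  let _ : Algebra (MvPolynomial (Fin n) k) A₁ := f.toRingHom.toAlgebra
  have hf' : Function.Surjective (algebraMap (MvPolynomial (Fin n) k) A₁) := hf
  obtain ⟨C₀, _, _, hC₀, hC₀', ψ₀, hψ₀⟩ :=
    AchingerClosed.exists_finite_etale_surj (B := B₁) p n hf'
  choose y hy using fun i => hRA (f (MvPolynomial.X i) : A)
  let g : MvPolynomial (Fin n) k →ₐ[k] R := MvPolynomial.aeval y
  let _ : Algebra (MvPolynomial (Fin n) k) R := g.toRingHom.toAlgebra
  let _ : Algebra (MvPolynomial (Fin n) k) A := ((algebraMap R A).comp g.toRingHom).toAlgebra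
  have _ : IsScalarTower (MvPolynomial (Fin n) k) R A := .of_algebraMap_eq' rfl
  have hcomp : ((Algebra.ofId R A).restrictScalars k).comp g = A₁.val.comp f := by
    refine MvPolynomial.algHom_ext fun i => ?_
    simp [g, hy]
  have hcomp' : ∀ q : MvPolynomial (Fin n) k, algebraMap R A (g q) = f q := fun q =>
    DFunLike.congr_fun hcomp q
  have _ : IsScalarTower (MvPolynomial (Fin n) k) A₁ A := .of_algebraMap_eq hcomp'
  let _ : Algebra (MvPolynomial (Fin n) k) B₁ :=
    ((algebraMap A₁ B₁).comp (algebraMap (MvPolynomial (Fin n) k) A₁)).toAlgebra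
  have _ : IsScalarTower (MvPolynomial (Fin n) k) A₁ B₁ := .of_algebraMap_eq' rfl
  let _ : Algebra (MvPolynomial (Fin n) k) B :=
    ((algebraMap A B).comp (algebraMap (MvPolynomial (Fin n) k) A)).toAlgebra
  have _ : IsScalarTower (MvPolynomial (Fin n) k) A B := .of_algebraMap_eq' rfl
  refine ⟨R ⊗[MvPolynomial (Fin n) k] C₀, inferInstance, inferInstance, inferInstance, inferInstance, ?_⟩
  let h₁ : C₀ →ₐ[MvPolynomial (Fin n) k] B₁ :=
    (ψ₀.restrictScalars (MvPolynomial (Fin n) k)).comp Algebra.TensorProduct.includeRight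
  have hh₁ : Function.Surjective h₁ := by
    intro b
    obtain ⟨t, rfl⟩ := hψ₀ b
    obtain ⟨c, rfl⟩ := Algebra.TensorProduct.includeRight_surjective C₀ hf' t
    exact ⟨c, rfl⟩
  let h₂ : C₀ →+* B := (e.symm : A ⊗[A₁] B₁ →+* B).comp
    ((Algebra.TensorProduct.includeRight : B₁ →ₐ[A₁] A ⊗[A₁] B₁).toRingHom.comp h₁.toRingHom)
  have hh₂ : ∀ c, h₂ c = e.symm (1 ⊗ₜ h₁ c) := fun c => rfl
  let h₃ : C₀ →ₐ[MvPolynomial (Fin n) k] B := { h₂ with
    commutes' := fun q => by
      change h₂ (algebraMap _ _ q) = _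
      rw [hh₂, AlgHom.commutes, IsScalarTower.algebraMap_apply _ A₁ B₁,
        Algebra.algebraMap_eq_smul_one (A := B₁), ← TensorProduct.smul_tmul,
        ← Algebra.algebraMap_eq_smul_one, IsScalarTower.algebraMap_apply _ A B, ← e.symm.commutes,
        IsScalarTower.algebraMap_apply (MvPolynomial (Fin n) k) A₁ A q]
      rfl }
  have hh₃ : ∀ c, h₃ c = e.symm (1 ⊗ₜ h₁ c) := fun c => rfl
  let E := Algebra.TensorProduct.cancelBaseChange (MvPolynomial (Fin n) k) R A A C₀
  suffices hs : Function.Surjective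
      (Algebra.TensorProduct.lift (Algebra.ofId A B) h₃ (fun _ _ => Commute.all _ _)) by
    exact ⟨(Algebra.TensorProduct.lift (Algebra.ofId A B) h₃ (fun _ _ => Commute.all _ _)).comp
      E.toAlgHom, hs.comp E.surjective⟩
  intro b
  obtain ⟨t, rfl⟩ := e.symm.surjective b
  induction t using TensorProduct.induction_on with
  | zero => exact ⟨0, by simp⟩
  | add x y hx hy =>
    obtain ⟨x', hx'⟩ := hx
    obtain ⟨y', hy'⟩ := hy
    exact ⟨x' + y', by rw [map_add, hx', hy', map_add]⟩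
  | tmul a b =>
    obtain ⟨c, rfl⟩ := hh₁ b
    refine ⟨a ⊗ₜ c, ?_⟩
    rw [Algebra.TensorProduct.lift_tmul, hh₃]
    have : (a ⊗ₜ h₁ c : A ⊗[A₁] B₁) = a • (1 ⊗ₜ h₁ c) := by
      rw [TensorProduct.smul_tmul', smul_eq_mul, mul_one]
    rw [this, map_smul, Algebra.smul_def]
    rfl

end Groth.Agent.Pi1B.AchingerAffine
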