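import Mathlib.RingTheory.Smooth.StandardSmoothOfFree
import Mathlib.RingTheory.Polynomial.Quotient
import Mathlib.RingTheory.TensorProduct.Quotient

/-!
# Lifting etale (and standard smooth) algebras along surjective ring maps (Stacks 04D1)

For a surjection `R → A` and a standard smooth `A`-algebra `B` (of relative dimension `n`) there is
a standard smooth `R`-algebra `C` (of relative dimension `n`) with `A ⊗[R] C ≃ₐ[A] B`.
-/

set_option autoImplicit false

open TensorProduct MvPolynomial Algebra

namespace Groth.Agent.Pi1B.EtaleLift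

universe u v w

theorem exists_standardSmooth_lift {R : Type u} {A : Type v} {B : Type w} [CommRing R] [CommRing A]
    [CommRing B] [Algebra R A] [Algebra A B] (hRA : Function.Surjective (algebraMap R A)) (n : ℕ)
    [IsStandardSmoothOfRelativeDimension n A B] :
    ∃ (C : Type u) (_ : CommRing C) (_ : Algebra R C), IsStandardSmoothOfRelativeDimension n R C ∧
      Nonempty (A ⊗[R] C ≃ₐ[A] B) := by
  obtain ⟨ι, σ, _, _, P, hP⟩ := IsStandardSmoothOfRelativeDimension.out (n := n) (R := A) (S := B)
  classical
  have := Fintype.ofFinite σ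
  let _ : Algebra R B := ((algebraMap A B).comp (algebraMap R A)).toAlgebra
  have _ : IsScalarTower R A B := .of_algebraMap_eq' rfl
  have hmap : Function.Surjective (MvPolynomial.map (σ := ι) (algebraMap R A)) :=
    MvPolynomial.map_surjective _ hRA
  choose r hr using fun j => hmap (P.relation j)
  let Q₀ : PreSubmersivePresentation R (MvPolynomial ι R ⧸ (Ideal.span <| Set.range r)) ι σ :=
    PreSubmersivePresentation.naive P.map P.map_inj
  have hvalmap : ∀ f : MvPolynomial ι R, aeval P.val (MvPolynomial.map (algebraMap R A) f) =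
      aeval (R := R) P.val f := fun f => by
    rw [MvPolynomial.aeval_map_algebraMap]
  let ψ₀ : (MvPolynomial ι R ⧸ (Ideal.span <| Set.range r)) →ₐ[R] B :=
    Ideal.Quotient.liftₐ _ (aeval (R := R) P.val) (by
      intro a ha
      have : Ideal.span (Set.range r) ≤ RingHom.ker (aeval (R := R) P.val) := by
        rw [Ideal.span_le]
        rintro _ ⟨j, rfl⟩
        rw [SetLike.mem_coe, RingHom.mem_ker, ← hvalmap, hr]
        exact P.aeval_val_relation j
      exact this ha)
  have hψ₀ : ∀ f, ψ₀ (Ideal.Quotient.mk _ f) = aeval (R := R) P.val f := fun f => rfl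
  have hjac : ψ₀ Q₀.jacobian = P.jacobian := by
    have e1 : Q₀.jacobian = Ideal.Quotient.mk _ (Q₀.jacobiMatrix.det) := by
      rw [PreSubmersivePresentation.jacobian_eq_jacobiMatrix_det]
      rfl
    rw [e1, hψ₀, PreSubmersivePresentation.jacobian_eq_jacobiMatrix_det, Generators.algebraMap_apply,
      ← hvalmap, RingHom.map_det]
    congr 2
    ext i j : 1
    rw [PreSubmersivePresentation.jacobiMatrix_apply, RingHom.mapMatrix_apply, Matrix.map_apply]
    rw [show Q₀.jacobiMatrix i j = (r j).pderiv (P.map i) from
      PreSubmersivePresentation.jacobiMatrix_naive _ _ _ _ _ _, ← hr, MvPolynomial.pderiv_map]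
  -- the lifted algebra
  let C := Localization.Away Q₀.jacobian
  let Q₁ : PreSubmersivePresentation _ C Unit Unit :=
    PreSubmersivePresentation.localizationAway C Q₀.jacobian
  have hC : IsStandardSmoothOfRelativeDimension n R C := by
    let Q : SubmersivePresentation R C (Unit ⊕ ι) (Unit ⊕ σ) :=
      { __ := Q₁.comp Q₀
        jacobian_isUnit := by
          rw [PreSubmersivePresentation.comp_jacobian_eq_jacobian_smul_jacobian, Algebra.smul_def]
          refine IsUnit.mul ?_ ?_
          · exact IsLocalization.Away.algebraMap_isUnit Q₀.jacobian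
          · rw [PreSubmersivePresentation.localizationAway_jacobian]
            exact IsLocalization.Away.algebraMap_isUnit Q₀.jacobian }
    refine Q.isStandardSmoothOfRelativeDimension ?_
    change (Q₁.comp Q₀).dimension = n
    rw [PreSubmersivePresentation.dimension_comp_eq_dimension_add_dimension]
    have h1 : Q₁.dimension = 0 := Presentation.localizationAway_dimension_zero _
    have h2 : Q₀.dimension = P.dimension := rfl
    rw [h1, h2, hP, zero_add]
  have hunit : IsUnit (ψ₀ Q₀.jacobian) := by
    rw [hjac]; exact P.jacobian_isUnit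
  let ψ : C →ₐ[R] B := IsLocalization.liftAlgHom (M := Submonoid.powers Q₀.jacobian) (f := ψ₀) (by
    rintro ⟨_, m, rfl⟩
    simpa using hunit.pow m)
  have hψ : ∀ c, ψ (algebraMap _ C c) = ψ₀ c := fun c => by
    simp [ψ, C]
  refine ⟨C, inferInstance, inferInstance, hC, ⟨AlgEquiv.ofBijective
    (Algebra.TensorProduct.lift (Algebra.ofId A B) ψ (fun _ _ => Commute.all _ _)) ⟨?_, ?_⟩⟩⟩
  · rw [injective_iff_map_eq_zero]
    intro t ht
    obtain ⟨c, rfl⟩ := Algebra.TensorProduct.includeRight_surjective C hRA t
    simp only [Algebra.TensorProduct.includeRight_apply, Algebra.TensorProduct.lift_tmul, map_one,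
      one_mul] at ht
    obtain ⟨c₀, s, rfl⟩ := IsLocalization.exists_mk'_eq (Submonoid.powers Q₀.jacobian) c
    have h0 : ψ₀ c₀ = 0 := by
      have := congrArg (· * ψ (algebraMap _ C s.1)) ht
      simp only [zero_mul, ← map_mul, IsLocalization.mk'_spec] at this
      rwa [hψ] at this
    have h1 : (1 : A) ⊗ₜ[R] (algebraMap _ C c₀) = 0 := by
      obtain ⟨f, rfl⟩ := Ideal.Quotient.mk_surjective c₀
      rw [hψ₀, ← hvalmap] at h0
      have h2 : MvPolynomial.map (algebraMap R A) f ∈ (Ideal.span (Set.range r)).map
          (MvPolynomial.map (algebraMap R A)) := by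
        have : MvPolynomial.map (algebraMap R A) f ∈ P.ker := by
          rw [Generators.ker_eq_ker_aeval_val]
          exact h0
        rw [← P.span_range_relation_eq_ker] at this
        rw [Ideal.map_span, ← Set.range_comp]
        convert this using 3
        ext j : 1
        exact hr j
      rw [Ideal.mem_map_iff_of_surjective _ hmap] at h2
      obtain ⟨g, hg, hgf⟩ := h2
      have h3 : f - g ∈ RingHom.ker (MvPolynomial.map (σ := ι) (algebraMap R A)) := by
        rw [RingHom.mem_ker, map_sub, hgf, sub_self]
      rw [MvPolynomial.ker_map] at h3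
      have h4 : (Ideal.Quotient.mk (Ideal.span (Set.range r)) f) =
          Ideal.Quotient.mk (Ideal.span (Set.range r)) (f - g) := by
        rw [map_sub, Ideal.Quotient.eq_zero_iff_mem.mpr hg, sub_zero]
      rw [h4]
      have h5 : (RingHom.ker (algebraMap R A)).map (MvPolynomial.C (σ := ι)) ≤
          RingHom.ker ((Algebra.TensorProduct.includeRight : C →ₐ[R] A ⊗[R] C).toRingHom.comp
            ((algebraMap _ C).comp (Ideal.Quotient.mk (Ideal.span (Set.range r))))) := by
        rw [Ideal.map_le_iff_le_comap]
        intro a ha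
        rw [Ideal.mem_comap, RingHom.mem_ker]
        have : (algebraMap _ C) (Ideal.Quotient.mk (Ideal.span (Set.range r)) (MvPolynomial.C a)) =
          algebraMap R C a := rfl
        simp only [RingHom.coe_comp, Function.comp_apply, AlgHom.toRingHom_eq_coe, RingHom.coe_coe,
          this, Algebra.TensorProduct.includeRight_apply, Algebra.algebraMap_eq_smul_one (A := C)]
        rw [← TensorProduct.smul_tmul, ← Algebra.algebraMap_eq_smul_one, (RingHom.mem_ker).mp ha,
          zero_tmul]
      exact h5 h3
    have h6 : (1 : A) ⊗ₜ[R] IsLocalization.mk' C c₀ s =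
        ((1 : A) ⊗ₜ[R] (algebraMap _ C c₀)) * ((1 : A) ⊗ₜ[R] IsLocalization.mk' C 1 s) := by
      rw [Algebra.TensorProduct.tmul_mul_tmul, one_mul, ← IsLocalization.mk'_eq_mul_mk'_one]
    rw [Algebra.TensorProduct.includeRight_apply, h6, h1, zero_mul]
  · intro b
    obtain ⟨f, rfl⟩ := P.aeval_val_surjective b
    obtain ⟨g, rfl⟩ := hmap f
    refine ⟨1 ⊗ₜ algebraMap _ C (Ideal.Quotient.mk (Ideal.span (Set.range r)) g), ?_⟩
    simp only [Algebra.TensorProduct.lift_tmul, map_one, one_mul]
    rw [hψ, hψ₀, hvalmap]

/-- Etale algebras lift along surjective ring maps (Stacks 04D1). -/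
theorem exists_etale_lift {R : Type u} {A : Type v} {B : Type w} [CommRing R] [CommRing A]
    [CommRing B] [Algebra R A] [Algebra A B] (hRA : Function.Surjective (algebraMap R A))
    [Etale A B] :
    ∃ (C : Type u) (_ : CommRing C) (_ : Algebra R C), Etale R C ∧
      Nonempty (A ⊗[R] C ≃ₐ[A] B) := by
  have : IsStandardSmoothOfRelativeDimension 0 A B := by
    rwa [← Etale.iff_isStandardSmoothOfRelativeDimension_zero]
  obtain ⟨C, _, _, h, e⟩ := exists_standardSmooth_lift (B := B) hRA 0
  exact ⟨C, _, _, by rwa [Etale.iff_isStandardSmoothOfRelativeDimension_zero], e⟩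

end Groth.Agent.Pi1B.EtaleLift
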