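import Groth.Agent.Pi1B.Achinger
import Groth.Agent.Pi1B.EtaleLift

/-!
# Finite etale covers of closed subschemes of affine space in characteristic `p` (Stacks 0G1H)
-/

set_option autoImplicit false

open TensorProduct MvPolynomial

namespace Groth.Agent.Pi1B.AchingerClosed

universe u v w

theorem aux {P : Type u} {A : Type v} {B : Type w} {C : Type u} [CommRing P] [CommRing A] [CommRing B]
    [Algebra P A] [Algebra A B] [CommRing C] (φ : P →+* C) (g : C →+* B)
    (hg : Function.Surjective g) (hφg : g.comp φ = (algebraMap A B).comp (algebraMap P A))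
    (hfin : φ.Finite) (het : φ.Etale) :
    ∃ (C : Type u) (_ : CommRing C) (_ : Algebra P C),
      Module.Finite P C ∧ Algebra.Etale P C ∧
      ∃ ψ : A ⊗[P] C →ₐ[A] B, Function.Surjective ψ := by
  let _ : Algebra P C := φ.toAlgebra
  let _ : Algebra P B := ((algebraMap A B).comp (algebraMap P A)).toAlgebra
  have _ : IsScalarTower P A B := .of_algebraMap_eq' rfl
  let g' : C →ₐ[P] B := { g with commutes' := fun r => DFunLike.congr_fun hφg r }
  refine ⟨C, inferInstance, inferInstance, hfin, het,
    Algebra.TensorProduct.lift (Algebra.ofId A B) g' (fun _ _ => Commute.all _ _), ?_⟩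
  intro b
  obtain ⟨c, rfl⟩ := hg b
  refine ⟨1 ⊗ₜ c, ?_⟩
  simp [g']

theorem exists_finite_etale_surj {k : Type u} [Field k] (p : ℕ) [Fact p.Prime] [CharP k p] (n : ℕ)
    {A : Type v} {B : Type w} [CommRing A] [CommRing B] [Algebra (MvPolynomial (Fin n) k) A]
    (hA : Function.Surjective (algebraMap (MvPolynomial (Fin n) k) A)) [Algebra A B]
    [Module.Finite A B] [Algebra.Etale A B] :
    ∃ (C : Type u) (_ : CommRing C) (_ : Algebra (MvPolynomial (Fin n) k) C),
      Module.Finite (MvPolynomial (Fin n) k) C ∧ Algebra.Etale (MvPolynomial (Fin n) k) C ∧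
      ∃ ψ : A ⊗[MvPolynomial (Fin n) k] C →ₐ[A] B, Function.Surjective ψ := by
  obtain ⟨C, _, _, hC, ⟨e⟩⟩ := EtaleLift.exists_etale_lift (B := B) hA
  let _ : Algebra k C := ((algebraMap (MvPolynomial (Fin n) k) C).comp MvPolynomial.C).toAlgebra
  have _ : IsScalarTower k (MvPolynomial (Fin n) k) C := .of_algebraMap_eq' rfl
  set x : Fin n → C := fun i => algebraMap (MvPolynomial (Fin n) k) C (MvPolynomial.X i) with hx
  have h1 : (MvPolynomial.aeval x : MvPolynomial (Fin n) k →ₐ[k] C) =
      IsScalarTower.toAlgHom k (MvPolynomial (Fin n) k) C := by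
    refine MvPolynomial.algHom_ext fun i => ?_
    simp [hx]
  have h1' : (MvPolynomial.aeval x : MvPolynomial (Fin n) k →ₐ[k] C).toRingHom =
      algebraMap (MvPolynomial (Fin n) k) C := by
    rw [h1]; rfl
  have h2 : (MvPolynomial.aeval x : MvPolynomial (Fin n) k →ₐ[k] C).toRingHom.Etale := by
    rw [h1']
    exact (RingHom.etale_algebraMap (R := MvPolynomial (Fin n) k) (S := C)).mpr inferInstance
  let g : C →+* B := e.toRingEquiv.toRingHom.comp
    (Algebra.TensorProduct.includeRight : C →ₐ[MvPolynomial (Fin n) k] A ⊗[MvPolynomial (Fin n) k] C).toRingHom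
  have hg : ∀ c, g c = e (1 ⊗ₜ c) := fun c => rfl
  have hgs : Function.Surjective g := by
    intro b
    obtain ⟨t, rfl⟩ := e.surjective b
    obtain ⟨c, rfl⟩ := Algebra.TensorProduct.includeRight_surjective C hA t
    exact ⟨c, rfl⟩
  have hgP : g.comp (algebraMap (MvPolynomial (Fin n) k) C) =
      (algebraMap A B).comp (algebraMap (MvPolynomial (Fin n) k) A) := by
    refine RingHom.ext fun f => ?_
    rw [RingHom.comp_apply, hg, RingHom.comp_apply, Algebra.algebraMap_eq_smul_one (A := C),
      ← TensorProduct.smul_tmul, ← Algebra.algebraMap_eq_smul_one]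
    rw [← e.commutes]
    rfl
  obtain ⟨x', hx', hJ, hfin⟩ := Achinger.exists_finite_etale p (RingHom.ker g) x h2 (by
    intro c
    obtain ⟨c, rfl⟩ := Ideal.Quotient.mk_surjective c
    obtain ⟨q, hq, hqc⟩ := Algebra.IsIntegral.isIntegral (R := A) (g c)
    obtain ⟨q', hq'1, -, hq'2⟩ := Polynomial.lifts_and_natDegree_eq_and_monic
      (f := algebraMap (MvPolynomial (Fin n) k) A) (p := q) (by
        rw [Polynomial.lifts_iff_coeff_lifts]
        intro i
        exact hA _) hq
    refine ⟨q', hq'2, ?_⟩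
    rw [← Polynomial.hom_eval₂, Ideal.Quotient.eq_zero_iff_mem, RingHom.mem_ker,
      Polynomial.hom_eval₂, h1', hgP, ← Polynomial.eval₂_map, hq'1]
    exact hqc)
  refine aux (MvPolynomial.aeval x' : MvPolynomial (Fin n) k →ₐ[k] C).toRingHom g hgs ?_ hfin hx'
  rw [← hgP, ← h1']
  apply MvPolynomial.ringHom_ext
  · intro a
    simp
  · intro i
    have := hJ i
    rw [RingHom.mem_ker, map_sub, sub_eq_zero] at this
    simpa using this

end Groth.Agent.Pi1B.AchingerClosed
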