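import Groth.Agent.Pi1A.FEtAffine
import Mathlib.AlgebraicGeometry.Morphisms.FormallyUnramified
import Mathlib.AlgebraicGeometry.Morphisms.Separated

/-!
# Composition of finite etale covers and the diagonal

For `i : S ⟶ T` finite etale, `r : Z ⟶ S` and a finite etale cover `W` of `S`, the base change of `W`
along `r` is open and closed in the base change along `r ≫ i` of `W` seen as a cover of `T`.
-/

universe u

open CategoryTheory CategoryTheory.Limits AlgebraicGeometry

namespace Groth.Agent.Pi1B.ClopenComp

open Groth.Agent.Pi1A.FEtAffine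

variable {S T Z : Scheme.{u}}

lemma isOpenImmersion_mapDesc {X Y : Scheme.{u}} (f : X ⟶ S) (g : Y ⟶ S) (i : S ⟶ T) [Etale i] :
    IsOpenImmersion (pullback.mapDesc f g i) :=
  MorphismProperty.of_isPullback (pullback_map_diagonal_isPullback f g i)
    (inferInstanceAs (IsOpenImmersion (pullback.diagonal i)))

lemma isClosedImmersion_mapDesc {X Y : Scheme.{u}} (f : X ⟶ S) (g : Y ⟶ S) (i : S ⟶ T)
    [IsFinite i] : IsClosedImmersion (pullback.mapDesc f g i) :=
  inferInstance

lemma exists_clopen (i : S ⟶ T) (hi : FEt.prop i) (r : Z ⟶ S) (j : Z ⟶ T) (hj : r ≫ i = j)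
    (W : FEt.Cat S) :
    ∃ (U : FEt.Cat T) (φ : (FEt.restrict r).obj W ⟶ (FEt.restrict j).obj U),
      IsOpenImmersion φ.left ∧ IsClosedImmersion φ.left := by
  subst hj
  have : IsFinite i := hi.1
  have : Etale i := hi.2
  let w : W.left ⟶ S := W.hom
  let U : FEt.Cat T := MorphismProperty.Over.mk ⊤ (w ≫ i)
    (MorphismProperty.comp_mem FEt.prop _ _ W.prop hi)
  let φ : (FEt.restrict r).obj W ⟶ (FEt.restrict (r ≫ i)).obj U :=
    MorphismProperty.Over.homMk (pullback.mapDesc w r i)
      (by
        have : pullback.mapDesc w r i ≫ pullback.snd _ _ = pullback.snd w r := by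
          rw [pullback.mapDesc, pullback.map]
          erw [pullback.lift_snd]
          rw [Category.comp_id]
        exact this) trivial
  exact ⟨U, φ, isOpenImmersion_mapDesc w r i, isClosedImmersion_mapDesc w r i⟩

end Groth.Agent.Pi1B.ClopenComp
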