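import Mathlib.AlgebraicGeometry.Morphisms.Integral
import Mathlib.AlgebraicGeometry.Morphisms.UniversallyInjective
import Mathlib.AlgebraicGeometry.Morphisms.UnderlyingMap
import Groth.Agent.Pi1A.ClopenCrit

/-!
# Universal homeomorphisms: clopen subsets and lifting of maps to finite etale covers
-/

set_option autoImplicit false

universe u

open CategoryTheory CategoryTheory.Limits AlgebraicGeometry

namespace Groth.Agent.Pi1B.UHClopen

/-- An integral, universally injective and surjective morphism is a homeomorphism. -/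
theorem isHomeomorph {X Y : Scheme.{u}} (f : X ⟶ Y) [IsIntegralHom f] [UniversallyInjective f]
    [Surjective f] : IsHomeomorph f := by
  rw [isHomeomorph_iff_continuous_isClosedMap_bijective]
  exact ⟨f.continuous, f.isClosedMap, f.injective, f.surjective⟩

theorem clopen_eq_empty {X Y : Scheme.{u}} (f : X ⟶ Y) [Surjective f] (U : Set Y)
    (h : f ⁻¹' U = ∅) : U = ∅ := by
  rw [Set.eq_empty_iff_forall_notMem] at h ⊢
  intro y hy
  obtain ⟨x, rfl⟩ := f.surjective y
  exact h x hy

theorem exists_clopen {X Y : Scheme.{u}} (f : X ⟶ Y) [IsIntegralHom f] [UniversallyInjective f]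
    [Surjective f] (V : Set X) (hV : IsClopen V) : ∃ U : Set Y, IsClopen U ∧ f ⁻¹' U = V := by
  have h := isHomeomorph f
  refine ⟨f '' V, ⟨h.isClosedMap _ hV.1, h.isOpenMap _ hV.2⟩, ?_⟩
  exact Set.preimage_image_eq _ h.injective

end Groth.Agent.Pi1B.UHClopen
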