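import Groth.Prelude.Def_Pi1
import Groth.Prelude.Def_EtBase
import Groth.Agent.Desc.ProperSupport
import Groth.Agent.S0075
import Groth.Agent.S0283
import Mathlib.AlgebraicGeometry.ZariskisMainTheorem
import Mathlib.RingTheory.Unramified.LocalStructure

/-!
# Finite étale covers and universal homeomorphisms

`FEt.restrict f` is an equivalence for an integral, universally injective, surjective `f`
(deduced from the topological invariance of the small étale site, S0075).
-/

set_option autoImplicit false
universe u
open CategoryTheory CategoryTheory.Limits AlgebraicGeometry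

namespace Groth.Agent.Pi1B.UnivHomeoFEt

theorem locallyQuasiFinite_of_etale {X Y : Scheme.{u}} (f : X ⟶ Y) [Etale f] :
    LocallyQuasiFinite f := by
  rw [HasRingHomProperty.iff_appLE (P := @LocallyQuasiFinite)]
  intro U V e
  have h := HasRingHomProperty.appLE (P := @Etale) f inferInstance U V e
  algebraize [(Scheme.Hom.appLE f U V e).hom]
  have : Algebra.Etale Γ(Y, U) Γ(X, V) := h
  change Algebra.QuasiFinite _ _
  infer_instance

/-- An étale morphism which becomes finite after base change along a universal homeomorphism
(integral, surjective morphism) is finite. -/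
theorem isFinite_of_pullback {X Y V : Scheme.{u}} (f : X ⟶ Y) [IsIntegralHom f]
    [Surjective f] (g : V ⟶ Y) [Etale g] [IsFinite (pullback.snd g f)] : IsFinite g := by
  have hc : pullback.fst g f ≫ g = pullback.snd g f ≫ f := pullback.condition
  have hs : Surjective (pullback.fst g f) := inferInstance
  have hi : IsIntegralHom (pullback.fst g f) := inferInstance
  have h1 : IsSeparated (pullback.fst g f ≫ g) := by rw [hc]; infer_instance
  have h2 : UniversallyClosed (pullback.fst g f ≫ g) := by rw [hc]; infer_instance
  have h3 : IsSeparated g := Groth.Agent.Desc.ProperSupport.isSeparated_of_surjective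
    (pullback.fst g f) g
  have h4 : UniversallyClosed g := UniversallyClosed.of_comp_surjective (pullback.fst g f) g
  have h5 : IsProper g := {}
  have h6 : LocallyQuasiFinite g := locallyQuasiFinite_of_etale g
  exact IsFinite.of_isProper_of_locallyQuasiFinite g

theorem essSurj {X Y : Scheme.{u}} (f : X ⟶ Y) [IsIntegralHom f] [UniversallyInjective f]
    [Surjective f] : (FEt.restrict f).EssSurj := by
  have hE : (EtCoh.bc f).IsEquivalence := Groth.Agent.S0075.result f
  constructor
  intro W
  let w : W.left ⟶ X := W.hom
  have hWf : IsFinite w := W.prop.1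
  have hWe : Etale w := W.prop.2
  let W' : X.Etale := Scheme.Etale.mk w
  obtain ⟨V, ⟨e⟩⟩ := (inferInstance : (EtCoh.bc f).EssSurj).mem_essImage W'
  let v : V.left ⟶ Y := V.hom
  have hVe : Etale v := V.prop
  let e' : Over.mk (pullback.snd v f) ≅ Over.mk w := (Scheme.Etale.forget X).mapIso e
  let e'' : pullback v f ≅ W.left := (Over.forget X).mapIso e'
  have hw : e''.hom ≫ w = pullback.snd v f := Over.w e'.hom
  have hfin : IsFinite (pullback.snd v f) := by
    rw [← hw]
    infer_instance
  have hVf : IsFinite v := isFinite_of_pullback f v
  let V' : FEt.Cat Y := MorphismProperty.Over.mk ⊤ v ⟨hVf, hVe⟩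
  refine ⟨V', ⟨?_⟩⟩
  exact MorphismProperty.Over.isoMk e'' hw

end Groth.Agent.Pi1B.UnivHomeoFEt
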