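import Groth.Agent.Pi1B.SplitDom
import Groth.Agent.Pi1B.ClopenComp
import Groth.Agent.S0289

/-!
# Finite etale covers of `X ×_k K` defined over a finite extension embed into covers of `X`
-/

universe u

open CategoryTheory CategoryTheory.Limits AlgebraicGeometry

namespace Groth.Agent.Pi1B.AlgClDesc

open Groth.Agent.Pi1A.FEtAffine LimField SectionDesc SplitDom ClopenComp

variable (k : Type u) [Field k] {X : Scheme.{u}} (f : X ⟶ Spec (CommRingCat.of k))
variable (K : Type u) [Field K] [Algebra k K]

lemma prop_toBase (E : Type u) [Field E] [Algebra k E] [FiniteDimensional k E]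
    [Algebra.IsSeparable k E] : FEt.prop (toBase k E) := by
  have : Algebra.FormallyEtale k E := Algebra.FormallyEtale.of_isSeparable k E
  have : Algebra.Etale k E :=
    { finitePresentation := Algebra.FinitePresentation.of_finiteType.mp inferInstance }
  exact (ofAlgebra k E).prop

/-- If a finite etale cover `V` of `X ×_k K` is defined over `X ×_k F` for `F / k` finite then `V` is
open and closed in the base change of a finite etale cover of `X`. -/
theorem exists_clopen_of_finite (F : Type u) [Field F] [Algebra k F] [FiniteDimensional k F]
    (q : pullback f (toBase k K) ⟶ pullback f (toBase k F))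
    (hq : q ≫ pullback.fst f (toBase k F) = pullback.fst f (toBase k K))
    (W : FEt.Cat (pullback f (toBase k F))) (V : FEt.Cat (pullback f (toBase k K)))
    (e : (FEt.restrict q).obj W ≅ V) :
    ∃ (U : FEt.Cat X) (ι : V ⟶ (FEt.restrict (pullback.fst f (toBase k K))).obj U),
      IsOpenImmersion ι.left ∧ IsClosedImmersion ι.left := by
  let E := separableClosure k F
  let p := trans k f E F
  have hpb := isPullback_trans k f E F
  have : IsIntegralHom p := MorphismProperty.of_isPullback hpb.flip inferInstance
  have : UniversallyInjective p := MorphismProperty.of_isPullback hpb.flip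
    (universallyInjective_spec_map E F)
  have : Surjective p := MorphismProperty.of_isPullback hpb.flip inferInstance
  have : (FEt.restrict p).IsEquivalence := Groth.Agent.S0289.result p
  obtain ⟨W', ⟨e'⟩⟩ := (Functor.EssSurj.mem_essImage (F := FEt.restrict p) W)
  let e'' : V ≅ (FEt.restrict (q ≫ p)).obj W' :=
    e.symm ≪≫ (FEt.restrict q).mapIso e'.symm ≪≫ ((restrictComp q p).app W').symm
  have hfst : FEt.prop (pullback.fst f (toBase k E)) :=
    MorphismProperty.pullback_fst _ _ (prop_toBase k E)
  obtain ⟨U, φ, h1, h2⟩ := exists_clopen (pullback.fst f (toBase k E)) hfst (q ≫ p)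
    (pullback.fst f (toBase k K)) (by rw [Category.assoc, trans_fst, hq]) W'
  refine ⟨U, e''.hom ≫ φ, ?_, ?_⟩
  · have : IsIso e''.hom.left := inferInstance
    rw [MorphismProperty.Comma.comp_left]
    infer_instance
  · have : IsIso e''.hom.left := inferInstance
    rw [MorphismProperty.Comma.comp_left]
    infer_instance

end Groth.Agent.Pi1B.AlgClDesc
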