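import Mathlib.Algebra.Module.LocalizedModule.Basic
import Mathlib.Algebra.Module.LocalizedModule.Exact
import Mathlib.RingTheory.Regular.RegularSequence
import Mathlib.RingTheory.Noetherian.Basic
import Mathlib.RingTheory.Ideal.Operations

set_option autoImplicit false

/-!
# Elementary Čech complexes and depth

For a commutative ring `A`, elements `x i` and a module `M` we consider the first three terms of the
Čech complex built from `LocalizedModule`s, and prove `H^0 = M` if there is a weakly regular sequence of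
length `2` in the radical of the ideal generated by the `x i`, and `H^1 = 0` if there is one of length `3`.
-/

namespace Groth.Agent.Pi1B.CechDepth

universe u v w

variable {A : Type*} [CommRing A]

open Pointwise

section Basic

variable (M : Type*) [AddCommGroup M] [Module A M]

/-- Restriction between localizations. -/
noncomputable abbrev res {S T : Submonoid A} (h : S ≤ T) : LocalizedModule S M →ₗ[A] LocalizedModule T M :=
  LocalizedModule.liftOfLE S T h

/-- The canonical map to a localization. -/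
noncomputable abbrev toL (S : Submonoid A) : M →ₗ[A] LocalizedModule S M := LocalizedModule.mkLinearMap S M

variable {M}

theorem res_mk {S T : Submonoid A} (h : S ≤ T) (m : M) (s : S) :
    res M h (LocalizedModule.mk m s) = LocalizedModule.mk m ⟨s.1, h s.2⟩ := by
  have := IsLocalizedModule.liftOfLE_mk' S T h (LocalizedModule.mkLinearMap S M)
    (LocalizedModule.mkLinearMap T M) m s
  rwa [← IsLocalizedModule.mk_eq_mk', ← IsLocalizedModule.mk_eq_mk'] at this

theorem res_toL {S T : Submonoid A} (h : S ≤ T) (m : M) : res M h (toL M S m) = toL M T m := by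
  rw [toL, LocalizedModule.mkLinearMap_apply, res_mk]
  rfl

theorem res_res {S T U : Submonoid A} (h : S ≤ T) (h' : T ≤ U) (z : LocalizedModule S M) :
    res M h' (res M h z) = res M (h.trans h') z := by
  induction z using LocalizedModule.induction_on with
  | h m s => rw [res_mk, res_mk, res_mk]

/-- `res` for `T = S ⊔ powers y` inverts `y`. -/
theorem exists_res_eq {S T : Submonoid A} (h : S ≤ T) (y : A) (hT : T = S ⊔ Submonoid.powers y)
    (z : LocalizedModule T M) : ∃ (N : ℕ) (w : LocalizedModule S M), res M h w = y ^ N • z := by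
  induction z using LocalizedModule.induction_on with
  | h m s =>
    obtain ⟨s, hs⟩ := s
    obtain ⟨a, ha, b, ⟨N, rfl⟩, hab⟩ := Submonoid.mem_sup.mp (hT ▸ hs)
    refine ⟨N, LocalizedModule.mk m ⟨a, ha⟩, ?_⟩
    rw [res_mk, LocalizedModule.smul'_mk, LocalizedModule.mk_eq]
    refine ⟨1, ?_⟩
    simp only [Submonoid.smul_def, one_smul, smul_smul]
    rw [← hab, mul_comm]

theorem exists_pow_smul_eq_zero {S T : Submonoid A} (h : S ≤ T) (y : A) (hT : T = S ⊔ Submonoid.powers y)
    (w : LocalizedModule S M) (hw : res M h w = 0) : ∃ N : ℕ, y ^ N • w = 0 := by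
  induction w using LocalizedModule.induction_on with
  | h m s =>
    rw [res_mk, ← LocalizedModule.zero_mk 1, LocalizedModule.mk_eq] at hw
    obtain ⟨⟨c, hc⟩, hw⟩ := hw
    simp only [Submonoid.smul_def, one_smul, smul_zero] at hw
    obtain ⟨a, ha, b, ⟨N, rfl⟩, hab⟩ := Submonoid.mem_sup.mp (hT ▸ hc)
    refine ⟨N, ?_⟩
    rw [LocalizedModule.smul'_mk, ← LocalizedModule.zero_mk 1, LocalizedModule.mk_eq]
    refine ⟨⟨a, ha⟩, ?_⟩
    simp only [Submonoid.smul_def, one_smul, smul_zero, smul_smul]
    rw [hab, hw]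

theorem toL_eq_zero {S : Submonoid A} {m : M} (h : toL M S m = 0) : ∃ s ∈ S, s • m = 0 := by
  rw [toL, LocalizedModule.mkLinearMap_apply, ← LocalizedModule.zero_mk 1, LocalizedModule.mk_eq] at h
  obtain ⟨c, hc⟩ := h
  exact ⟨c.1, c.2, by simpa [Submonoid.smul_def] using hc⟩

theorem exists_toL_eq {S : Submonoid A} (z : LocalizedModule S M) : ∃ s ∈ S, ∃ m, toL M S m = s • z := by
  induction z using LocalizedModule.induction_on with
  | h m s =>
    refine ⟨s.1, s.2, m, ?_⟩
    rw [toL, LocalizedModule.mkLinearMap_apply, LocalizedModule.smul'_mk, LocalizedModule.mk_eq]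
    exact ⟨1, by simp [Submonoid.smul_def]⟩

theorem isSMulRegular_localized {y : A} (hy : IsSMulRegular M y) (S : Submonoid A) :
    IsSMulRegular (LocalizedModule S M) y := by
  rw [isSMulRegular_iff_right_eq_zero_of_smul]
  intro z hz
  induction z using LocalizedModule.induction_on with
  | h m s =>
    rw [LocalizedModule.smul'_mk, ← LocalizedModule.zero_mk 1, LocalizedModule.mk_eq] at hz
    obtain ⟨c, hc⟩ := hz
    simp only [one_smul, smul_zero] at hc
    rw [← LocalizedModule.zero_mk 1, LocalizedModule.mk_eq]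
    refine ⟨c, ?_⟩
    simp only [one_smul, smul_zero]
    apply hy
    change y • (c • m) = y • 0
    rw [smul_zero, smul_comm, hc]

theorem smul_injective_of_mem {S : Submonoid A} {s : A} (hs : s ∈ S) {z : LocalizedModule S M}
    (h : s • z = 0) : z = 0 := by
  have h1 := (Module.End.isUnit_iff _).mp
    (IsLocalizedModule.map_units (LocalizedModule.mkLinearMap S M) ⟨s, hs⟩)
  apply h1.1
  simpa using h

end Basic

/-! ### The Čech complex -/

section Cech

variable {ι : Type*} (x : ι → A)

/-- The submonoid of powers of `x i`. -/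
abbrev P (i : ι) : Submonoid A := Submonoid.powers (x i)

variable (M : Type*) [AddCommGroup M] [Module A M]

/-- Čech `0`-cochains. -/
abbrev C0 := ∀ i, LocalizedModule (P x i) M
/-- Čech `1`-cochains. -/
abbrev C1 := ∀ i j, LocalizedModule (P x i ⊔ P x j) M
/-- Čech `2`-cochains. -/
abbrev C2 := ∀ i j k, LocalizedModule (P x i ⊔ P x j ⊔ P x k) M

variable {M}

theorem le_ij_k (i j k : ι) : P x i ⊔ P x j ≤ P x i ⊔ P x j ⊔ P x k := le_sup_left
theorem le_jk_i (i j k : ι) : P x j ⊔ P x k ≤ P x i ⊔ P x j ⊔ P x k :=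
  sup_le (le_sup_right.trans le_sup_left) le_sup_right
theorem le_ik_j (i j k : ι) : P x i ⊔ P x k ≤ P x i ⊔ P x j ⊔ P x k :=
  sup_le (le_sup_left.trans le_sup_left) le_sup_right

variable (M)

/-- The first Čech differential. -/
noncomputable def d0 : C0 x M →ₗ[A] C1 x M where
  toFun b := fun i j => res M (le_sup_right : P x j ≤ P x i ⊔ P x j) (b j) -
    res M (le_sup_left : P x i ≤ P x i ⊔ P x j) (b i)
  map_add' a b := by
    funext i j
    simp only [Pi.add_apply, map_add]
    abel
  map_smul' a b := by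
    funext i j
    simp only [Pi.smul_apply, map_smul, RingHom.id_apply, smul_sub]

/-- The second Čech differential. -/
noncomputable def d1 : C1 x M →ₗ[A] C2 x M where
  toFun c := fun i j k => res M (le_jk_i x i j k) (c j k) - res M (le_ik_j x i j k) (c i k) +
    res M (le_ij_k x i j k) (c i j)
  map_add' a b := by
    funext i j k
    simp only [Pi.add_apply, map_add]
    abel
  map_smul' a b := by
    funext i j k
    simp only [Pi.smul_apply, map_smul, RingHom.id_apply, smul_sub, smul_add]

/-- The augmentation. -/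
noncomputable def aug : M →ₗ[A] C0 x M := LinearMap.pi fun i => toL M (P x i)

variable {M}

theorem d0_apply (b : C0 x M) (i j : ι) : d0 x M b i j =
    res M (le_sup_right : P x j ≤ P x i ⊔ P x j) (b j) -
    res M (le_sup_left : P x i ≤ P x i ⊔ P x j) (b i) := rfl

theorem d1_apply (c : C1 x M) (i j k : ι) : d1 x M c i j k =
    res M (le_jk_i x i j k) (c j k) - res M (le_ik_j x i j k) (c i k) +
    res M (le_ij_k x i j k) (c i j) := rfl

theorem aug_apply (m : M) (i : ι) : aug x M m i = toL M (P x i) m := rfl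

theorem d1_d0 (b : C0 x M) : d1 x M (d0 x M b) = 0 := by
  funext i j k
  rw [d1_apply, d0_apply, d0_apply, d0_apply]
  simp only [map_sub, res_res]
  simp

theorem d0_aug (m : M) : d0 x M (aug x M m) = 0 := by
  funext i j
  rw [d0_apply, aug_apply, aug_apply, res_toL, res_toL, sub_self]
  rfl

/-! #### Functoriality -/

section Functoriality

variable {N : Type*} [AddCommGroup N] [Module A N] (g : M →ₗ[A] N)

/-- The localized map. -/
noncomputable abbrev mapL (S : Submonoid A) : LocalizedModule S M →ₗ[A] LocalizedModule S N :=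
  IsLocalizedModule.map S (LocalizedModule.mkLinearMap S M) (LocalizedModule.mkLinearMap S N) g

theorem mapL_mk (S : Submonoid A) (m : M) (s : S) :
    mapL g S (LocalizedModule.mk m s) = LocalizedModule.mk (g m) s :=
  IsLocalizedModule.map_LocalizedModules S g m s

theorem mapL_res {S T : Submonoid A} (h : S ≤ T) (z : LocalizedModule S M) :
    mapL g T (res M h z) = res N h (mapL g S z) := by
  induction z using LocalizedModule.induction_on with
  | h m s => rw [res_mk, mapL_mk, mapL_mk, res_mk]

theorem mapL_toL (S : Submonoid A) (m : M) : mapL g S (toL M S m) = toL N S (g m) := by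
  rw [toL, LocalizedModule.mkLinearMap_apply, mapL_mk]
  rfl

/-- Map on `0`-cochains. -/
noncomputable def map0 : C0 x M →ₗ[A] C0 x N := LinearMap.pi fun i => (mapL g _).comp (LinearMap.proj i)
/-- Map on `1`-cochains. -/
noncomputable def map1 : C1 x M →ₗ[A] C1 x N where
  toFun c := fun i j => mapL g _ (c i j)
  map_add' a b := by
    funext i j
    simp only [Pi.add_apply, map_add]
  map_smul' a b := by
    funext i j
    simp only [Pi.smul_apply, map_smul, RingHom.id_apply]

theorem map0_apply (b : C0 x M) (i : ι) : map0 x g b i = mapL g _ (b i) := rfl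
theorem map1_apply (b : C1 x M) (i j : ι) : map1 x g b i j = mapL g _ (b i j) := rfl

theorem d0_map0 (b : C0 x M) : d0 x N (map0 x g b) = map1 x g (d0 x M b) := by
  funext i j
  rw [d0_apply, map1_apply, d0_apply, map_sub, mapL_res, mapL_res]
  rfl

theorem map0_aug (m : M) : map0 x g (aug x M m) = aug x N (g m) := by
  funext i
  rw [map0_apply, aug_apply, mapL_toL]
  rfl

end Functoriality

/-! #### Torsion arguments -/

/-- If all the `x i` have a power multiplying `c` into `B`, so does every element of the radical. -/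
theorem exists_pow_smul_mem {Q : Type*} [AddCommGroup Q] [Module A Q] (B : Submodule A Q) (c : Q)
    (h : ∀ i, ∃ N : ℕ, x i ^ N • c ∈ B) {y : A} (hy : y ∈ (Ideal.span (Set.range x)).radical) :
    ∃ N : ℕ, y ^ N • c ∈ B := by
  let I : Ideal A := B.comap (LinearMap.toSpanSingleton A Q c)
  have hI : ∀ a, a ∈ I ↔ a • c ∈ B := fun a => by simp [I]
  have h1 : Ideal.span (Set.range x) ≤ I.radical := by
    rw [Ideal.span_le]
    rintro _ ⟨i, rfl⟩
    obtain ⟨N, hN⟩ := h i
    exact ⟨N, (hI _).2 hN⟩
  have h2 := Ideal.radical_mono h1 hy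
  rw [Ideal.radical_idem] at h2
  obtain ⟨N, hN⟩ := h2
  exact ⟨N, (hI _).1 hN⟩

theorem exists_pow_smul_forall [Finite ι] {Q : ι → Type*} [∀ j, AddCommGroup (Q j)] [∀ j, Module A (Q j)]
    (y : A) (c : ∀ j, Q j) (h : ∀ j, ∃ N : ℕ, y ^ N • c j = 0) : ∃ N : ℕ, y ^ N • c = 0 := by
  classical
  cases nonempty_fintype ι
  choose N hN using h
  refine ⟨∑ j, N j, funext fun j => ?_⟩
  have : ∑ j, N j = (∑ j, N j - N j) + N j :=
    (Nat.sub_add_cancel (Finset.single_le_sum (fun _ _ => Nat.zero_le _) (Finset.mem_univ j))).symm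
  rw [Pi.smul_apply, this, pow_add, mul_smul, hN, smul_zero]
  rfl

theorem aug_injective {y : A} (hy : y ∈ (Ideal.span (Set.range x)).radical) (hreg : IsSMulRegular M y)
    {m : M} (hm : aug x M m = 0) : m = 0 := by
  obtain ⟨N, hN⟩ := exists_pow_smul_mem x (⊥ : Submodule A M) m (fun i => by
    obtain ⟨s, ⟨N, rfl⟩, hs⟩ := toL_eq_zero (congrFun hm i)
    exact ⟨N, by simpa using hs⟩) hy
  rw [Submodule.mem_bot] at hN
  have h1 : IsSMulRegular M (y ^ N) := hreg.pow N
  exact h1 (by simpa using hN)

theorem torsion0 [Finite ι] (s : C0 x M) (hs : d0 x M s = 0) (i : ι) :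
    ∃ N : ℕ, x i ^ N • s ∈ LinearMap.range (aug x M) := by
  obtain ⟨a, ⟨N, rfl⟩, m, hm⟩ := exists_toL_eq (s i)
  have h1 : ∀ j, ∃ N' : ℕ, x i ^ N' • (x i ^ N • s - aug x M m) j = 0 := by
    intro j
    apply exists_pow_smul_eq_zero (le_sup_right : P x j ≤ P x i ⊔ P x j) (x i) (sup_comm _ _)
    have h2 : res M (le_sup_right : P x j ≤ P x i ⊔ P x j) (s j) =
        res M (le_sup_left : P x i ≤ P x i ⊔ P x j) (s i) := by
      have := congrFun (congrFun hs i) j
      rw [d0_apply] at this
      exact sub_eq_zero.mp this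
    rw [Pi.sub_apply, Pi.smul_apply, map_sub, map_smul, aug_apply, res_toL, h2, ← map_smul, ← hm, res_toL,
      sub_self]
  obtain ⟨N', hN'⟩ := exists_pow_smul_forall (x i) _ h1
  refine ⟨N' + N, x i ^ N' • m, ?_⟩
  rw [smul_sub, sub_eq_zero] at hN'
  rw [map_smul, ← hN', smul_smul, ← pow_add]

/-- `H^0` of the Čech complex is `M` if `M` has depth at least `2`. -/
theorem exists_aug_eq [Finite ι] {y1 y2 : A} (hy1 : y1 ∈ (Ideal.span (Set.range x)).radical)
    (hy2 : y2 ∈ (Ideal.span (Set.range x)).radical) (hreg : RingTheory.Sequence.IsWeaklyRegular M [y1, y2])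
    (s : C0 x M) (hs : d0 x M s = 0) : ∃ m, aug x M m = s := by
  rw [RingTheory.Sequence.isWeaklyRegular_cons_iff, RingTheory.Sequence.isWeaklyRegular_cons_iff] at hreg
  obtain ⟨h1, h2, -⟩ := hreg
  obtain ⟨N, hN⟩ := exists_pow_smul_mem x (LinearMap.range (aug x M)) s (torsion0 x s hs) hy1
  -- descend
  have step : ∀ s : C0 x M, y1 • s ∈ LinearMap.range (aug x M) → s ∈ LinearMap.range (aug x M) := by
    rintro s ⟨m, hm⟩
    have h3 : ∀ i, ∃ N : ℕ, x i ^ N • m ∈ y1 • (⊤ : Submodule A M) := by
      intro i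
      obtain ⟨_, ⟨k, rfl⟩, m', hm'⟩ := exists_toL_eq (s i)
      have h4 : toL M (P x i) (x i ^ k • m - y1 • m') = 0 := by
        rw [map_sub, map_smul, map_smul, hm', ← aug_apply, hm, Pi.smul_apply, smul_comm, sub_self]
      obtain ⟨_, ⟨k', rfl⟩, h5⟩ := toL_eq_zero h4
      refine ⟨k' + k, x i ^ k' • m', trivial, ?_⟩
      rw [smul_sub, sub_eq_zero] at h5
      change y1 • (x i ^ k' • m') = _
      rw [pow_add, mul_smul]
      change _ = x i ^ k' • (x i ^ k • m)
      rw [show x i ^ k' • (x i ^ k • m) = x i ^ k' • (y1 • m') from h5, smul_comm]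
    obtain ⟨N, hN⟩ := exists_pow_smul_mem x _ m h3 hy2
    have h6 : m ∈ y1 • (⊤ : Submodule A M) := by
      have h7 : IsSMulRegular (QuotSMulTop y1 M) (y2 ^ N) := h2.pow N
      have h8 : (y2 ^ N) • (Submodule.Quotient.mk m : QuotSMulTop y1 M) = 0 := by
        rw [← Submodule.Quotient.mk_smul, Submodule.Quotient.mk_eq_zero]
        exact hN
      have h9 : (Submodule.Quotient.mk m : QuotSMulTop y1 M) = 0 := h7 (by simpa using h8)
      rwa [Submodule.Quotient.mk_eq_zero] at h9
    obtain ⟨m', -, rfl⟩ := h6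
    refine ⟨m', ?_⟩
    funext i
    apply isSMulRegular_localized h1 (P x i)
    have h9 := congrFun hm i
    change y1 • (aug x M m' i) = y1 • (s i)
    rw [← Pi.smul_apply y1 s, ← h9, ← Pi.smul_apply y1, ← map_smul]
    rfl
  clear h2
  induction N generalizing s with
  | zero => simpa using hN
  | succ N ih =>
    refine step s (ih _ ?_ ?_)
    · rw [map_smul, hs, smul_zero]
    · rwa [smul_smul, ← pow_succ]

theorem torsion1 [Finite ι] (c : C1 x M) (hc : d1 x M c = 0) (i : ι) :
    ∃ N : ℕ, x i ^ N • c ∈ LinearMap.range (d0 x M) := by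
  classical
  cases nonempty_fintype ι
  have h1 : ∀ j, ∃ (N : ℕ) (w : LocalizedModule (P x j) M),
      res M (le_sup_right : P x j ≤ P x i ⊔ P x j) w = x i ^ N • c i j := fun j =>
    exists_res_eq _ (x i) (sup_comm _ _) _
  -- uniformize the exponent
  have h2 : ∃ (N : ℕ) (b : C0 x M), ∀ j, res M (le_sup_right : P x j ≤ P x i ⊔ P x j) (b j) = x i ^ N • c i j := by
    choose N w hw using h1
    refine ⟨∑ j, N j, fun j => x i ^ (∑ k, N k - N j) • w j, fun j => ?_⟩
    rw [map_smul, hw, smul_smul, ← pow_add,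
      Nat.sub_add_cancel (Finset.single_le_sum (fun _ _ => Nat.zero_le _) (Finset.mem_univ j))]
  obtain ⟨N, b, hb⟩ := h2
  have h3 : ∀ p : ι × ι, ∃ N' : ℕ, x i ^ N' • (x i ^ N • c p.1 p.2 - d0 x M b p.1 p.2) = 0 := by
    rintro ⟨j, k⟩
    have hle : P x j ⊔ P x k ≤ P x i ⊔ P x j ⊔ P x k := le_jk_i x i j k
    apply exists_pow_smul_eq_zero hle (x i) (by rw [sup_comm (P x j ⊔ P x k), ← sup_assoc])
    have h4 := congrFun (congrFun (congrFun hc i) j) k
    rw [d1_apply] at h4
    have h5 : res M hle (c j k) = res M (le_ik_j x i j k) (c i k) - res M (le_ij_k x i j k) (c i j) := by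
      rw [Pi.zero_apply, Pi.zero_apply, Pi.zero_apply] at h4
      rw [← sub_eq_zero, ← h4]
      abel
    have h6 : res M (le_ik_j x i j k) (x i ^ N • c i k) = res M (le_sup_right : P x k ≤ P x i ⊔ P x j ⊔ P x k) (b k) := by
      rw [← hb, res_res]
    have h7 : res M (le_ij_k x i j k) (x i ^ N • c i j) =
        res M (le_sup_right.trans le_sup_left : P x j ≤ P x i ⊔ P x j ⊔ P x k) (b j) := by
      rw [← hb, res_res]
    dsimp only
    rw [d0_apply, map_sub, map_smul, h5, map_sub, res_res, res_res, smul_sub, ← map_smul, ← map_smul, h6, h7]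
    exact sub_self _
  obtain ⟨N', hN'⟩ := exists_pow_smul_forall (x i) (fun p : ι × ι => x i ^ N • c p.1 p.2 - d0 x M b p.1 p.2) h3
  refine ⟨N' + N, x i ^ N' • b, ?_⟩
  funext j k
  have h8 := congrFun hN' (j, k)
  rw [Pi.smul_apply, Pi.zero_apply, smul_sub, sub_eq_zero] at h8
  rw [map_smul, Pi.smul_apply, Pi.smul_apply, ← h8, smul_smul, ← pow_add]
  rfl

/-- `H^1` of the Čech complex vanishes if `M` has depth at least `3`. -/
theorem exists_d0_eq [Finite ι] {y1 y2 y3 : A} (hy1 : y1 ∈ (Ideal.span (Set.range x)).radical)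
    (hy2 : y2 ∈ (Ideal.span (Set.range x)).radical) (hy3 : y3 ∈ (Ideal.span (Set.range x)).radical)
    (hreg : RingTheory.Sequence.IsWeaklyRegular M [y1, y2, y3])
    (c : C1 x M) (hc : d1 x M c = 0) : ∃ b, d0 x M b = c := by
  rw [RingTheory.Sequence.isWeaklyRegular_cons_iff] at hreg
  obtain ⟨h1, h2⟩ := hreg
  obtain ⟨N, hN⟩ := exists_pow_smul_mem x (LinearMap.range (d0 x M)) c (torsion1 x c hc) hy1
  have step : ∀ c : C1 x M, y1 • c ∈ LinearMap.range (d0 x M) → c ∈ LinearMap.range (d0 x M) := by
    rintro c ⟨b, hb⟩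
    let g : M →ₗ[A] QuotSMulTop y1 M := Submodule.mkQ _
    have h3 : d0 x _ (map0 x g b) = 0 := by
      rw [d0_map0, hb, map_smul]
      funext i j
      change y1 • (map1 x g c i j) = 0
      induction map1 x g c i j using LocalizedModule.induction_on with
      | h m s =>
        rw [LocalizedModule.smul'_mk]
        have : y1 • m = 0 := by
          obtain ⟨m, rfl⟩ := Submodule.mkQ_surjective _ m
          rw [← map_smul, Submodule.mkQ_apply, Submodule.Quotient.mk_eq_zero]
          exact ⟨m, trivial, rfl⟩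
        rw [this, LocalizedModule.zero_mk]
    obtain ⟨m', hm'⟩ := exists_aug_eq x hy2 hy3 h2 (map0 x g b) h3
    obtain ⟨m, rfl⟩ := Submodule.mkQ_surjective _ m'
    have h4 : ∀ i, ∃ z : LocalizedModule (P x i) M, b i - aug x M m i = y1 • z := by
      intro i
      have h5 : mapL g (P x i) (b i - aug x M m i) = 0 := by
        rw [map_sub, sub_eq_zero]
        have := congrFun hm' i
        rw [map0_apply] at this
        rw [← this, aug_apply, aug_apply, mapL_toL]
      have hex : Function.Exact (LinearMap.lsmul A M y1) g := by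
        intro z
        rw [Submodule.mkQ_apply, Submodule.Quotient.mk_eq_zero]
        constructor
        · rintro ⟨w, -, hw⟩
          exact ⟨w, hw⟩
        · rintro ⟨w, hw⟩
          exact ⟨w, trivial, hw⟩
      obtain ⟨z, hz⟩ := (LocalizedModule.map_exact (P x i) _ _ hex _).1 h5
      refine ⟨z, ?_⟩
      rw [← hz]
      induction z using LocalizedModule.induction_on with
      | h m s =>
        rw [IsLocalizedModule.map_LocalizedModules, LocalizedModule.smul'_mk]
        rfl
    choose z hz using h4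
    refine ⟨z, ?_⟩
    have h6 : y1 • d0 x M z = y1 • c := by
      rw [← hb, ← map_smul]
      have : y1 • z = b - aug x M m := funext fun i => (hz i).symm
      rw [this, map_sub, d0_aug, sub_zero]
    funext i j
    apply isSMulRegular_localized h1
    exact congrFun (congrFun h6 i) j
  clear h2
  induction N generalizing c with
  | zero => simpa using hN
  | succ N ih =>
    refine step c (ih _ ?_ ?_)
    · rw [map_smul, hc, smul_zero]
    · rwa [smul_smul, ← pow_succ]

/-! #### Finiteness of `H^1` -/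

section H1

variable {F : Type*} [AddCommGroup F] [Module A F] {G : Type*} [AddCommGroup G] [Module A G]
  (u : M →ₗ[A] F) (v : F →ₗ[A] G)

/-- The relation between Čech cochains of `M` and elements of `G`. -/
def rel : Submodule A (C1 x M × G) where
  carrier := {p | ∃ b : C0 x F, d0 x F b = map1 x u p.1 ∧ map0 x v b = aug x G p.2}
  zero_mem' := ⟨0, by simp⟩
  add_mem' := by
    rintro p q ⟨b, h1, h2⟩ ⟨b', h1', h2'⟩
    exact ⟨b + b', by rw [map_add, h1, h1', Prod.fst_add, map_add],
      by rw [map_add, h2, h2', Prod.snd_add, map_add]⟩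
  smul_mem' := by
    rintro a p ⟨b, h1, h2⟩
    exact ⟨a • b, by rw [map_smul, h1, Prod.smul_fst, map_smul],
      by rw [map_smul, h2, Prod.smul_snd, map_smul]⟩

theorem d1_map1 (c : C1 x M) : d1 x F (map1 x u c) = fun i j k => mapL u _ (d1 x M c i j k) := by
  funext i j k
  rw [d1_apply, d1_apply, map_add, map_sub, mapL_res, mapL_res, mapL_res]
  rfl

theorem map1_map0 (b : C0 x F) (hb : ∃ c : C1 x M, d0 x F b = map1 x u c) (hvu : ∀ m, v (u m) = 0) :
    d0 x G (map0 x v b) = 0 := by
  obtain ⟨c, hc⟩ := hb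
  rw [d0_map0, hc]
  funext i j
  rw [map1_apply, map1_apply]
  induction c i j using LocalizedModule.induction_on with
  | h m s => rw [mapL_mk, mapL_mk, hvu, LocalizedModule.zero_mk]; rfl

theorem rel_total [Finite ι] {y1 y2 y3 : A} (hy1 : y1 ∈ (Ideal.span (Set.range x)).radical)
    (hy2 : y2 ∈ (Ideal.span (Set.range x)).radical) (hy3 : y3 ∈ (Ideal.span (Set.range x)).radical)
    (hF : RingTheory.Sequence.IsWeaklyRegular F [y1, y2, y3])
    (hG : RingTheory.Sequence.IsWeaklyRegular G [y1, y2]) (hvu : ∀ m, v (u m) = 0)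
    (c : C1 x M) (hc : d1 x M c = 0) : ∃ h, (c, h) ∈ rel x u v := by
  obtain ⟨b, hb⟩ := exists_d0_eq x hy1 hy2 hy3 hF (map1 x u c) (by
    rw [d1_map1, hc]
    funext i j k
    simp only [Pi.zero_apply, map_zero])
  obtain ⟨g, hg⟩ := exists_aug_eq x hy1 hy2 hG (map0 x v b) (map1_map0 x u v b ⟨c, hb⟩ hvu)
  exact ⟨g, b, hb, hg.symm⟩

theorem mapL_injective (i : ι) (S : Submonoid A) (hS : P x i ≤ S)
    (hinj : ∀ m, u m = 0 → ∃ N : ℕ, x i ^ N • m = 0) (z : LocalizedModule S M) (hz : mapL u S z = 0) :
    z = 0 := by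
  induction z using LocalizedModule.induction_on with
  | h m s =>
    rw [mapL_mk, ← LocalizedModule.zero_mk 1, LocalizedModule.mk_eq] at hz
    obtain ⟨c, hc⟩ := hz
    simp only [one_smul, smul_zero] at hc
    obtain ⟨N, hN⟩ := hinj (c.1 • m) (by rw [map_smul]; exact hc)
    rw [← LocalizedModule.zero_mk 1, LocalizedModule.mk_eq]
    refine ⟨⟨x i ^ N, hS ⟨N, rfl⟩⟩ * c, ?_⟩
    simp only [one_smul, smul_zero, mul_smul]
    exact hN

theorem exists_mapL_eq (i : ι)
    (hex : ∀ a, v a = 0 → ∃ (N : ℕ) (m : M), x i ^ N • a = u m)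
    (z : LocalizedModule (P x i) F) (hz : mapL v (P x i) z = 0) :
    ∃ w, mapL u (P x i) w = z := by
  induction z using LocalizedModule.induction_on with
  | h a s =>
    rw [mapL_mk, ← LocalizedModule.zero_mk 1, LocalizedModule.mk_eq] at hz
    obtain ⟨⟨_, k, rfl⟩, hc⟩ := hz
    simp only [one_smul, smul_zero, Submonoid.smul_def] at hc
    obtain ⟨N, m, hm⟩ := hex (x i ^ k • a) (by rw [map_smul]; exact hc)
    refine ⟨LocalizedModule.mk m (⟨x i ^ N, N, rfl⟩ * ⟨x i ^ k, k, rfl⟩ * s), ?_⟩
    rw [mapL_mk, LocalizedModule.mk_eq, ← hm]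
    refine ⟨1, ?_⟩
    simp only [one_smul, Submonoid.smul_def, Submonoid.coe_mul, smul_smul]
    congr 1
    ring

theorem rel_zero (hinj : ∀ i m, u m = 0 → ∃ N : ℕ, x i ^ N • m = 0)
    (hex : ∀ i a, v a = 0 → ∃ (N : ℕ) (m : M), x i ^ N • a = u m)
    (c : C1 x M) (hc : (c, (0 : G)) ∈ rel x u v) : ∃ b, c = d0 x M b := by
  obtain ⟨b, hb, hb'⟩ := hc
  have h1 : ∀ i, ∃ w, mapL u (P x i) w = b i := fun i =>
    exists_mapL_eq x u v i (hex i) (b i) (by
      have := congrFun hb' i
      rw [map0_apply] at this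
      rw [this]
      simp)
  choose w hw using h1
  refine ⟨w, ?_⟩
  rw [← sub_eq_zero]
  funext i j
  apply mapL_injective x u i _ le_sup_left (hinj i)
  have h2 : map1 x u (c - d0 x M w) = 0 := by
    have h3 : map0 x u w = b := funext hw
    rw [map_sub, ← hb, ← d0_map0, h3, sub_self]
  exact congrFun (congrFun h2 i) j

end H1

end Cech

end Groth.Agent.Pi1B.CechDepth
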