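import Groth.Agent.Pi1B.FormalAlgebraize
import Groth.Agent.Pi1B.CechDepth
import Mathlib.Algebra.Algebra.Pi
import Mathlib.Algebra.Algebra.Subalgebra.Basic

set_option autoImplicit false

/-!
# Algebraization of a system of algebras over the infinitesimal neighbourhoods of `V(f)` in a punctured spectrum
-/

namespace Groth.Agent.Pi1B.AlgebraizeSystem

open FormalAlgebraize CechDepth

variable {A : Type*} [CommRing A] {f : A}

/-! ### Towers from localizations -/

section Localized

variable {N : ℕ → Type*} [∀ n, AddCommGroup (N n)] [∀ n, Module A (N n)]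
    (r : ∀ n, N (n + 1) →ₗ[A] N n)

/-- A system which becomes an adic tower after inverting `x`. -/
structure LocTower (f x : A) {N : ℕ → Type*} [∀ n, AddCommGroup (N n)] [∀ n, Module A (N n)]
    (r : ∀ n, N (n + 1) →ₗ[A] N n) : Prop where
  surj : ∀ n (b : N n), ∃ (k : ℕ) (b' : N (n + 1)), r n b' = x ^ k • b
  ker : ∀ n (b : N (n + 1)), r n b = 0 → ∃ (k : ℕ) (z : N (n + 1)), x ^ k • b = f ^ (n + 1) • z
  tors : ∀ n (b : N n), f • b = 0 → ∃ (k : ℕ) (z : N n), x ^ k • b = f ^ n • z
  nil : ∀ n (b : N n), f ^ (n + 1) • b = 0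

variable {r}

theorem mk_eq_smul_mk {M : Type*} [AddCommGroup M] [Module A M] {S : Submonoid A} (b z : M) (s t : S) (a : A)
    (h : t • b = a • z) : LocalizedModule.mk b s = a • LocalizedModule.mk z (t * s) := by
  rw [LocalizedModule.smul'_mk, ← h, LocalizedModule.mk_cancel_common_left]

theorem LocTower.adicTower {x : A} (h : LocTower f x r) (S : Submonoid A) (hS : Submonoid.powers x ≤ S) :
    AdicTower f (N := fun n => LocalizedModule S (N n)) (fun n => mapL (r n) S) where
  surj n z := by
    induction z using LocalizedModule.induction_on with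
    | h b s =>
      obtain ⟨k, b', hb'⟩ := h.surj n b
      refine ⟨LocalizedModule.mk b' (⟨x ^ k, hS ⟨k, rfl⟩⟩ * s), ?_⟩
      rw [mapL_mk, hb']
      exact LocalizedModule.mk_cancel_common_left ⟨x ^ k, hS ⟨k, rfl⟩⟩ s b
  ker n z hz := by
    induction z using LocalizedModule.induction_on with
    | h b s =>
      rw [mapL_mk, ← LocalizedModule.zero_mk 1, LocalizedModule.mk_eq] at hz
      obtain ⟨c, hc⟩ := hz
      simp only [one_smul, smul_zero] at hc
      obtain ⟨k, w, hw⟩ := h.ker n (c.1 • b) (by rw [map_smul]; exact hc)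
      exact ⟨_, mk_eq_smul_mk b w s (⟨x ^ k, hS ⟨k, rfl⟩⟩ * c) _ (by rw [mul_smul]; exact hw)⟩
  tors n z hz := by
    induction z using LocalizedModule.induction_on with
    | h b s =>
      rw [LocalizedModule.smul'_mk, ← LocalizedModule.zero_mk 1, LocalizedModule.mk_eq] at hz
      obtain ⟨c, hc⟩ := hz
      simp only [one_smul, smul_zero] at hc
      obtain ⟨k, w, hw⟩ := h.tors n (c.1 • b) (by rw [smul_comm]; exact hc)
      exact ⟨_, mk_eq_smul_mk b w s (⟨x ^ k, hS ⟨k, rfl⟩⟩ * c) _ (by rw [mul_smul]; exact hw)⟩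
  nil n z := by
    induction z using LocalizedModule.induction_on with
    | h b s => rw [LocalizedModule.smul'_mk, h.nil, LocalizedModule.zero_mk]

end Localized

section System

variable {ι : Type*} (x : ι → A)
variable {B : ℕ → Type*} [∀ n, CommRing (B n)] [∀ n, Algebra A (B n)] (r : ∀ n, B (n + 1) →ₐ[A] B n)

/-- map on 2-cochains -/
noncomputable def map2 {M N : Type*} [AddCommGroup M] [Module A M] [AddCommGroup N] [Module A N]
    (g : M →ₗ[A] N) : C2 x M →ₗ[A] C2 x N where
  toFun c := fun i j k => mapL g _ (c i j k)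
  map_add' a b := by
    funext i j k
    simp only [Pi.add_apply, map_add]
  map_smul' a b := by
    funext i j k
    simp only [Pi.smul_apply, map_smul, RingHom.id_apply]

variable (h : ∀ i, LocTower f (x i) (fun n => (r n).toLinearMap))

include h

theorem tower0 : AdicTower f (N := fun n => C0 x (B n)) (fun n => map0 x (r n).toLinearMap) where
  surj n z := by
    choose w hw using fun i => ((h i).adicTower (P x i) le_rfl).surj n (z i)
    exact ⟨w, funext hw⟩
  ker n z hz := by
    choose w hw using fun i => ((h i).adicTower (P x i) le_rfl).ker n (z i) (congrFun hz i)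
    exact ⟨w, funext hw⟩
  tors n z hz := by
    choose w hw using fun i => ((h i).adicTower (P x i) le_rfl).tors n (z i) (congrFun hz i)
    exact ⟨w, funext hw⟩
  nil n z := funext fun i => ((h i).adicTower (P x i) le_rfl).nil n (z i)

theorem tower1 : AdicTower f (N := fun n => C1 x (B n)) (fun n => map1 x (r n).toLinearMap) where
  surj n z := by
    choose w hw using fun i j => ((h i).adicTower (P x i ⊔ P x j) le_sup_left).surj n (z i j)
    exact ⟨w, funext fun i => funext (hw i)⟩
  ker n z hz := by
    choose w hw using fun i j => ((h i).adicTower (P x i ⊔ P x j) le_sup_left).ker n (z i j)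
      (congrFun (congrFun hz i) j)
    exact ⟨w, funext fun i => funext (hw i)⟩
  tors n z hz := by
    choose w hw using fun i j => ((h i).adicTower (P x i ⊔ P x j) le_sup_left).tors n (z i j)
      (congrFun (congrFun hz i) j)
    exact ⟨w, funext fun i => funext (hw i)⟩
  nil n z := funext fun i => funext fun j =>
    ((h i).adicTower (P x i ⊔ P x j) le_sup_left).nil n (z i j)

theorem tower2 : AdicTower f (N := fun n => C2 x (B n)) (fun n => map2 x (r n).toLinearMap) where
  surj n z := by
    choose w hw using fun i j k =>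
      ((h i).adicTower (P x i ⊔ P x j ⊔ P x k) (le_sup_left.trans le_sup_left)).surj n (z i j k)
    exact ⟨w, funext fun i => funext fun j => funext (hw i j)⟩
  ker n z hz := by
    choose w hw using fun i j k =>
      ((h i).adicTower (P x i ⊔ P x j ⊔ P x k) (le_sup_left.trans le_sup_left)).ker n (z i j k)
      (congrFun (congrFun (congrFun hz i) j) k)
    exact ⟨w, funext fun i => funext fun j => funext (hw i j)⟩
  tors n z hz := by
    choose w hw using fun i j k =>
      ((h i).adicTower (P x i ⊔ P x j ⊔ P x k) (le_sup_left.trans le_sup_left)).tors n (z i j k)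
      (congrFun (congrFun (congrFun hz i) j) k)
    exact ⟨w, funext fun i => funext fun j => funext (hw i j)⟩
  nil n z := funext fun i => funext fun j => funext fun k =>
    ((h i).adicTower (P x i ⊔ P x j ⊔ P x k) (le_sup_left.trans le_sup_left)).nil n (z i j k)

end System

/-! ### The limit algebra -/

section Limit

variable {B : ℕ → Type*} [∀ n, CommRing (B n)] [∀ n, Algebra A (B n)] (r : ∀ n, B (n + 1) →ₐ[A] B n)

/-- The limit of the system, as a subalgebra of the product. -/
def limAlg : Subalgebra A (∀ n, B n) where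
  carrier := {b | ∀ n, r n (b (n + 1)) = b n}
  mul_mem' := fun {a b} ha hb n => by rw [Pi.mul_apply, map_mul, ha n, hb n]; rfl
  one_mem' := fun n => by simp
  add_mem' := fun {a b} ha hb n => by rw [Pi.add_apply, map_add, ha n, hb n]; rfl
  zero_mem' := fun n => by simp
  algebraMap_mem' := fun a n => by simp

theorem mem_limAlg {b : ∀ n, B n} : b ∈ limAlg r ↔ ∀ n, r n (b (n + 1)) = b n := Iff.rfl

variable {ι : Type*} (x : ι → A)

/-- From the limit algebra to formal sections. -/
noncomputable def toSections : limAlg r →ₗ[A] sections (C0 := fun n => C0 x (B n)) (C1 := fun n => C1 x (B n))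
    (fun n => d0 x (B n)) (fun n => map0 x (r n).toLinearMap) where
  toFun b := ⟨fun n => aug x (B n) (b.1 n), fun n => by rw [map0_aug]; exact congrArg _ (b.2 n),
    fun n => d0_aug x _⟩
  map_add' a b := Subtype.ext (funext fun n => map_add _ _ _)
  map_smul' a b := Subtype.ext (funext fun n => map_smul _ _ _)

variable (hinj : ∀ n (b : B n), aug x (B n) b = 0 → b = 0)
  (hsurj : ∀ n (s : C0 x (B n)), d0 x (B n) s = 0 → ∃ b, aug x (B n) b = s)

include hinj in
theorem toSections_injective : Function.Injective (toSections r x) := by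
  rw [injective_iff_map_eq_zero]
  intro b hb
  refine Subtype.ext (funext fun n => hinj n _ ?_)
  exact congrFun (congrArg Subtype.val hb) n

include hinj hsurj in
theorem toSections_surjective : Function.Surjective (toSections r x) := by
  intro s
  choose b hb using fun n => hsurj n (s.1 n) (s.2.2 n)
  refine ⟨⟨b, fun n => ?_⟩, Subtype.ext (funext hb)⟩
  rw [← sub_eq_zero]
  apply hinj
  rw [map_sub, hb]
  have h1 := map0_aug x (r n).toLinearMap (b (n + 1))
  rw [hb] at h1
  rw [sub_eq_zero]
  exact h1.symm.trans (s.2.1 n)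

/-- The algebraization theorem for systems of algebras. -/
theorem algebraize [Finite ι] [IsNoetherianRing A] [IsPrecomplete (Ideal.span {f}) A]
    (h : ∀ i, LocTower f (x i) (fun n => (r n).toLinearMap))
    (hinj : ∀ n (b : B n), aug x (B n) b = 0 → b = 0)
    (hsurj : ∀ n (s : C0 x (B n)), d0 x (B n) s = 0 → ∃ b, aug x (B n) b = s)
    [Module.Finite A (B 0)]
    {F G : Type*} [AddCommGroup F] [Module A F] [AddCommGroup G] [Module A G] [Module.Finite A G]
    (u : B 0 →ₗ[A] F) (v : F →ₗ[A] G) (hvu : ∀ m, v (u m) = 0)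
    (huinj : ∀ i m, u m = 0 → ∃ N : ℕ, x i ^ N • m = 0)
    (hex : ∀ i a, v a = 0 → ∃ (N : ℕ) (m : B 0), x i ^ N • a = u m)
    {y1 y2 y3 : A} (hy1 : y1 ∈ (Ideal.span (Set.range x)).radical)
    (hy2 : y2 ∈ (Ideal.span (Set.range x)).radical) (hy3 : y3 ∈ (Ideal.span (Set.range x)).radical)
    (hF : RingTheory.Sequence.IsWeaklyRegular F [y1, y2, y3])
    (hG : RingTheory.Sequence.IsWeaklyRegular G [y1, y2]) :
    Module.Finite A (limAlg r) ∧ (∀ l : limAlg r, f • l = 0 → l = 0) ∧
      (∀ l : limAlg r, l.1 0 = 0 → ∃ l', l = f • l') ∧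
      (∀ b : B 0, ∀ i, ∃ (N : ℕ) (l : limAlg r), l.1 0 = x i ^ N • b) := by
  have t0 := tower0 x r h
  have t1 := tower1 x r h
  have t2 := tower2 x r h
  have hbij : Function.Bijective (toSections r x) :=
    ⟨toSections_injective r x hinj, toSections_surjective r x hinj hsurj⟩
  let e := LinearEquiv.ofBijective (toSections r x) hbij
  have hd0r : ∀ n (s : C0 x (B (n + 1))), map1 x (r n).toLinearMap (d0 x (B (n + 1)) s) =
      d0 x (B n) (map0 x (r n).toLinearMap s) := fun n s => (d0_map0 x _ s).symm
  have hd1r : ∀ n (s : C1 x (B (n + 1))), map2 x (r n).toLinearMap (d1 x (B (n + 1)) s) =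
      d1 x (B n) (map1 x (r n).toLinearMap s) := fun n s => (d1_map1 x _ s).symm
  have : IsNoetherian A (LinearMap.ker (d0 x (B 0))) := by
    let g : B 0 →ₗ[A] LinearMap.ker (d0 x (B 0)) := (aug x (B 0)).codRestrict _ (fun m => d0_aug x m)
    refine isNoetherian_of_surjective g (LinearMap.range_eq_top.mpr ?_)
    rintro ⟨s, hs⟩
    obtain ⟨b, hb⟩ := hsurj 0 s hs
    exact ⟨b, Subtype.ext hb⟩
  refine ⟨?_, ?_, ?_, ?_⟩
  · have := sections_finite t0 t1 (fun n => d0 x (B n)) hd0r
    exact Module.Finite.of_surjective e.symm.toLinearMap e.symm.surjective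
  · intro l hl
    apply hbij.1
    rw [map_zero]
    refine Subtype.ext (sections_tf t0 _ (toSections r x l).2 ?_)
    have := congrArg (toSections r x) hl
    rw [map_smul, map_zero] at this
    exact congrArg Subtype.val this
  · intro l hl
    obtain ⟨t, ht, h2⟩ := sections_exists_smul t0 t1 _ hd0r 0 (toSections r x l).2 (by
      change aug x (B 0) (l.1 0) = 0
      rw [hl, map_zero])
    obtain ⟨l', hl'⟩ := hbij.2 ⟨t, ht⟩
    refine ⟨l', hbij.1 (Subtype.ext ?_)⟩
    rw [h2, map_smul, hl']
    simp
  · intro b i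
    obtain ⟨n0, hn0⟩ := exists_section t0 t1 t2 (fun n => d0 x (B n)) (fun n => d1 x (B n)) hd0r hd1r
      (fun n s => d1_d0 x s) (rel x u v) (fun c hc => rel_total x u v hy1 hy2 hy3 hF hG hvu c hc)
      (fun c hc => rel_zero x u v huinj hex c hc)
    have key : ∀ n (b : B 0), ∃ (N : ℕ) (b' : B n), down (fun n => (r n).toLinearMap) n b' = x i ^ N • b := by
      intro n
      induction n with
      | zero => intro b; exact ⟨0, b, by simp [down]⟩
      | succ n ih =>
        intro b
        obtain ⟨N, b', hb'⟩ := ih b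
        obtain ⟨k, b'', hb''⟩ := (h i).surj n b'
        refine ⟨k + N, b'', ?_⟩
        rw [down_succ, hb'', map_smul, hb', smul_smul, pow_add]
    obtain ⟨N, b', hb'⟩ := key n0 b
    obtain ⟨s, hs, hs0⟩ := hn0 (aug x (B n0) b') (d0_aug x b')
    obtain ⟨l, hl⟩ := hbij.2 ⟨s, hs⟩
    refine ⟨N, l, ?_⟩
    have h3 : ∀ n (b' : B n), down (N := fun n => C0 x (B n)) (fun n => map0 x (r n).toLinearMap) n
        (aug x (B n) b') = aug x (B 0) (down (fun n => (r n).toLinearMap) n b') := by
      intro n
      induction n with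
      | zero => intro b'; rfl
      | succ n ih =>
        intro b'
        rw [down_succ, down_succ, map0_aug, ih]
    have h4 : aug x (B 0) (l.1 0) = s 0 := congrFun (congrArg Subtype.val hl) 0
    rw [hs0, h3, hb'] at h4
    rw [← sub_eq_zero]
    apply hinj
    rw [map_sub, h4, sub_self]

end Limit

end Groth.Agent.Pi1B.AlgebraizeSystem
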