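import Groth.Agent.Pi1B.CechDepth
import Mathlib.AlgebraicGeometry.Morphisms.QuasiSeparated

/-!
# The sheaf property in terms of the elementary Čech complex
-/

set_option autoImplicit false

universe u

open CategoryTheory AlgebraicGeometry TopologicalSpace Opposite

namespace Groth.Agent.Pi1B.CISheaf

variable {A : Type u} [CommRing A] (V : Scheme.{u}) [CompactSpace V] [QuasiSeparatedSpace V]
  [Algebra A Γ(V, ⊤)] {ι : Type} (x : ι → A)

/-- restriction of global sections -/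
private noncomputable abbrev rs (T : V.Opens) : Γ(V, ⊤) →+* Γ(V, T) :=
  (V.presheaf.map (homOfLE (le_top : T ≤ ⊤)).op).hom

private theorem rs_eq_zero_iff (a : A) (b : Γ(V, ⊤))
    (h : rs V (V.basicOpen (algebraMap A Γ(V, ⊤) a)) b = 0) : ∃ n : ℕ, a ^ n • b = 0 := by
  obtain ⟨n, hn⟩ := exists_of_res_zero_of_qcqs_of_top (X := V) (f := b)
    (s := algebraMap A Γ(V, ⊤) a) h
  exact ⟨n, by rw [Algebra.smul_def, map_pow]; exact hn⟩

omit [CompactSpace V] [QuasiSeparatedSpace V] in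
private theorem isUnit_rs (a : A) {T : V.Opens} (hT : T ≤ V.basicOpen (algebraMap A Γ(V, ⊤) a)) :
    IsUnit (rs V T (algebraMap A Γ(V, ⊤) a)) := by
  have h := RingedSpace.isUnit_res_basicOpen V.toRingedSpace (algebraMap A Γ(V, ⊤) a)
  have h2 := h.map (V.presheaf.map (homOfLE hT).op).hom
  have h3 : (V.presheaf.map (homOfLE hT).op).hom
      (rs V (V.basicOpen (algebraMap A Γ(V, ⊤) a)) (algebraMap A Γ(V, ⊤) a)) =
      rs V T (algebraMap A Γ(V, ⊤) a) := by
    simp only [rs, ← CommRingCat.comp_apply, ← Functor.map_comp]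
    rfl
  rw [← h3]
  exact h2

variable {V}

theorem aug_injective (hx : ⨆ i, V.basicOpen (algebraMap A Γ(V, ⊤) (x i)) = ⊤) (b : Γ(V, ⊤))
    (hb : CechDepth.aug x Γ(V, ⊤) b = 0) : b = 0 := by
  refine V.sheaf.eq_of_locally_eq' (fun i => V.basicOpen (algebraMap A Γ(V, ⊤) (x i))) ⊤
    (fun i => homOfLE le_top) (by rw [hx]) b 0 fun i => ?_
  change rs V _ b = rs V _ 0
  rw [map_zero]
  have h1 : CechDepth.toL Γ(V, ⊤) (CechDepth.P x i) b = 0 := congrFun hb i
  obtain ⟨_, ⟨n, rfl⟩, hn⟩ := CechDepth.toL_eq_zero h1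
  have h2 := congrArg (rs V (V.basicOpen (algebraMap A Γ(V, ⊤) (x i)))) hn
  rw [Algebra.smul_def, map_mul, map_zero, map_pow, map_pow] at h2
  exact (((isUnit_rs V (x i) le_rfl).pow n).mul_right_eq_zero).mp h2

theorem exists_aug_eq (hx : ⨆ i, V.basicOpen (algebraMap A Γ(V, ⊤) (x i)) = ⊤)
    (s : CechDepth.C0 x Γ(V, ⊤)) (hs : CechDepth.d0 x Γ(V, ⊤) s = 0) :
    ∃ b, CechDepth.aug x Γ(V, ⊤) b = s := by
  have h0 : ∀ i, ∃ (n : ℕ) (b : Γ(V, ⊤)),
      s i = LocalizedModule.mk b (⟨x i ^ n, n, rfl⟩ : Submonoid.powers (x i)) := by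
    intro i
    obtain ⟨⟨m, ⟨_, n, rfl⟩⟩, h⟩ : ∃ p : Γ(V, ⊤) × Submonoid.powers (x i),
        LocalizedModule.mk p.1 p.2 = s i := by
      induction s i using LocalizedModule.induction_on with
      | h m t => exact ⟨(m, t), rfl⟩
    exact ⟨n, m, h.symm⟩
  choose n b hb using h0
  let D : ι → V.Opens := fun i => V.basicOpen (algebraMap A Γ(V, ⊤) (x i))
  have hu : ∀ i, IsUnit (rs V (D i) (algebraMap A Γ(V, ⊤) (x i)) ^ n i) :=
    fun i => (isUnit_rs V (x i) le_rfl).pow _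
  let t : ∀ i, Γ(V, D i) := fun i => ((hu i).unit⁻¹ : Γ(V, D i)ˣ) * rs V (D i) (b i)
  have ht : ∀ i, rs V (D i) (algebraMap A Γ(V, ⊤) (x i)) ^ n i * t i = rs V (D i) (b i) := by
    intro i
    rw [← mul_assoc, (hu i).mul_val_inv, one_mul]
  -- restrictions
  let R : ∀ {T T' : V.Opens}, T' ≤ T → (Γ(V, T) →+* Γ(V, T')) :=
    fun h => (V.presheaf.map (homOfLE h).op).hom
  have hR : ∀ {T T' : V.Opens} (h : T' ≤ T) (c : Γ(V, ⊤)), R h (rs V T c) = rs V T' c := by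
    intro T T' h c
    simp only [R, rs, ← CommRingCat.comp_apply, ← Functor.map_comp]
    rfl
  have hcompat : ∀ i j, R (inf_le_left : D i ⊓ D j ≤ D i) (t i) =
      R (inf_le_right : D i ⊓ D j ≤ D j) (t j) := by
    intro i j
    have ui : IsUnit (rs V (D i ⊓ D j) (algebraMap A Γ(V, ⊤) (x i))) := isUnit_rs V (x i) inf_le_left
    have uj : IsUnit (rs V (D i ⊓ D j) (algebraMap A Γ(V, ⊤) (x j))) := isUnit_rs V (x j) inf_le_right
    have ei : rs V (D i ⊓ D j) (algebraMap A Γ(V, ⊤) (x i)) ^ n i * R inf_le_left (t i) =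
        rs V (D i ⊓ D j) (b i) := by
      have := congrArg (R (inf_le_left : D i ⊓ D j ≤ D i)) (ht i)
      rwa [map_mul, map_pow, hR, hR] at this
    have ej : rs V (D i ⊓ D j) (algebraMap A Γ(V, ⊤) (x j)) ^ n j * R inf_le_right (t j) =
        rs V (D i ⊓ D j) (b j) := by
      have := congrArg (R (inf_le_right : D i ⊓ D j ≤ D j)) (ht j)
      rwa [map_mul, map_pow, hR, hR] at this
    -- the cocycle condition
    have h1 := congrFun (congrFun hs i) j
    rw [CechDepth.d0_apply, hb i, hb j, CechDepth.res_mk, CechDepth.res_mk] at h1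
    change _ = (0 : LocalizedModule _ _) at h1
    rw [sub_eq_zero, LocalizedModule.mk_eq] at h1
    obtain ⟨⟨w, hw⟩, h1⟩ := h1
    simp only [Submonoid.smul_def] at h1
    obtain ⟨_, ⟨p, rfl⟩, _, ⟨q, rfl⟩, rfl⟩ := Submonoid.mem_sup.mp hw
    have h2 := congrArg (rs V (D i ⊓ D j)) h1
    simp only [Algebra.smul_def, map_mul, map_pow] at h2
    have uw : IsUnit (rs V (D i ⊓ D j) (algebraMap A Γ(V, ⊤) (x i)) ^ p *
        rs V (D i ⊓ D j) (algebraMap A Γ(V, ⊤) (x j)) ^ q) := (ui.pow p).mul (uj.pow q)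
    have h3 := uw.mul_left_cancel h2
    rw [← ei, ← ej] at h3
    have uv := (ui.pow (n i)).mul (uj.pow (n j))
    apply uv.mul_left_cancel
    calc _ = rs V (D i ⊓ D j) (algebraMap A Γ(V, ⊤) (x j)) ^ n j *
          (rs V (D i ⊓ D j) (algebraMap A Γ(V, ⊤) (x i)) ^ n i * R inf_le_left (t i)) := by ring
      _ = rs V (D i ⊓ D j) (algebraMap A Γ(V, ⊤) (x i)) ^ n i *
          (rs V (D i ⊓ D j) (algebraMap A Γ(V, ⊤) (x j)) ^ n j * R inf_le_right (t j)) := h3.symm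
      _ = _ := by ring
  obtain ⟨c, h1⟩ : ∃ c : Γ(V, ⊤), ∀ i, rs V (D i) c = t i := by
    obtain ⟨c, hc, -⟩ := V.sheaf.existsUnique_gluing' D ⊤ (fun i => homOfLE le_top) (by
      rw [← hx]) t hcompat
    exact ⟨c, hc⟩
  refine ⟨c, ?_⟩
  funext i
  rw [CechDepth.aug_apply, hb i]
  have h2 : rs V (V.basicOpen (algebraMap A Γ(V, ⊤) (x i))) (x i ^ n i • c - b i) = 0 := by
    rw [map_sub, Algebra.smul_def, map_mul, map_pow, map_pow, h1 i, ht i, sub_self]
  obtain ⟨k, hk⟩ := rs_eq_zero_iff V (x i) _ h2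
  rw [CechDepth.toL, LocalizedModule.mkLinearMap_apply, LocalizedModule.mk_eq]
  refine ⟨(⟨x i ^ k, k, rfl⟩ : Submonoid.powers (x i)), ?_⟩
  rw [smul_sub, sub_eq_zero] at hk
  simpa [Submonoid.smul_def] using hk

end Groth.Agent.Pi1B.CISheaf
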