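import Groth.Prelude.Def_FEt
import Mathlib.AlgebraicGeometry.Morphisms.Flat
import Mathlib.AlgebraicGeometry.Morphisms.QuasiSeparated
import Mathlib.AlgebraicGeometry.Morphisms.Affine

/-!
# Sections of a flat scheme over a thickening, up to powers of an element
-/

set_option autoImplicit false
universe u

open CategoryTheory CategoryTheory.Limits AlgebraicGeometry

namespace Groth.Agent.Pi1B.CITower

section Alg

/-- In a pushout square of rings, if `R ⟶ S` is surjective then so is its pushout. -/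
theorem surjective_of_isPushout {R S A B : CommRingCat.{u}} {f : R ⟶ A} {g : R ⟶ S} {h : A ⟶ B}
    {k : S ⟶ B} (H : IsPushout f g h k) (hg : Function.Surjective g) : Function.Surjective h := by
  let C : Subring B := h.hom.range
  have hk : ∀ s, k s ∈ C := by
    intro s
    obtain ⟨r, rfl⟩ := hg s
    exact ⟨f r, congr($(H.w) r)⟩
  let φ : B ⟶ CommRingCat.of C := H.desc (CommRingCat.ofHom h.hom.rangeRestrict)
    (CommRingCat.ofHom (k.hom.codRestrict C hk)) (by
      ext r
      have h0 : (f ≫ h) r = (g ≫ k) r := congr($(H.w) r)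
      exact h0)
  have h1 : φ ≫ CommRingCat.ofHom C.subtype = 𝟙 B := by
    apply H.hom_ext
    · rw [H.inl_desc_assoc]
      rfl
    · rw [H.inr_desc_assoc]
      rfl
  intro b
  obtain ⟨a, ha⟩ := (φ b).2
  exact ⟨a, ha.trans congr($h1 b)⟩

/-- In a pushout square of rings, if `R ⟶ S` is surjective then the kernel of its pushout is generated
by the kernel of `R ⟶ S`. -/
theorem ker_le_of_isPushout {R S A B : CommRingCat.{u}} {f : R ⟶ A} {g : R ⟶ S} {h : A ⟶ B}
    {k : S ⟶ B} (H : IsPushout f g h k) (hg : Function.Surjective g) (a : A) (ha : h a = 0) :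
    a ∈ (RingHom.ker g.hom).map f.hom := by
  let J := (RingHom.ker g.hom).map f.hom
  let m : A ⟶ CommRingCat.of (A ⧸ J) := CommRingCat.ofHom (Ideal.Quotient.mk J)
  have hle : RingHom.ker g.hom ≤ RingHom.ker ((Ideal.Quotient.mk J).comp f.hom) := fun r hr => by
    rw [RingHom.mem_ker, RingHom.comp_apply, Ideal.Quotient.eq_zero_iff_mem]
    exact Ideal.mem_map_of_mem _ hr
  obtain ⟨l0, hl0⟩ : ∃ l0 : S →+* (A ⧸ J), l0.comp g.hom = (Ideal.Quotient.mk J).comp f.hom :=
    ⟨RingHom.liftOfSurjective g.hom hg ⟨_, hle⟩, RingHom.liftOfSurjective_comp g.hom hg ⟨_, hle⟩⟩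
  let l : S ⟶ CommRingCat.of (A ⧸ J) := CommRingCat.ofHom l0
  have hl : f ≫ m = g ≫ l := CommRingCat.hom_ext hl0.symm
  have h1 : h ≫ H.desc m l hl = m := H.inl_desc _ _ _
  have h2 : m a = 0 := by
    rw [← h1, CommRingCat.comp_apply, ha, map_zero]
  exact Ideal.Quotient.eq_zero_iff_mem.mp h2

/-- Flat algebras preserve annihilators. -/
theorem exists_of_smul_eq_zero {R : Type*} {M : Type*} [CommRing R] [AddCommGroup M] [Module R M]
    [Module.Flat R M] (a c : R) (h : ∀ y : R, a * y = 0 → ∃ z, y = c * z) (m : M)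
    (hm : a • m = 0) (hac : a * c = 0) : ∃ m', m = c • m' := by
  have h1 : Function.Exact (LinearMap.lsmul R R c) (LinearMap.lsmul R R a) := by
    intro y
    constructor
    · intro hy
      obtain ⟨z, hz⟩ := h y hy
      exact ⟨z, hz.symm⟩
    · rintro ⟨z, rfl⟩
      change a • (c • z) = 0
      rw [smul_smul, hac, zero_smul]
  have h2 := Module.Flat.rTensor_exact M h1
  have h3 : ∀ (b : R) (m : M), TensorProduct.lid R M ((LinearMap.lsmul R R b).rTensor M (1 ⊗ₜ m)) =
      b • m := by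
    intro b m
    rw [LinearMap.rTensor_tmul, TensorProduct.lid_tmul]
    simp
  have h4 : (LinearMap.lsmul R R a).rTensor M (1 ⊗ₜ m) = 0 := by
    apply (TensorProduct.lid R M).injective
    rw [h3, hm, map_zero]
  obtain ⟨z, hz⟩ := (h2 _).mp h4
  obtain ⟨m', rfl⟩ : ∃ m' : M, z = 1 ⊗ₜ m' := ⟨TensorProduct.lid R M z, by
    rw [← TensorProduct.lid_symm_apply, LinearEquiv.symm_apply_apply]⟩
  refine ⟨m', ?_⟩
  rw [← h3, hz, TensorProduct.lid_tmul, one_smul]

end Alg

section Geom

/-- Restriction of global sections to a basic open. -/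
abbrev res (W : Scheme.{u}) (x : Γ(W, ⊤)) : Γ(W, ⊤) ⟶ Γ(W, W.basicOpen x) :=
  W.presheaf.map (homOfLE (W.basicOpen_le x)).op

theorem exists_res_eq (W : Scheme.{u}) [CompactSpace W] [QuasiSeparatedSpace W] (x : Γ(W, ⊤))
    (c : Γ(W, W.basicOpen x)) : ∃ (n : ℕ) (y : Γ(W, ⊤)), res W x y = res W x x ^ n * c :=
  exists_eq_pow_mul_of_isCompact_of_isQuasiSeparated W ⊤ isCompact_univ isQuasiSeparated_univ x c

theorem exists_pow_mul_eq_zero (W : Scheme.{u}) [CompactSpace W] (x b : Γ(W, ⊤))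
    (h : res W x b = 0) : ∃ n : ℕ, x ^ n * b = 0 :=
  exists_pow_mul_eq_zero_of_res_basicOpen_eq_zero_of_isCompact W isCompact_univ b x h

variable {R R' : Type u} [CommRing R] [CommRing R']

/-- The map on global sections induced by a morphism to an affine scheme. -/
noncomputable def str {W : Scheme.{u}} (s : W ⟶ Spec (CommRingCat.of R)) : R →+* Γ(W, ⊤) :=
  s.appTop.hom.comp (Scheme.ΓSpecIso (CommRingCat.of R)).inv.hom

theorem str_comp {W W' : Scheme.{u}} (v : W ⟶ W') (s : W' ⟶ Spec (CommRingCat.of R)) (a : R) :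
    str (v ≫ s) a = v.appTop (str s a) := by
  simp [str]

theorem str_comp_spec {W : Scheme.{u}} (s : W ⟶ Spec (CommRingCat.of R)) (φ : R' →+* R) (a : R') :
    str (s ≫ Spec.map (CommRingCat.ofHom φ)) a = str s (φ a) := by
  rw [str_comp]
  change s.appTop _ = s.appTop _
  congr 1
  have := congr($(Scheme.ΓSpecIso_inv_naturality (CommRingCat.ofHom φ)) a)
  exact this.symm

theorem basicOpen_str {W : Scheme.{u}} (s : W ⟶ Spec (CommRingCat.of R)) (a : R) :
    W.basicOpen (str s a) = s ⁻¹ᵁ (PrimeSpectrum.basicOpen a) := by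
  change W.basicOpen (s.appTop ((Scheme.ΓSpecIso (CommRingCat.of R)).inv a)) = _
  rw [← Scheme.preimage_basicOpen_top]
  congr 1
  exact (basicOpen_eq_of_affine (R := CommRingCat.of R) a)

section Pull

variable {W W' : Scheme.{u}} {v : W ⟶ W'} {p : W ⟶ Spec (CommRingCat.of R)}
  {p' : W' ⟶ Spec (CommRingCat.of R')} {φ : R' →+* R}
  (H : IsPullback v p p' (Spec.map (CommRingCat.ofHom φ))) (hφ : Function.Surjective φ)
  (x : R') (hx : IsAffineOpen (W'.basicOpen (str p' x)))

include H in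
theorem str_eq (a : R') : v.appTop (str p' a) = str p (φ a) := by
  rw [← str_comp, H.w, str_comp_spec]

/-- Restriction along `v` on the basic opens. -/
noncomputable def vres (y : Γ(W', ⊤)) : Γ(W', W'.basicOpen y) ⟶ Γ(W, W.basicOpen (v.appTop y)) :=
  v.appLE _ _ (by rw [Scheme.preimage_basicOpen_top])

theorem res_vres (y : Γ(W', ⊤)) (b : Γ(W', ⊤)) :
    vres (v := v) y (res W' y b) = res W (v.appTop y) (v.appTop b) := by
  simp only [vres, res, ← CommRingCat.comp_apply]
  rw [Scheme.Hom.map_appLE]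
  simp [Scheme.Hom.appLE]

theorem spec_appLE (φ : R' →+* R) :
    (Spec.map (CommRingCat.ofHom φ)).appLE ⊤ ⊤ le_top =
      (Scheme.ΓSpecIso (CommRingCat.of R')).hom ≫ CommRingCat.ofHom φ ≫
        (Scheme.ΓSpecIso (CommRingCat.of R)).inv := by
  rw [Scheme.ΓSpecIso_inv_naturality, Iso.hom_inv_id_assoc]
  simp [Scheme.Hom.appLE]

include hφ in
theorem spec_appLE_surj : Function.Surjective ((Spec.map (CommRingCat.ofHom φ)).appLE ⊤ ⊤ le_top) := by
  rw [spec_appLE]
  simp only [CommRingCat.hom_comp, RingHom.coe_comp]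
  exact ((ConcreteCategory.bijective_of_isIso _).2.comp hφ).comp
    (ConcreteCategory.bijective_of_isIso _).2

include H hx in
theorem isPushout_vres : IsPushout (p'.appLE ⊤ (W'.basicOpen (str p' x)) le_top)
    ((Spec.map (CommRingCat.ofHom φ)).appLE ⊤ ⊤ le_top) (vres (v := v) (str p' x))
    (p.appLE ⊤ _ le_top) := by
  have h1 := isIso_pushoutSection_of_isAffineOpen H (US := ⊤) (UT := ⊤) (UX := W'.basicOpen (str p' x))
    (UY := W.basicOpen (v.appTop (str p' x))) le_top le_top (by rw [Scheme.preimage_basicOpen_top]; simp)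
    (isAffineOpen_top _) (isAffineOpen_top _) hx
  rwa [isIso_pushoutSection_iff] at h1

include H hφ hx in
theorem vres_surj : Function.Surjective (vres (v := v) (str p' x)) :=
  surjective_of_isPushout (isPushout_vres H x hx) (spec_appLE_surj hφ)

include H hφ hx in
/-- Surjectivity up to powers of `x`. -/
theorem exists_lift [CompactSpace W] [QuasiSeparatedSpace W] [CompactSpace W'] [QuasiSeparatedSpace W']
    (b : Γ(W, ⊤)) : ∃ (k : ℕ) (b' : Γ(W', ⊤)), v.appTop b' = str p (φ x) ^ k * b := by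
  obtain ⟨c, hc⟩ := vres_surj H hφ x hx (res W (v.appTop (str p' x)) b)
  obtain ⟨n, y, hy⟩ := exists_res_eq W' (str p' x) c
  have h1 := congrArg (vres (v := v) (str p' x)) hy
  rw [map_mul, map_pow, res_vres, res_vres, hc, ← map_pow, ← map_mul, ← sub_eq_zero, ← map_sub] at h1
  obtain ⟨k, hk⟩ := exists_pow_mul_eq_zero W _ _ h1
  rw [mul_sub, sub_eq_zero, str_eq H] at hk
  exact ⟨k + n, str p' x ^ k * y, by rw [map_mul, map_pow, str_eq H, hk, pow_add, mul_assoc]⟩

theorem res_str {W : Scheme.{u}} (s : W ⟶ Spec (CommRingCat.of R)) (y : Γ(W, ⊤)) (a : R) :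
    res W y (str s a) =
      s.appLE ⊤ (W.basicOpen y) le_top ((Scheme.ΓSpecIso (CommRingCat.of R)).inv a) := by
  simp only [res, str, Scheme.Hom.appLE, CommRingCat.comp_apply]
  rfl

include H hφ hx in
/-- Description of the kernel up to powers of `x`. -/
theorem ker_le [CompactSpace W'] [QuasiSeparatedSpace W'] (g : R') (hg : RingHom.ker φ = Ideal.span {g})
    (b : Γ(W', ⊤)) (hb : v.appTop b = 0) :
    ∃ (k : ℕ) (z : Γ(W', ⊤)), str p' x ^ k * b = str p' g * z := by
  have h1 : vres (v := v) (str p' x) (res W' _ b) = 0 := by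
    rw [res_vres, hb, map_zero]
  have h2 := ker_le_of_isPushout (isPushout_vres H x hx) (spec_appLE_surj hφ) _ h1
  have h3 : (RingHom.ker ((Spec.map (CommRingCat.ofHom φ)).appLE ⊤ ⊤ le_top).hom).map
      (p'.appLE ⊤ (W'.basicOpen (str p' x)) le_top).hom ≤
      Ideal.span {res W' (str p' x) (str p' g)} := by
    rw [Ideal.map_le_iff_le_comap]
    intro r hr
    obtain ⟨r0, rfl⟩ : ∃ r0 : R', r = (Scheme.ΓSpecIso (CommRingCat.of R')).inv r0 :=
      ⟨(Scheme.ΓSpecIso (CommRingCat.of R')).hom r, by simp⟩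
    have h4 : φ r0 = 0 := by
      rw [RingHom.mem_ker, spec_appLE] at hr
      apply (ConcreteCategory.bijective_of_isIso (Scheme.ΓSpecIso (CommRingCat.of R)).inv).1
      rw [map_zero, ← hr]
      have h6 : (Scheme.ΓSpecIso (CommRingCat.of R')).hom
          ((Scheme.ΓSpecIso (CommRingCat.of R')).inv r0) = r0 := by simp
      change _ = (Scheme.ΓSpecIso (CommRingCat.of R)).inv (φ ((Scheme.ΓSpecIso (CommRingCat.of R')).hom
          ((Scheme.ΓSpecIso (CommRingCat.of R')).inv r0)))
      rw [h6]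
    have h5 : r0 ∈ Ideal.span {g} := hg ▸ h4
    obtain ⟨r1, rfl⟩ := Ideal.mem_span_singleton'.mp h5
    rw [Ideal.mem_comap, ← res_str, map_mul, map_mul]
    exact Ideal.mul_mem_left _ _ (Ideal.mem_span_singleton_self _)
  obtain ⟨c, hc⟩ := Ideal.mem_span_singleton'.mp (h3 h2)
  obtain ⟨n, y, hy⟩ := exists_res_eq W' (str p' x) c
  have h4 : res W' (str p' x) (str p' x ^ n * b - str p' g * y) = 0 := by
    rw [map_sub, map_mul, map_mul, map_pow, hy, ← hc]
    ring
  obtain ⟨k, hk⟩ := exists_pow_mul_eq_zero W' _ _ h4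
  rw [mul_sub, sub_eq_zero] at hk
  exact ⟨k + n, str p' x ^ k * y, by rw [pow_add, mul_assoc, hk]; ring⟩

end Pull

/-- Torsion up to powers of `x` in sections of a flat scheme over an affine scheme. -/
theorem exists_of_mul_eq_zero {W : Scheme.{u}} [CompactSpace W] [QuasiSeparatedSpace W]
    (p : W ⟶ Spec (CommRingCat.of R)) [Flat p] (x : R) (hx : IsAffineOpen (W.basicOpen (str p x)))
    (a c : R) (h : ∀ y : R, a * y = 0 → ∃ z, y = c * z) (hac : a * c = 0) (b : Γ(W, ⊤))
    (hb : str p a * b = 0) : ∃ (k : ℕ) (z : Γ(W, ⊤)), str p x ^ k * b = str p c * z := by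
  let U := W.basicOpen (str p x)
  let ψ : R →+* Γ(W, U) := (res W (str p x)).hom.comp (str p)
  have hψ : ψ.Flat := by
    have h1 : (p.appLE ⊤ U le_top).hom.Flat :=
      HasRingHomProperty.appLE @Flat p inferInstance ⟨⊤, isAffineOpen_top _⟩ ⟨U, hx⟩ le_top
    have h2 : ψ = (p.appLE ⊤ U le_top).hom.comp (Scheme.ΓSpecIso (CommRingCat.of R)).inv.hom := by
      ext r
      exact res_str p _ r
    rw [h2]
    exact RingHom.Flat.comp (RingHom.Flat.of_bijective (ConcreteCategory.bijective_of_isIso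
      (Scheme.ΓSpecIso (CommRingCat.of R)).inv)) h1
  algebraize [ψ]
  obtain ⟨m', hm'⟩ := exists_of_smul_eq_zero (M := Γ(W, U)) a c h (res W (str p x) b) (by
    rw [Algebra.smul_def]
    change res W (str p x) (str p a) * _ = 0
    rw [← map_mul, hb, map_zero]) hac
  obtain ⟨n, y, hy⟩ := exists_res_eq W (str p x) m'
  have h4 : res W (str p x) (str p x ^ n * b - str p c * y) = 0 := by
    rw [map_sub, map_mul, map_mul, map_pow, hy, hm', Algebra.smul_def]
    change _ * (res W (str p x) (str p c) * _) - _ = 0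
    ring
  obtain ⟨k, hk⟩ := exists_pow_mul_eq_zero W _ _ h4
  rw [mul_sub, sub_eq_zero] at hk
  exact ⟨k + n, str p x ^ k * y, by rw [pow_add, mul_assoc, hk]; ring⟩

end Geom

end Groth.Agent.Pi1B.CITower
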