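import Groth.Prelude.Def_Pi1
import Mathlib.RingTheory.KrullDimension.Basic
import Mathlib.RingTheory.AdicCompletion.LocalRing
import Mathlib.AlgebraicGeometry.Noetherian
import Groth.Agent.Pi1A.FEtAffine
import Groth.Agent.Pi1B.CechDepth
import Groth.Agent.Pi1B.CITower
import Groth.Agent.Pi1B.CISheaf
import Groth.Agent.S0238

/-!
# The system of section algebras of the lifts of a finite etale cover of a punctured spectrum
-/

set_option autoImplicit false
universe u

open CategoryTheory CategoryTheory.Limits AlgebraicGeometry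

namespace Groth.Agent.Pi1B.CISystem

open CITower Groth.Agent.Pi1A.FEtAffine

section Base

variable (A : Type u) [CommRing A] (f : A)

/-- `A / (f ^ (n + 1))` -/
abbrev Q (n : ℕ) : Type u := A ⧸ Ideal.span {f ^ (n + 1)}

/-- `Spec A / (f ^ (n + 1))` -/
noncomputable abbrev T (n : ℕ) : Scheme.{u} := Spec (CommRingCat.of (Q A f n))

lemma span_le (n : ℕ) : Ideal.span {f ^ (n + 1 + 1)} ≤ Ideal.span {f ^ (n + 1)} := by
  rw [Ideal.span_singleton_le_span_singleton]
  exact pow_dvd_pow f (Nat.le_succ _)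

/-- The transition maps. -/
noncomputable def φ (n : ℕ) : Q A f (n + 1) →+* Q A f n := Ideal.Quotient.factor (span_le A f n)

lemma φ_surj (n : ℕ) : Function.Surjective (φ A f n) := Ideal.Quotient.factor_surjective _

lemma φ_ker (n : ℕ) : RingHom.ker (φ A f n) = Ideal.span {Ideal.Quotient.mk _ (f ^ (n + 1))} := by
  rw [φ, Ideal.Quotient.factor_ker, Ideal.map_span, Set.image_singleton]

/-- The transition maps of spectra. -/
noncomputable def t (n : ℕ) : T A f n ⟶ T A f (n + 1) := Spec.map (CommRingCat.ofHom (φ A f n))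

instance (n : ℕ) : IsClosedImmersion (t A f n) :=
  IsClosedImmersion.spec_of_surjective _ (φ_surj A f n)

lemma t_surj (n : ℕ) (p : PrimeSpectrum (Q A f (n + 1))) :
    p ∈ Set.range (PrimeSpectrum.comap (φ A f n)) := by
  rw [range_comap_of_surjective _ _ (φ_surj A f n), φ_ker,
    PrimeSpectrum.mem_zeroLocus, SetLike.coe_subset_coe, Ideal.span_singleton_le_iff_mem]
  have h2 : (Ideal.Quotient.mk (Ideal.span {f ^ (n + 1 + 1)}) f) ^ (n + 1 + 1) = 0 := by
    rw [← map_pow, Ideal.Quotient.eq_zero_iff_mem]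
    exact Ideal.mem_span_singleton_self _
  rw [map_pow]
  apply Ideal.pow_mem_of_mem _ _ _ (Nat.succ_pos n)
  exact p.2.mem_of_pow_mem (n + 1 + 1) (h2 ▸ Ideal.zero_mem _)

instance (n : ℕ) : Surjective (t A f n) := ⟨fun p => t_surj A f n p⟩

/-- The projection to `Spec A`. -/
noncomputable def q (n : ℕ) : T A f n ⟶ Spec (CommRingCat.of A) :=
  Spec.map (CommRingCat.ofHom (Ideal.Quotient.mk _))

instance (n : ℕ) : IsClosedImmersion (q A f n) :=
  IsClosedImmersion.spec_of_surjective _ Ideal.Quotient.mk_surjective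

lemma t_q (n : ℕ) : t A f n ≫ q A f (n + 1) = q A f n := by
  rw [t, q, q, ← Spec.map_comp, ← CommRingCat.ofHom_comp]
  rfl

variable (U : (Spec (CommRingCat.of A)).Opens)

/-- The thickenings of `U ∩ V(f)`. -/
noncomputable def UU (n : ℕ) : Scheme.{u} := pullback (q A f n) U.ι

noncomputable def j (n : ℕ) : UU A f U n ⟶ T A f n := pullback.fst _ _
noncomputable def l (n : ℕ) : UU A f U n ⟶ U := pullback.snd _ _

instance (n : ℕ) : IsOpenImmersion (j A f U n) := inferInstanceAs (IsOpenImmersion (pullback.fst _ _))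
instance (n : ℕ) : IsClosedImmersion (l A f U n) :=
  inferInstanceAs (IsClosedImmersion (pullback.snd _ _))

lemma isPullback_jl (n : ℕ) : IsPullback (j A f U n) (l A f U n) (q A f n) U.ι :=
  IsPullback.of_hasPullback _ _

noncomputable def i (n : ℕ) : UU A f U n ⟶ UU A f U (n + 1) :=
  (isPullback_jl A f U (n + 1)).lift (j A f U n ≫ t A f n) (l A f U n) (by
    rw [Category.assoc, t_q, (isPullback_jl A f U n).w])

lemma i_j (n : ℕ) : i A f U n ≫ j A f U (n + 1) = j A f U n ≫ t A f n := IsPullback.lift_fst _ _ _ _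
lemma i_l (n : ℕ) : i A f U n ≫ l A f U (n + 1) = l A f U n := IsPullback.lift_snd _ _ _ _

lemma isPullback_i (n : ℕ) : IsPullback (i A f U n) (j A f U n) (j A f U (n + 1)) (t A f n) := by
  refine IsPullback.of_right (h₁₂ := l A f U (n + 1)) (h₂₂ := q A f (n + 1)) (v₁₃ := U.ι) ?_
    (i_j A f U n) (isPullback_jl A f U (n + 1)).flip
  rw [i_l, t_q]
  exact (isPullback_jl A f U n).flip

instance (n : ℕ) : IsClosedImmersion (i A f U n) :=
  MorphismProperty.of_isPullback (isPullback_i A f U n).flip inferInstance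

instance (n : ℕ) : Surjective (i A f U n) :=
  MorphismProperty.of_isPullback (isPullback_i A f U n).flip inferInstance

/-- Lifting a finite etale cover through a tower of thickenings. -/
theorem exists_tower (V0 : FEt.Cat (UU A f U 0)) : ∃ V : ∀ n, FEt.Cat (UU A f U n), V 0 = V0 ∧
    ∀ n, Nonempty ((FEt.restrict (i A f U n)).obj (V (n + 1)) ≅ V n) := by
  have h : ∀ n, (FEt.restrict (i A f U n)).IsEquivalence := fun n => Groth.Agent.S0238.result _
  let V : ∀ n, FEt.Cat (UU A f U n) := fun n =>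
    Nat.rec V0 (fun n Vn => (FEt.restrict (i A f U n)).objPreimage Vn) n
  exact ⟨V, rfl, fun n => ⟨(FEt.restrict (i A f U n)).objObjPreimageIso (V n)⟩⟩

section Level

variable {A f U} {n : ℕ} (V : FEt.Cat (UU A f U n))

/-- The structure map to `A / (f ^ (n + 1))`. -/
noncomputable def p : V.left ⟶ T A f n := V.hom ≫ j A f U n

/-- The structure map to `A`. -/
noncomputable def s : V.left ⟶ Spec (CommRingCat.of A) := p V ≫ q A f n

instance : Etale V.hom := V.prop.2
instance : IsFinite V.hom := V.prop.1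

instance : Flat (p V) := inferInstanceAs (Flat (V.hom ≫ j A f U n))

lemma s_eq : s V = (V.hom ≫ l A f U n) ≫ U.ι := by
  rw [s, p, Category.assoc, (isPullback_jl A f U n).w, Category.assoc]

lemma str_s (a : A) : str (s V) a = str (p V) (Ideal.Quotient.mk _ a) := by
  rw [s, q, str_comp_spec]

lemma isAffineOpen_basicOpen {x : A} (hx : PrimeSpectrum.basicOpen x ≤ U) :
    IsAffineOpen (V.left.basicOpen (str (p V) (Ideal.Quotient.mk _ x))) := by
  rw [← str_s, basicOpen_str, s_eq, Scheme.Hom.comp_preimage]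
  have h1 : IsAffineOpen (U.ι ⁻¹ᵁ (PrimeSpectrum.basicOpen x)) :=
    (IsAffineOpen.Spec_basicOpen x).preimage_of_isOpenImmersion U.ι (by rw [Scheme.Opens.opensRange_ι]; exact hx)
  exact h1.preimage (V.hom ≫ l A f U n)

instance [CompactSpace U] : CompactSpace V.left :=
  QuasiCompact.compactSpace_of_compactSpace (V.hom ≫ l A f U n)

instance : QuasiSeparatedSpace V.left := by
  have : QuasiSeparated (s V) := by
    rw [s_eq]
    infer_instance
  exact quasiSeparatedSpace_of_quasiSeparated (s V)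

lemma str_p_zero (a : A) (ha : a ∈ Ideal.span {f ^ (n + 1)}) : str (s V) a = 0 := by
  rw [str_s, Ideal.Quotient.eq_zero_iff_mem.mpr ha, map_zero]

section Two

variable (V' : FEt.Cat (UU A f U (n + 1))) (e : (FEt.restrict (i A f U n)).obj V' ≅ V)

/-- The closed immersion between consecutive levels. -/
noncomputable def v : V.left ⟶ V'.left := e.inv.left ≫ proj (i A f U n) V'

lemma isPullback_v : IsPullback (v V V' e) V.hom V'.hom (i A f U n) := by
  have h1 : e.hom.left ≫ e.inv.left = 𝟙 _ := by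
    rw [← MorphismProperty.Comma.comp_left, e.hom_inv_id]
    rfl
  refine IsPullback.of_iso (isPullback (i A f U n) V')
    (asIso e.hom.left) (Iso.refl _) (Iso.refl _) (Iso.refl _) ?_ ?_ ?_ ?_
  · rw [asIso_hom, v, reassoc_of% h1]
    simp
  · rw [asIso_hom, hom_w]
    simp
  · simp
  · simp

lemma isPullback_p : IsPullback (v V V' e) (p V) (p V') (t A f n) :=
  (isPullback_v V V' e).paste_vert (isPullback_i A f U n)

lemma v_s : v V V' e ≫ s V' = s V := by
  have h1 : s V = p V ≫ t A f n ≫ q A f (n + 1) := by rw [t_q, s]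
  rw [h1, s, ← Category.assoc, ← Category.assoc, (isPullback_p V V' e).w]

variable [CompactSpace U] {x : A} (hx : PrimeSpectrum.basicOpen x ≤ U)

include hx in
lemma exists_lift' (b : Γ(V.left, ⊤)) : ∃ (k : ℕ) (b' : Γ(V'.left, ⊤)),
    (v V V' e).appTop b' = str (s V) x ^ k * b := by
  have := exists_lift (isPullback_p V V' e) (φ_surj A f n) (Ideal.Quotient.mk _ x)
    (isAffineOpen_basicOpen V' hx) b
  rw [str_s]
  exact this

include hx in
lemma ker_le' (b : Γ(V'.left, ⊤)) (hb : (v V V' e).appTop b = 0) : ∃ (k : ℕ) (z : Γ(V'.left, ⊤)),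
    str (s V') x ^ k * b = str (s V') (f ^ (n + 1)) * z := by
  have := ker_le (isPullback_p V V' e) (φ_surj A f n) (Ideal.Quotient.mk _ x)
    (isAffineOpen_basicOpen V' hx) _ (φ_ker A f n) b hb
  rw [str_s, str_s]
  exact this

include hx in
lemma tors' (hreg : IsSMulRegular A f) (b : Γ(V.left, ⊤)) (hb : str (s V) f * b = 0) :
    ∃ (k : ℕ) (z : Γ(V.left, ⊤)), str (s V) x ^ k * b = str (s V) (f ^ n) * z := by
  rw [str_s] at hb
  have := exists_of_mul_eq_zero (p V) (Ideal.Quotient.mk _ x) (isAffineOpen_basicOpen V hx)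
    (Ideal.Quotient.mk _ f) (Ideal.Quotient.mk _ (f ^ n)) ?_ ?_ b hb
  · rw [str_s, str_s]
    exact this
  · intro y hy
    obtain ⟨y, rfl⟩ := Ideal.Quotient.mk_surjective y
    rw [← map_mul, Ideal.Quotient.eq_zero_iff_mem, Ideal.mem_span_singleton'] at hy
    obtain ⟨z, hz⟩ := hy
    refine ⟨Ideal.Quotient.mk _ z, ?_⟩
    rw [← map_mul]
    congr 1
    apply hreg
    change f * y = f * (f ^ n * z)
    rw [← hz]
    ring
  · rw [← map_mul, Ideal.Quotient.eq_zero_iff_mem, ← pow_succ']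
    exact Ideal.mem_span_singleton_self _

end Two

end Level

end Base

section Zero

variable (A : Type u) [CommRing A] [IsLocalRing A] (f : A)
  [IsLocalRing (A ⧸ Ideal.span {f})]

/-- `Spec A / (f) ⟶ Spec A` -/
noncomputable def q' : Spec (CommRingCat.of (A ⧸ Ideal.span {f})) ⟶ Spec (CommRingCat.of A) :=
  Spec.map (CommRingCat.ofHom (Ideal.Quotient.mk _))

/-- `A / (f ^ (0 + 1)) = A / (f)`. -/
noncomputable def κ : T A f 0 ≅ Spec (CommRingCat.of (A ⧸ Ideal.span {f})) :=
  Scheme.Spec.mapIso (Ideal.quotEquivOfEq (show Ideal.span {f} = Ideal.span {f ^ (0 + 1)} by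
    rw [zero_add, pow_one])).toCommRingCatIso.op

omit [IsLocalRing A] [IsLocalRing (A ⧸ Ideal.span {f})] in
lemma κ_q' : (κ A f).hom ≫ q' A f = q A f 0 := by
  rw [κ, q', q]
  change Spec.map _ ≫ Spec.map _ = _
  rw [← Spec.map_comp]
  rfl

lemma q'_eq_closedPoint_iff (y : PrimeSpectrum (A ⧸ Ideal.span {f})) :
    PrimeSpectrum.comap (Ideal.Quotient.mk (Ideal.span {f})) y = IsLocalRing.closedPoint A ↔
      y = IsLocalRing.closedPoint (A ⧸ Ideal.span {f}) := by
  have h1 : IsLocalHom (Ideal.Quotient.mk (Ideal.span {f})) := by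
    exact IsLocalHom.of_surjective _ Ideal.Quotient.mk_surjective
  constructor
  · intro h
    apply PrimeSpectrum.comap_injective_of_surjective _ Ideal.Quotient.mk_surjective
    rw [h, IsLocalRing.comap_closedPoint]
  · rintro rfl
    rw [IsLocalRing.comap_closedPoint]

lemma range_j_κ : Set.range (j A f (FEt.puncturedSpec A) 0 ≫ (κ A f).hom) =
    Set.range (FEt.puncturedSpec (A ⧸ Ideal.span {f})).ι := by
  have h1 : Set.range (j A f (FEt.puncturedSpec A) 0) =
      (q A f 0) ⁻¹' (SetLike.coe (FEt.puncturedSpec A)) := by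
    refine (Scheme.Pullback.range_fst _ _).trans ?_
    rw [Scheme.Opens.range_ι]
  have h3 : Set.range (j A f (FEt.puncturedSpec A) 0 ≫ (κ A f).hom) =
      (κ A f).hom '' Set.range (j A f (FEt.puncturedSpec A) 0) := by
    rw [← Set.range_comp]
    congr 1
  rw [Scheme.Opens.range_ι, h3, h1]
  ext y
  have h2 : y ∈ SetLike.coe (FEt.puncturedSpec (A ⧸ Ideal.span {f})) ↔
      q' A f y ∈ SetLike.coe (FEt.puncturedSpec A) :=
    (q'_eq_closedPoint_iff A f y).not.symm
  rw [h2]
  constructor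
  · rintro ⟨z, hz, rfl⟩
    rw [Set.mem_preimage, ← κ_q', Scheme.Hom.comp_apply] at hz
    exact hz
  · intro hy
    refine ⟨(κ A f).inv y, ?_, ?_⟩
    · rw [Set.mem_preimage, ← κ_q', ← Scheme.Hom.comp_apply, Iso.inv_hom_id_assoc]
      exact hy
    · rw [← Scheme.Hom.comp_apply, Iso.inv_hom_id]
      rfl

/-- The level zero base. -/
noncomputable def c : UU A f (FEt.puncturedSpec A) 0 ≅
    (FEt.puncturedSpec (A ⧸ Ideal.span {f}) : Scheme.{u}) :=
  IsOpenImmersion.isoOfRangeEq (j A f (FEt.puncturedSpec A) 0 ≫ (κ A f).hom)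
    (FEt.puncturedSpec (A ⧸ Ideal.span {f})).ι (range_j_κ A f)

lemma c_ι : (c A f).hom ≫ (FEt.puncturedSpec (A ⧸ Ideal.span {f})).ι =
    j A f (FEt.puncturedSpec A) 0 ≫ (κ A f).hom := IsOpenImmersion.isoOfRangeEq_hom_fac _ _ _

lemma basicOpen_le {x : A} (hx : x ∈ IsLocalRing.maximalIdeal A) :
    PrimeSpectrum.basicOpen x ≤ FEt.puncturedSpec A := by
  intro y hy h
  apply hy
  rw [Set.mem_singleton_iff] at h
  subst h
  exact hx

omit [IsLocalRing (A ⧸ Ideal.span {f})] in
lemma compactSpace_punctured [IsNoetherianRing A] :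
    CompactSpace (FEt.puncturedSpec A : Scheme.{u}) :=
  isCompact_iff_compactSpace.mp (TopologicalSpace.NoetherianSpace.isCompact (α := PrimeSpectrum A)
    (SetLike.coe (FEt.puncturedSpec A)))

end Zero

theorem exists_equiv_of_iso {X Y : Scheme.{u}} (g : X ⟶ Y) [IsIso g] :
    ∃ e : Γ(Y, ⊤) ≃+* Γ(X, ⊤), ∀ a, e a = g.appTop a := by
  have h : IsIso (g.app ⊤) := inferInstance
  have : IsIso g.appTop := h
  exact ⟨(asIso g.appTop).commRingCatIsoToRingEquiv, fun _ => rfl⟩

theorem exists_equiv (A : Type u) [CommRing A] [IsLocalRing A] (f : A)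
    [IsLocalRing (A ⧸ Ideal.span {f})]
    (V : FEt.Cat (FEt.puncturedSpec (A ⧸ Ideal.span {f}) : Scheme.{u}))
    (V0 : FEt.Cat (UU A f (FEt.puncturedSpec A) 0)) (h : V0 = (FEt.restrict (c A f).hom).obj V) :
    ∃ e : Γ(V0.left, ⊤) ≃+* Γ(V.left, ⊤), ∀ a, e (str (s V0) a) =
      str (V.hom ≫ (FEt.puncturedSpec (A ⧸ Ideal.span {f})).ι ≫
          Spec.map (CommRingCat.ofHom (Ideal.Quotient.mk (Ideal.span {f})))) a := by
  subst h
  have : IsIso (proj (c A f).hom V) := isIso_proj _ _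
  obtain ⟨e', he'⟩ := exists_equiv_of_iso (proj (c A f).hom V)
  refine ⟨e'.symm, fun a => ?_⟩
  rw [RingEquiv.symm_apply_eq, he', ← str_comp]
  have h1 : s ((FEt.restrict (c A f).hom).obj V) = proj (c A f).hom V ≫ V.hom ≫
      (FEt.puncturedSpec (A ⧸ Ideal.span {f})).ι ≫
          Spec.map (CommRingCat.ofHom (Ideal.Quotient.mk (Ideal.span {f}))) := by
    rw [← Category.assoc, (isPullback (c A f).hom V).w, Category.assoc, ← Category.assoc (c A f).hom,
      c_ι, Category.assoc]
    change _ = _ ≫ _ ≫ _ ≫ q' A f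
    rw [κ_q', s, p, Category.assoc]
  rw [h1]

/-- (L3) -/
theorem exists_system (A : Type u) [CommRing A] [IsNoetherianRing A] [IsLocalRing A] (f : A)
    (hf : f ∈ IsLocalRing.maximalIdeal A) (hreg : IsSMulRegular A f) [IsLocalRing (A ⧸ Ideal.span {f})]
    (V : FEt.Cat (FEt.puncturedSpec (A ⧸ Ideal.span {f}) : Scheme.{u})) :
    ∃ (B : ℕ → Type u) (_ : ∀ n, CommRing (B n)) (_ : ∀ n, Algebra A (B n))
      (r : ∀ n, B (n + 1) →ₐ[A] B n) (e : B 0 ≃+* Γ(V.left, ⊤)),
      (∀ a, e (algebraMap A (B 0) a) =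
        (V.hom ≫ (FEt.puncturedSpec (A ⧸ Ideal.span {f})).ι ≫
          Spec.map (CommRingCat.ofHom (Ideal.Quotient.mk (Ideal.span {f})))).appTop.hom
            ((Scheme.ΓSpecIso (CommRingCat.of A)).inv.hom a)) ∧
      (∀ n (b : B n), f ^ (n + 1) • b = 0) ∧
      (∀ x ∈ IsLocalRing.maximalIdeal A,
        (∀ n (b : B n), ∃ (k : ℕ) (b' : B (n + 1)), r n b' = x ^ k • b) ∧
        (∀ n (b : B (n + 1)), r n b = 0 → ∃ (k : ℕ) (z : B (n + 1)), x ^ k • b = f ^ (n + 1) • z) ∧
        (∀ n (b : B n), f • b = 0 → ∃ (k : ℕ) (z : B n), x ^ k • b = f ^ n • z)) ∧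
      (∀ (ι : Type) [Finite ι] (x : ι → A), (∀ i, x i ∈ IsLocalRing.maximalIdeal A) →
        IsLocalRing.maximalIdeal A ≤ (Ideal.span (Set.range x)).radical → ∀ n,
          (∀ b : B n, CechDepth.aug x (B n) b = 0 → b = 0) ∧
          (∀ s : CechDepth.C0 x (B n), CechDepth.d0 x (B n) s = 0 → ∃ b, CechDepth.aug x (B n) b = s)) := by
  have := compactSpace_punctured A
  obtain ⟨VV, hV0, hV⟩ := exists_tower A f (FEt.puncturedSpec A) ((FEt.restrict (c A f).hom).obj V)
  let vv : ∀ n, (VV n).left ⟶ (VV (n + 1)).left := fun n => v (VV n) (VV (n + 1)) (hV n).some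
  have hvs : ∀ n, vv n ≫ s (VV (n + 1)) = s (VV n) := fun n => v_s _ _ _
  let alg : ∀ n, Algebra A Γ((VV n).left, ⊤) := fun n => (str (s (VV n))).toAlgebra
  have halg : ∀ n (a : A), algebraMap A Γ((VV n).left, ⊤) a = str (s (VV n)) a := fun n a => rfl
  have hsmul : ∀ n (a : A) (b : Γ((VV n).left, ⊤)), a • b = str (s (VV n)) a * b := fun n a b => by
    rw [Algebra.smul_def, halg]
  let r : ∀ n, Γ((VV (n + 1)).left, ⊤) →ₐ[A] Γ((VV n).left, ⊤) := fun n =>
    { (vv n).appTop.hom with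
      commutes' := fun a => by
        change (vv n).appTop _ = _
        rw [halg, halg, ← str_comp, hvs] }
  obtain ⟨e, he⟩ : ∃ e : Γ((VV 0).left, ⊤) ≃+* Γ(V.left, ⊤), ∀ a, e (str (s (VV 0)) a) =
      str (V.hom ≫ (FEt.puncturedSpec (A ⧸ Ideal.span {f})).ι ≫
          Spec.map (CommRingCat.ofHom (Ideal.Quotient.mk (Ideal.span {f})))) a :=
    exists_equiv A f V (VV 0) hV0
  refine ⟨fun n => Γ((VV n).left, ⊤), inferInstance, alg, r, e, he, ?_, ?_, ?_⟩
  · intro n b
    rw [hsmul, str_p_zero _ _ (Ideal.mem_span_singleton_self _), zero_mul]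
  · intro x hx
    refine ⟨fun n b => ?_, fun n b hb => ?_, fun n b hb => ?_⟩
    · obtain ⟨k, b', h⟩ := exists_lift' (VV n) (VV (n + 1)) (hV n).some (basicOpen_le A hx) b
      exact ⟨k, b', by rw [hsmul, map_pow]; exact h⟩
    · obtain ⟨k, z, h⟩ := ker_le' (VV n) (VV (n + 1)) (hV n).some (basicOpen_le A hx) b hb
      exact ⟨k, z, by rw [hsmul, hsmul, map_pow]; exact h⟩
    · rw [hsmul] at hb
      obtain ⟨k, z, h⟩ := tors' (VV n) (basicOpen_le A hx) hreg b hb
      exact ⟨k, z, by rw [hsmul, hsmul, map_pow]; exact h⟩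
  · intro ι _ x hx hrad n
    have hcov : ⨆ i, (VV n).left.basicOpen (algebraMap A Γ((VV n).left, ⊤) (x i)) = ⊤ := by
      rw [eq_top_iff]
      intro y _
      have hy : s (VV n) y ∈ FEt.puncturedSpec A := by
        rw [s_eq, Scheme.Hom.comp_apply]
        exact (((VV n).hom ≫ l A f (FEt.puncturedSpec A) n) y).2
      by_contra hcon
      apply hy
      have h1 : ∀ i, x i ∈ (s (VV n) y).asIdeal := by
        intro i
        by_contra hi
        apply hcon
        rw [TopologicalSpace.Opens.mem_iSup]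
        refine ⟨i, ?_⟩
        rw [halg, basicOpen_str]
        exact hi
      have h2 : Ideal.span (Set.range x) ≤ (s (VV n) y).asIdeal := by
        rw [Ideal.span_le]
        rintro _ ⟨i, rfl⟩
        exact h1 i
      have h3 : IsLocalRing.maximalIdeal A ≤ (s (VV n) y).asIdeal :=
        hrad.trans ((Ideal.IsPrime.radical_le_iff (s (VV n) y).2).mpr h2)
      have h4 : IsLocalRing.maximalIdeal A = (s (VV n) y).asIdeal :=
        (IsLocalRing.maximalIdeal.isMaximal A).eq_of_le (s (VV n) y).2.ne_top h3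
      exact PrimeSpectrum.ext h4.symm
    exact ⟨CISheaf.aug_injective x hcov, CISheaf.exists_aug_eq x hcov⟩

end Groth.Agent.Pi1B.CISystem
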