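import Groth.Agent.Pi1B.GammaProps
import Groth.Agent.Pi1B.AlgebraizeSystem
import Groth.Agent.Ega4B.DepthBasic
import Groth.Agent.Pi1B.CISystem
import Groth.Prelude.Def_FEt

set_option autoImplicit false

/-!
# Finite algebras over a complete local ring from finite étale covers of `V(f)` minus the closed point
-/

universe u

open CategoryTheory AlgebraicGeometry TopologicalSpace Opposite CategoryTheory.Limits Pointwise

namespace Groth.Agent.Pi1B.CIAlgebra

open Groth.Agent.Pi1B.RegPair Groth.Agent.Pi1B.GammaProps Groth.Agent.Pi1B.DualBasis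
  Groth.Agent.Pi1B.AlgebraizeSystem Groth.Agent.Pi1B.CechDepth RingTheory.Sequence

/-- weakly regular sequences on finite free modules -/
theorem isWeaklyRegular_pi {A : Type*} [CommRing A] (M : Type*) [AddCommGroup M] [Module A M] (n : ℕ)
    (rs : List A) (h : IsWeaklyRegular M rs) : IsWeaklyRegular (Fin n → M) rs := by
  have h1 : IsWeaklyRegular (TensorProduct A M (Fin n → A)) rs := 
    IsWeaklyRegular.isWeaklyRegular_rTensor (M₂ := Fin n → A) h
  exact ((TensorProduct.piScalarRight A A M (Fin n)).isWeaklyRegular_congr rs).mp h1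

section Depth

variable (A : Type u) [CommRing A] [IsNoetherianRing A] [IsLocalRing A] (f : A)
    (hf : f ∈ IsLocalRing.maximalIdeal A) (hreg : IsSMulRegular A f)

include hf hreg in
/-- Regular sequences on `A / f`. -/
theorem exists_regular_three (hd : 4 ≤ LocCoh.depth A A) :
    ∃ y1 ∈ IsLocalRing.maximalIdeal A, ∃ y2 ∈ IsLocalRing.maximalIdeal A, ∃ y3 ∈ IsLocalRing.maximalIdeal A,
      IsWeaklyRegular (A ⧸ Ideal.span {f}) [y1, y2, y3] := by
  have h1 := Groth.Agent.Ega4B.DepthBasic.depth_quotSMulTop_add_one A f hf hreg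
  have h2 : (3 : ℕ) ≤ LocCoh.depth A (QuotSMulTop f A) := by
    have h3 : (3 : ℕ∞) + 1 ≤ LocCoh.depth A (QuotSMulTop f A) + 1 := by
      rw [h1]
      exact hd
    exact (ENat.add_le_add_iff_right (by simp)).mp h3
  have hnt : Nontrivial (QuotSMulTop f A) := by
    rw [Submodule.Quotient.nontrivial_iff]
    intro h
    have h3 : (1 : A) ∈ f • (⊤ : Submodule A A) := by rw [h]; trivial
    obtain ⟨a, -, ha⟩ := h3
    exact (IsLocalRing.mem_maximalIdeal f).mp hf (IsUnit.of_mul_eq_one a ha)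
  have hne : IsLocalRing.maximalIdeal A • (⊤ : Submodule A (QuotSMulTop f A)) ≠ ⊤ :=
    Groth.Agent.Ega4B.DepthBasic.smul_top_ne_top_of_nontrivial
  obtain ⟨rs, hlen, hmem, hrs⟩ := (Groth.Agent.Ega4B.DepthBasic.natCast_le_idealDepth_iff hne 3).mp h2
  match rs, hlen with
  | [y1, y2, y3], _ =>
    refine ⟨y1, hmem _ (by simp), y2, hmem _ (by simp), y3, hmem _ (by simp), ?_⟩
    refine ((Submodule.quotEquivOfEq _ _ ?_).isWeaklyRegular_congr _).mp hrs
    rw [← Submodule.ideal_span_singleton_smul]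
    simp

omit [IsNoetherianRing A] in
theorem two_le_depth_quot [IsLocalRing (A ⧸ Ideal.span {f})] {y1 y2 : A}
    (hy1 : y1 ∈ IsLocalRing.maximalIdeal A) (hy2 : y2 ∈ IsLocalRing.maximalIdeal A)
    (h : IsWeaklyRegular (A ⧸ Ideal.span {f}) [y1, y2]) :
    2 ≤ LocCoh.depth (A ⧸ Ideal.span {f}) (A ⧸ Ideal.span {f}) := by
  rw [two_le_depth_iff]
  have hm : ∀ y ∈ IsLocalRing.maximalIdeal A,
      Ideal.Quotient.mk (Ideal.span {f}) y ∈ IsLocalRing.maximalIdeal (A ⧸ Ideal.span {f}) := by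
    intro y hy
    have : IsLocalHom (Ideal.Quotient.mk (Ideal.span {f})) :=
      IsLocalHom.of_surjective _ Ideal.Quotient.mk_surjective
    rw [IsLocalRing.mem_maximalIdeal, mem_nonunits_iff] at hy ⊢
    exact fun hu => hy (isUnit_of_map_unit _ _ hu)
  refine ⟨_, hm y1 hy1, _, hm y2 hy2, ?_⟩
  exact (isRegPair_iff.mpr h).of_algebra (B := A ⧸ Ideal.span {f})

end Depth

section Main

variable (A : Type u) [CommRing A] [IsNoetherianRing A] [IsLocalRing A] (f : A)
    (hf : f ∈ IsLocalRing.maximalIdeal A) (hreg : IsSMulRegular A f) [IsLocalRing (A ⧸ Ideal.span {f})]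
    [IsPrecomplete (Ideal.span {f}) A]

include hf hreg in
/-- From a finite étale cover of the punctured spectrum of `A / f` to a finite `A`-algebra. -/
theorem exists_finite_algebra (hd : 4 ≤ LocCoh.depth A A)
    (V : FEt.Cat (FEt.puncturedSpec (A ⧸ Ideal.span {f}) : Scheme.{u})) :
    ∃ (L : Type u) (_ : CommRing L) (_ : Algebra A L) (_ : Module.Finite A L) (φ : L →+* Γ(V.left, ⊤)),
      (∀ l : L, f • l = 0 → l = 0) ∧
      (∀ a, φ (algebraMap A L a) =
        (V.hom ≫ (FEt.puncturedSpec (A ⧸ Ideal.span {f})).ι ≫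
          Spec.map (CommRingCat.ofHom (Ideal.Quotient.mk (Ideal.span {f})))).appTop.hom
            ((Scheme.ΓSpecIso (CommRingCat.of A)).inv.hom a)) ∧
      (∀ l : L, φ l = 0 → ∃ l', l = f • l') ∧
      (∀ x ∈ IsLocalRing.maximalIdeal A, ∀ b : Γ(V.left, ⊤), ∃ (k : ℕ) (l : L),
        φ l = φ (algebraMap A L x) ^ k * b) := by
  obtain ⟨y1, hy1, y2, hy2, y3, hy3, hy⟩ := exists_regular_three A f hf hreg hd
  have hy12 : IsWeaklyRegular (A ⧸ Ideal.span {f}) [y1, y2] :=
    Groth.Agent.Ega4B.DepthBasic.isWeaklyRegular_take hy 2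
  have hdR := two_le_depth_quot A f hy1 hy2 hy12
  have hfinV : IsFinite V.hom := V.prop.1
  have hetV : Etale V.hom := V.prop.2
  let R := A ⧸ Ideal.span {f}
  let g : R →+* Γ(V.left, ⊤) := gammaMap R V.hom
  have hgfin : g.Finite := gammaMap_finite R V.hom hdR
  have hgdb := gammaMap_hasDualBasis R V.hom hdR
  let algR : Algebra R Γ(V.left, ⊤) := g.toAlgebra
  have hfinR : Module.Finite R Γ(V.left, ⊤) := hgfin
  let algA : Algebra A Γ(V.left, ⊤) := (g.comp (Ideal.Quotient.mk (Ideal.span {f}))).toAlgebra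
  have tow : IsScalarTower A R Γ(V.left, ⊤) := IsScalarTower.of_algebraMap_eq' rfl
  have hfinA : Module.Finite A Γ(V.left, ⊤) := Module.Finite.trans R _
  obtain ⟨B, i1, i2, r, e, he, hnil, hloc, hsec⟩ := CISystem.exists_system A f hf hreg V
  have he' : ∀ a, e (algebraMap A (B 0) a) = algebraMap A Γ(V.left, ⊤) a := by
    intro a
    rw [he, ← Category.assoc, Scheme.Hom.comp_appTop, CommRingCat.hom_comp, RingHom.comp_apply]
    have h1 := congrArg (fun h => h.hom a) (Scheme.ΓSpecIso_inv_naturality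
      (CommRingCat.ofHom (Ideal.Quotient.mk (Ideal.span {f}))))
    simp only [CommRingCat.hom_comp, RingHom.comp_apply, CommRingCat.hom_ofHom] at h1
    rw [← h1]
    rfl
  let eL : B 0 ≃ₗ[A] Γ(V.left, ⊤) :=
    { e with
      map_smul' := fun a b => by
        change e (a • b) = a • e b
        rw [Algebra.smul_def, map_mul, he', Algebra.smul_def] }
  have hfinB : Module.Finite A (B 0) := Module.Finite.of_surjective eL.symm.toLinearMap eL.symm.surjective
  obtain ⟨n, x, hx⟩ := Submodule.fg_iff_exists_fin_generating_family.mp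
    (IsNoetherian.noetherian (IsLocalRing.maximalIdeal A))
  have hxm : ∀ i, x i ∈ IsLocalRing.maximalIdeal A := fun i => by
    rw [← hx]; exact Submodule.subset_span ⟨i, rfl⟩
  have hrad : IsLocalRing.maximalIdeal A ≤ (Ideal.span (Set.range x)).radical := by
    refine le_trans (le_of_eq ?_) Ideal.le_radical
    exact hx.symm
  have htower : ∀ i, LocTower f (x i) (fun n => (r n).toLinearMap) := fun i =>
    { surj := (hloc (x i) (hxm i)).1
      ker := (hloc (x i) (hxm i)).2.1
      tors := (hloc (x i) (hxm i)).2.2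
      nil := hnil }
  obtain ⟨n', k', u0, v0, huv, hxx⟩ := exists_complex (R := R) Γ(V.left, ⊤)
  let u : B 0 →ₗ[A] (Fin n' → R) := (u0.restrictScalars A).comp eL.toLinearMap
  let v : (Fin n' → R) →ₗ[A] (Fin k' → R) := v0.restrictScalars A
  have hmm : ∀ i, Ideal.Quotient.mk (Ideal.span {f}) (x i) ∈ IsLocalRing.maximalIdeal R := by
    intro i
    have : IsLocalHom (Ideal.Quotient.mk (Ideal.span {f})) :=
      IsLocalHom.of_surjective _ Ideal.Quotient.mk_surjective
    have h1 := hxm i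
    rw [IsLocalRing.mem_maximalIdeal, mem_nonunits_iff] at h1 ⊢
    exact fun hu => h1 (isUnit_of_map_unit _ _ hu)
  have hsm : ∀ (a : A) (N : ℕ) (b : Γ(V.left, ⊤)),
      (Ideal.Quotient.mk (Ideal.span {f}) a) ^ N • b = a ^ N • b := by
    intro a N b
    rw [← map_pow]
    exact algebraMap_smul R (a ^ N) b
  have hsm' : ∀ (a : A) (N : ℕ) (b : Fin n' → R),
      (Ideal.Quotient.mk (Ideal.span {f}) a) ^ N • b = a ^ N • b := by
    intro a N b
    rw [← map_pow]
    exact algebraMap_smul R (a ^ N) b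
  obtain ⟨h1, h2, h3, h4⟩ := algebraize r x htower (fun n => (hsec (Fin _) x hxm hrad n).1)
    (fun n => (hsec (Fin _) x hxm hrad n).2) u v (fun m => huv _)
    (fun i m hm => by
      obtain ⟨N, hN⟩ := (hxx _ (hgdb _ (hmm i))).1 (eL m) hm
      refine ⟨N, eL.injective ?_⟩
      rw [map_smul, map_zero, ← hN, hsm])
    (fun i a ha => by
      obtain ⟨N, m, hm⟩ := (hxx _ (hgdb _ (hmm i))).2 a ha
      refine ⟨N, eL.symm m, ?_⟩
      rw [← hsm', hm]
      simp [u])
    (hrad hy1) (hrad hy2) (hrad hy3) (isWeaklyRegular_pi R n' _ hy) (isWeaklyRegular_pi R k' _ hy12)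
  let φ : limAlg r →+* Γ(V.left, ⊤) :=
    e.toRingHom.comp ((Pi.evalRingHom (fun n => B n) 0).comp (limAlg r).val.toRingHom)
  have hφa : ∀ a, φ (algebraMap A (limAlg r) a) = algebraMap A Γ(V.left, ⊤) a := fun a => he' a
  refine ⟨limAlg r, inferInstance, inferInstance, h1, φ, h2, fun a => ?_, fun l hl => ?_, ?_⟩
  · rw [hφa, ← he', he]
  · exact h3 l (by simpa [φ] using hl)
  · intro y hy b
    have hB : ∃ N : ℕ, y ^ N • b ∈ LinearMap.range (eL.toLinearMap.comp
        ((LinearMap.proj 0).comp (limAlg r).val.toLinearMap) : limAlg r →ₗ[A] Γ(V.left, ⊤)) := by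
      refine exists_pow_smul_mem x _ b (fun i => ?_) (hrad hy)
      obtain ⟨N, l, hl⟩ := h4 (eL.symm b) i
      refine ⟨N, l, ?_⟩
      change eL (l.1 0) = _
      rw [hl, map_smul, LinearEquiv.apply_symm_apply]
    obtain ⟨N, l, hl⟩ := hB
    refine ⟨N, l, ?_⟩
    rw [hφa, ← map_pow, ← Algebra.smul_def, ← hl]
    rfl

end Main

end Groth.Agent.Pi1B.CIAlgebra
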