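import Groth.Agent.Pi1A.FEtFormalGlue
import Groth.Agent.Pi1A.FEtAffine
import Groth.Agent.S0250
import Groth.Prelude.Def_Pi1
import Mathlib.RingTheory.Smooth.Fiber
import Mathlib.RingTheory.Smooth.Flat
import Mathlib.RingTheory.Regular.Free
import Mathlib.RingTheory.Etale.Locus
import Mathlib.RingTheory.Kaehler.TensorProduct
import Mathlib.RingTheory.Nakayama
import Mathlib.RingTheory.LocalRing.Module
import Mathlib.RingTheory.Localization.BaseChange
import Mathlib.RingTheory.Ideal.KrullsHeightTheorem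
import Mathlib.RingTheory.KrullDimension.Basic
import Mathlib.RingTheory.KrullDimension.LocalRing
import Mathlib.RingTheory.Spectrum.Prime.Topology
import Mathlib.RingTheory.IsTensorProduct
import Mathlib.AlgebraicGeometry.Morphisms.Etale
import Mathlib.AlgebraicGeometry.Morphisms.Finite
import Mathlib.AlgebraicGeometry.Noetherian
import Mathlib.AlgebraicGeometry.Pullbacks

/-!
# From a finite algebra over `A` to a finite étale cover of `Spec (A / f)`

Step "algebra to geometry" in the proof of purity for complete intersections: a finite étale cover of the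
punctured spectrum of `A / f` which comes from a finite `f`-torsion free `A`-algebra `L` extends to `Spec (A / f)`,
if `A` has purity and the localizations `A_p`, `f ∉ p`, `dim A / p = 1`, have purity.
-/

set_option autoImplicit false
set_option linter.style.haveILetI false
universe u

open AlgebraicGeometry CategoryTheory Limits TensorProduct

namespace Groth.Agent.Pi1B.CIGlue

open Groth.Agent.Pi1A Groth.Agent.Pi1A.IsoAway Groth.Agent.Pi1A.FEtFormalGlue Groth.Agent.Pi1A.QAffGlue

attribute [local instance] Algebra.TensorProduct.rightAlgebra in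
/-- Étaleness modulo a regular element. -/
theorem etale_of_quotient {R T : Type*} [CommRing R] [IsLocalRing R] [IsNoetherianRing R] [CommRing T]
    [Algebra R T] [Module.Finite R T] (f : R) (hf : f ∈ IsLocalRing.maximalIdeal R)
    (hT : IsSMulRegular T f)
    (h : Algebra.Etale (R ⧸ Ideal.span {f}) ((R ⧸ Ideal.span {f}) ⊗[R] T)) : Algebra.Etale R T := by
  have hjac : f ∈ (⊥ : Ideal R).jacobson := by
    rw [IsLocalRing.jacobson_eq_maximalIdeal ⊥ bot_ne_top]
    exact hf
  have hne : Ideal.span {f} ≠ ⊤ := fun h1 => by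
    have := (IsLocalRing.maximalIdeal R).span_singleton_le_iff_mem.2 hf
    rw [h1] at this
    exact (IsLocalRing.maximalIdeal.isMaximal R).ne_top (top_le_iff.1 this)
  have : Nontrivial (R ⧸ Ideal.span {f}) := Ideal.Quotient.nontrivial_iff.2 hne
  have : IsLocalRing (R ⧸ Ideal.span {f}) :=
    IsLocalRing.of_surjective' (Ideal.Quotient.mk (Ideal.span {f})) Ideal.Quotient.mk_surjective
  have hfp : Module.FinitePresentation R T := Module.finitePresentation_of_finite R T
  have hfree : Module.Free R T := by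
    rw [← Module.free_quotSMulTop_iff_free R T hjac hT]
    have h2 : Module.Flat (R ⧸ Ideal.span {f}) ((R ⧸ Ideal.span {f}) ⊗[R] T) :=
      Algebra.Smooth.flat _ _
    have h1 : Module.Free (R ⧸ Ideal.span {f}) ((R ⧸ Ideal.span {f}) ⊗[R] T) :=
      Module.free_of_flat_of_isLocalRing
    exact Module.Free.of_equiv ((QuotSMulTop.equivQuotTensor f T).extendScalarsOfSurjective
      Ideal.Quotient.mk_surjective).symm
  have hunr : Algebra.FormallyUnramified R T := by
    refine ⟨?_⟩
    have hfin : Module.Finite R (Ω[T⁄R]) := Module.Finite.trans T _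
    have e := KaehlerDifferential.tensorKaehlerEquivBase R (R ⧸ Ideal.span {f}) T ((R ⧸ Ideal.span {f}) ⊗[R] T)
    have h1 : Subsingleton ((R ⧸ Ideal.span {f}) ⊗[R] (Ω[T⁄R])) := e.subsingleton
    have h3 : Subsingleton (QuotSMulTop f (Ω[T⁄R])) :=
      (QuotSMulTop.equivQuotTensor f (Ω[T⁄R])).subsingleton
    rw [Submodule.Quotient.subsingleton_iff] at h3
    have h4 := Submodule.eq_bot_of_le_smul_of_le_jacobson_bot (Ideal.span {f}) (⊤ : Submodule R (Ω[T⁄R]))
      hfin.fg_top (by
        rw [Submodule.ideal_span_singleton_smul, h3]) ((Ideal.span_singleton_le_iff_mem _).2 hjac)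
    exact (Submodule.subsingleton_iff R).1 (subsingleton_of_bot_eq_top h4.symm)
  have := Algebra.FinitePresentation.of_finiteType.1 (inferInstance : Algebra.FiniteType R T)
  exact Algebra.Etale.of_formallyUnramified_of_flat

/-- If `L` is finite over `A`, `f` is `L`-regular, `f ∈ p` and `L ⊗ A_p / f` is étale over `A_p / f`, then `L` is
étale over `A` at all primes above `p`. -/
theorem isEtaleAt_of_quotient {A L : Type*} [CommRing A] [IsNoetherianRing A] [CommRing L] [Algebra A L]
    [Module.Finite A L] (f : A) (hL : IsSMulRegular L f) (p : Ideal A) [p.IsPrime] (hf : f ∈ p)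
    (h : Algebra.Etale (Localization.AtPrime p ⧸ Ideal.span {algebraMap A (Localization.AtPrime p) f})
      ((Localization.AtPrime p ⧸ Ideal.span {algebraMap A (Localization.AtPrime p) f}) ⊗[A] L))
    (q : Ideal L) [q.IsPrime] [q.LiesOver p] : Algebra.IsEtaleAt A q := by
  let Rp := Localization.AtPrime p
  let Sp := Localization (Algebra.algebraMapSubmonoid L p.primeCompl)
  let Sq := Localization.AtPrime q
  let := Localization.AtPrime.algebraOfLiesOver p q
  let g : Sp →ₐ[L] Sq := IsLocalization.liftAlgHom (M := Algebra.algebraMapSubmonoid L p.primeCompl)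
        (f := Algebra.ofId _ _) (by
      rintro ⟨_, x, hx, rfl⟩
      simpa using! IsLocalization.map_units (M := q.primeCompl) Sq ⟨algebraMap _ _ x,
        by simp_all [q.over_def p]⟩)
  algebraize [g.toRingHom]
  have : IsScalarTower A Sp Sq := .to₁₃₄ _ L _ _
  have : IsScalarTower Rp Sp Sq := .of_algebraMap_eq' <| by
    apply IsLocalization.ringHom_ext p.primeCompl
    simp only [RingHom.comp_assoc, ← IsScalarTower.algebraMap_eq]
  have : IsLocalization (Algebra.algebraMapSubmonoid Sp q.primeCompl) Sq :=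
    .isLocalization_of_submonoid_le _ _ (Algebra.algebraMapSubmonoid L p.primeCompl) _
    (by rintro _ ⟨x, hx, rfl⟩; simp_all [q.over_def p])
  have hpo : Algebra.IsPushout A Rp L Sp :=
      .symm <| Algebra.isPushout_of_isLocalization p.primeCompl _ _ _
  let e : (Rp ⊗[A] L) ≃ₐ[Rp] Sp := Algebra.IsPushout.equiv A Rp L Sp
  have hfin : Module.Finite Rp Sp := Module.Finite.equiv e.toLinearEquiv
  have hreg : IsSMulRegular Sp (algebraMap A Rp f) := by
    have h0 : IsSMulRegular L (algebraMap A L f) := fun a b hab => hL (by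
      simpa [Algebra.smul_def] using hab)
    have h1 : IsSMulRegular Sp (algebraMap L Sp (algebraMap A L f)) :=
      h0.of_isLocalization Sp (Algebra.algebraMapSubmonoid L p.primeCompl)
    intro a b hab
    refine h1 ?_
    simp only [Algebra.smul_def, ← IsScalarTower.algebraMap_apply] at hab ⊢
    exact hab
  have het : Algebra.Etale Rp Sp := by
    refine etale_of_quotient (algebraMap A Rp f) ?_ hreg ?_
    · exact (IsLocalization.AtPrime.to_map_mem_maximal_iff Rp p f).2 hf
    · let e1 := Algebra.TensorProduct.congr (AlgEquiv.refl (R := Rp ⧸ Ideal.span {algebraMap A Rp f})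
        (A₁ := Rp ⧸ Ideal.span {algebraMap A Rp f})) e
      let e2 := Algebra.TensorProduct.cancelBaseChange A Rp (Rp ⧸ Ideal.span {algebraMap A Rp f})
        (Rp ⧸ Ideal.span {algebraMap A Rp f}) L
      have e3 : ((Rp ⧸ Ideal.span {algebraMap A Rp f}) ⊗[A] L) ≃ₐ[Rp ⧸ Ideal.span {algebraMap A Rp f}]
        ((Rp ⧸ Ideal.span {algebraMap A Rp f}) ⊗[Rp] Sp) := e2.symm.trans e1
      exact Algebra.Etale.of_equiv (A := (Rp ⧸ Ideal.span {algebraMap A Rp f}) ⊗[A] L) e3
  have h1 : Algebra.FormallyEtale Sp Sq := .of_isLocalization (Algebra.algebraMapSubmonoid Sp q.primeCompl)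
  have h2 : Algebra.FormallyEtale A Rp := .of_isLocalization p.primeCompl
  have h3 : Algebra.FormallyEtale A Sp := Algebra.FormallyEtale.comp A Rp Sp
  exact Algebra.FormallyEtale.comp A Sp Sq

/-- A closed subset of `Spec A` meeting `V(f)` at most in the closed point consists of points of dimension `≤ 1`. -/
theorem dim_eq_one {A : Type*} [CommRing A] [IsNoetherianRing A] [IsLocalRing A] (f : A)
    (hf : f ∈ IsLocalRing.maximalIdeal A) (Z : Set (PrimeSpectrum A)) (hZ : IsClosed Z)
    (h : ∀ p ∈ Z, f ∈ p.asIdeal → p = IsLocalRing.closedPoint A) (p : PrimeSpectrum A) (hp : p ∈ Z)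
    (hpm : p ≠ IsLocalRing.closedPoint A) : f ∉ p.asIdeal ∧ ringKrullDim (A ⧸ p.asIdeal) = 1 := by
  refine ⟨fun hfp => hpm (h p hp hfp), ?_⟩
  have hloc : IsLocalRing (A ⧸ p.asIdeal) :=
    IsLocalRing.of_surjective' (Ideal.Quotient.mk p.asIdeal) Ideal.Quotient.mk_surjective
  set m := IsLocalRing.maximalIdeal (A ⧸ p.asIdeal) with hm
  have hmc : m.comap (Ideal.Quotient.mk p.asIdeal) = IsLocalRing.maximalIdeal A := by
    have : (m.comap (Ideal.Quotient.mk p.asIdeal)).IsMaximal :=
      Ideal.comap_isMaximal_of_surjective _ Ideal.Quotient.mk_surjective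
    exact IsLocalRing.eq_maximalIdeal this
  have hfm : Ideal.Quotient.mk p.asIdeal f ∈ m := by
    rw [← Ideal.mem_comap, hmc]
    exact hf
  -- m is minimal over f
  have hmin : m ∈ (Ideal.span {Ideal.Quotient.mk p.asIdeal f}).minimalPrimes := by
    refine ⟨⟨inferInstance, (Ideal.span_singleton_le_iff_mem _).2 hfm⟩, ?_⟩
    rintro q ⟨hq, hfq⟩ hqm
    have hq' : (q.comap (Ideal.Quotient.mk p.asIdeal)).IsPrime := Ideal.comap_isPrime _ q
    have hmem : (⟨q.comap (Ideal.Quotient.mk p.asIdeal), hq'⟩ : PrimeSpectrum A) ∈ Z := by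
      refine (PrimeSpectrum.le_iff_specializes p _ |>.1 ?_).mem_closed hZ hp
      change p.asIdeal ≤ q.comap _
      intro x hx
      rw [Ideal.mem_comap, Ideal.Quotient.eq_zero_iff_mem.2 hx]
      exact q.zero_mem
    have h1 := h _ hmem (by
      change f ∈ q.comap _
      rw [Ideal.mem_comap]
      exact (Ideal.span_singleton_le_iff_mem _).1 hfq)
    have h2 : q.comap (Ideal.Quotient.mk p.asIdeal) = IsLocalRing.maximalIdeal A :=
      congrArg PrimeSpectrum.asIdeal h1
    rw [← hmc] at h2
    exact (Ideal.comap_injective_of_surjective _ Ideal.Quotient.mk_surjective h2).ge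
  have hle : m.height ≤ 1 := Ideal.height_le_one_of_isPrincipal_of_mem_minimalPrimes _ _ hmin
  have hne : m.height ≠ 0 := by
    intro h0
    have h1 : m = ⊥ := Ideal.height_eq_zero_iff_eq_bot.1 h0
    apply hpm
    have h3 : IsLocalRing.maximalIdeal A = p.asIdeal := by
      rw [← hmc, h1, ← RingHom.ker_eq_comap_bot, Ideal.mk_ker]
    exact PrimeSpectrum.ext h3.symm
  have h1 : m.height = 1 := le_antisymm hle (Order.one_le_iff_ne_zero.2 hne)
  rw [← IsLocalRing.maximalIdeal_height_eq_ringKrullDim, ← hm, h1]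
  rfl

/-- Etaleness of an affine morphism on opens contained in the étale locus. -/
theorem etale_ι_comp {A L : Type u} [CommRing A] [CommRing L] [Algebra A L] [Algebra.FinitePresentation A L]
    (V : (Spec (CommRingCat.of L)).Opens)
    (hV : ∀ q : PrimeSpectrum L, q ∈ V → q ∈ Algebra.etaleLocus A L) :
    Etale (V.ι ≫ Spec.map (CommRingCat.ofHom (algebraMap A L))) := by
  -- choose basic opens
  have key : ∀ q : V, ∃ g : L, q.1 ∈ (PrimeSpectrum.basicOpen g : (Spec (CommRingCat.of L)).Opens) ∧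
      (PrimeSpectrum.basicOpen g : (Spec (CommRingCat.of L)).Opens) ≤ V := by
    intro q
    obtain ⟨_, ⟨g, rfl⟩, h1, h2⟩ := PrimeSpectrum.isTopologicalBasis_basic_opens.exists_subset_of_mem_open
      (show q.1 ∈ (V.carrier : Set (PrimeSpectrum L)) from q.2) V.isOpen
    exact ⟨g, h1, h2⟩
  choose g hg1 hg2 using key
  let i : ∀ q : V, Spec (CommRingCat.of (Localization.Away (g q))) ⟶ Spec (CommRingCat.of L) := fun q =>
    Spec.map (CommRingCat.ofHom (algebraMap L (Localization.Away (g q))))
  have hi : ∀ q, IsOpenImmersion (i q) := fun q => inferInstance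
  have hr : ∀ q, Set.range (i q) = (PrimeSpectrum.basicOpen (g q) : Set (PrimeSpectrum L)) := fun q =>
    PrimeSpectrum.localization_away_comap_range (Localization.Away (g q)) (g q)
  have hle : ∀ q, Set.range (i q) ⊆ Set.range V.ι := by
    intro q
    rw [hr, Scheme.Opens.range_ι]
    exact hg2 q
  let j : ∀ q : V, Spec (CommRingCat.of (Localization.Away (g q))) ⟶ V := fun q =>
    IsOpenImmersion.lift V.ι (i q) (hle q)
  have hj : ∀ q, j q ≫ V.ι = i q := fun q => IsOpenImmersion.lift_fac _ _ _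
  have hjo : ∀ q, IsOpenImmersion (j q) := fun q => by
    have : IsOpenImmersion (j q ≫ V.ι) := by rw [hj]; infer_instance
    exact IsOpenImmersion.of_comp (j q) V.ι
  let 𝒰 : (V : Scheme.{u}).OpenCover := Scheme.Cover.mkOfCovers V _ j (fun q => by
    have h1 : q.1 ∈ Set.range (i q) := by
      rw [hr]
      exact hg1 q
    obtain ⟨z, hz⟩ := h1
    refine ⟨q, z, ?_⟩
    apply V.ι.isOpenEmbedding.injective
    rw [← Scheme.Hom.comp_apply, hj, hz]
    rfl) (fun q => hjo q)
  refine IsZariskiLocalAtSource.of_openCover 𝒰 fun q => ?_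
  change Etale (j q ≫ V.ι ≫ _)
  rw [← Category.assoc, hj, ← Spec.map_comp, ← CommRingCat.ofHom_comp, ← IsScalarTower.algebraMap_eq]
  have : Algebra.Etale A (Localization.Away (g q)) :=
    Algebra.basicOpen_subset_etaleLocus_iff_etale.1 fun z hz => hV z (hg2 q hz)
  exact (HasRingHomProperty.Spec_iff (P := @Etale)).2 (RingHom.etale_algebraMap.2 this)

/-- The restriction of a finite morphism to an open over which it is étale. -/
theorem etale_morphismRestrict {A L : Type u} [CommRing A] [CommRing L] [Algebra A L] [Algebra.FinitePresentation A L]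
    (W : (Spec (CommRingCat.of A)).Opens)
    (hW : ∀ q : PrimeSpectrum L, q.comap (algebraMap A L) ∈ W → q ∈ Algebra.etaleLocus A L) :
    Etale ((Spec.map (CommRingCat.ofHom (algebraMap A L))) ∣_ W) := by
  have h1 := etale_ι_comp (A := A) (L := L) (Spec.map (CommRingCat.ofHom (algebraMap A L)) ⁻¹ᵁ W) hW
  rw [← morphismRestrict_ι] at h1
  exact Etale.of_comp _ W.ι

theorem mem_puncturedSpec {B : Type u} [CommRing B] [IsLocalRing B] (x : PrimeSpectrum B) :
    x ∈ (FEt.puncturedSpec B) ↔ ¬ IsLocalRing.maximalIdeal B ≤ x.asIdeal := by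
  change x ∈ ({IsLocalRing.closedPoint B}ᶜ : Set (PrimeSpectrum B)) ↔ _
  rw [Set.mem_compl_iff, Set.mem_singleton_iff, not_iff_not]
  constructor
  · rintro rfl
    exact le_rfl
  · intro h
    refine PrimeSpectrum.ext ?_
    exact ((IsLocalRing.maximalIdeal.isMaximal B).eq_of_le x.isPrime.ne_top h).symm

/-- A cover of the punctured spectrum as a pullback of a (finite) algebra. -/
theorem isPullback_of_algebra {B L : Type u} [CommRing B] [IsNoetherianRing B] [IsLocalRing B] [CommRing L] [Algebra B L]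
    {V : Scheme.{u}} (w : V ⟶ FEt.puncturedSpec B) [IsAffineHom w]
    (φ : CommRingCat.of L ⟶ Γ(V, ⊤))
    (hφ : CommRingCat.ofHom (algebraMap B L) ≫ φ = (Scheme.ΓSpecIso (CommRingCat.of B)).inv ≫
      (w ≫ (FEt.puncturedSpec B).ι).appTop)
    (h : ∀ x ∈ IsLocalRing.maximalIdeal B, IsoAway φ.hom (algebraMap B L x)) :
    IsPullback w (toSpec φ) (FEt.puncturedSpec B).ι (Spec.map (CommRingCat.ofHom (algebraMap B L))) := by
  have hU := mem_puncturedSpec (B := B)
  have hUc : CompactSpace (FEt.puncturedSpec B) :=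
    compactSpace_of_iff (A := CommRingCat.of B) (I := IsLocalRing.maximalIdeal B)
      (IsNoetherian.noetherian (IsLocalRing.maximalIdeal B)) _ hU
  have hVc : CompactSpace V := QuasiCompact.compactSpace_of_compactSpace w
  have hUq : QuasiSeparatedSpace (FEt.puncturedSpec B) :=
    quasiSeparatedSpace_of_quasiSeparated (FEt.puncturedSpec B).ι
  have hVq : QuasiSeparatedSpace V := quasiSeparatedSpace_of_quasiSeparated w
  refine isPullback_of_isoAway w (Spec.map (CommRingCat.ofHom (algebraMap B L))) (toSpec φ)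
    (toSpec_comp φ _ _ hφ) fun x hx => ?_
  obtain ⟨f, hfI, hfx⟩ : ∃ f ∈ IsLocalRing.maximalIdeal B, f ∉ x.asIdeal := by
    have := (hU x).1 hx
    rw [SetLike.not_le_iff_exists] at this
    exact this
  refine ⟨(Scheme.ΓSpecIso (CommRingCat.of B)).inv f, ?_, ?_, ?_⟩
  · rw [basicOpen_eq_of_affine]
    exact hfx
  · rw [basicOpen_eq_of_affine]
    intro z hz
    exact (hU z).2 fun hI => hz (hI hfI)
  · have h1 := h f hfI
    have h2 : (Scheme.ΓSpecIso (CommRingCat.of L)).hom.hom ((Spec.map (CommRingCat.ofHom (algebraMap B L))).appTop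
        ((Scheme.ΓSpecIso (CommRingCat.of B)).inv f)) = algebraMap B L f := by
      have h3 : (Scheme.ΓSpecIso (CommRingCat.of B)).inv ≫ (Spec.map (CommRingCat.ofHom (algebraMap B L))).appTop ≫
        (Scheme.ΓSpecIso (CommRingCat.of L)).hom = (CommRingCat.ofHom (algebraMap B L)) := by
        simp
      exact congr($h3 f)
    rw [← h2] at h1
    have h3 := h1.comp_bijective (e := (Scheme.ΓSpecIso (CommRingCat.of L)).hom.hom)
      (ConcreteCategory.bijective_of_isIso (Scheme.ΓSpecIso (CommRingCat.of L)).hom)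
    rw [toSpec_appTop]
    exact h3

/-- The cover `V` of the punctured spectrum of `A / f` as a base change of `Spec L ⟶ Spec A`. -/
theorem isPullback_big (A : Type u) [CommRing A] [IsNoetherianRing A] [IsLocalRing A] (f : A)
    [IsLocalRing (A ⧸ Ideal.span {f})]
    (V : Scheme.{u}) (w : V ⟶ FEt.puncturedSpec (A ⧸ Ideal.span {f})) [IsAffineHom w]
    (L : Type u) [CommRing L] [Algebra A L]
    (φ : L →+* Γ(V, ⊤))
    (hφ : ∀ a, φ (algebraMap A L a) =
      (w ≫ (FEt.puncturedSpec (A ⧸ Ideal.span {f})).ι ≫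
        Spec.map (CommRingCat.ofHom (Ideal.Quotient.mk (Ideal.span {f})))).appTop.hom
          ((Scheme.ΓSpecIso (CommRingCat.of A)).inv.hom a))
    (hker : ∀ l : L, φ l = 0 → ∃ l', l = f • l')
    (hsurj : ∀ x ∈ IsLocalRing.maximalIdeal A, ∀ b : Γ(V, ⊤), ∃ (k : ℕ) (l : L),
      φ l = φ (algebraMap A L x) ^ k * b) :
    IsPullback w (toSpec (CommRingCat.ofHom φ)) ((FEt.puncturedSpec (A ⧸ Ideal.span {f})).ι ≫
      Spec.map (CommRingCat.ofHom (Ideal.Quotient.mk (Ideal.span {f}))))
      (Spec.map (CommRingCat.ofHom (algebraMap A L))) := by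
  set B := A ⧸ Ideal.span {f} with hB
  let N : CommRingCat.{u} := Γ(V, ⊤)
  let α : CommRingCat.of B ⟶ N := (Scheme.ΓSpecIso (CommRingCat.of B)).inv ≫ (w ≫ (FEt.puncturedSpec B).ι).appTop
  letI : Algebra B N := α.hom.toAlgebra
  letI : Algebra A N := (α.hom.comp (Ideal.Quotient.mk (Ideal.span {f}))).toAlgebra
  haveI : IsScalarTower A B N := IsScalarTower.of_algebraMap_eq' rfl
  have hα : ∀ a, φ (algebraMap A L a) = algebraMap A N a := by
    intro a
    rw [hφ]
    have h1 : (Scheme.ΓSpecIso (CommRingCat.of A)).inv ≫ (w ≫ (FEt.puncturedSpec B).ι ≫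
        Spec.map (CommRingCat.ofHom (Ideal.Quotient.mk (Ideal.span {f})))).appTop =
        CommRingCat.ofHom (Ideal.Quotient.mk (Ideal.span {f})) ≫ α := by
      rw [← Category.assoc w, Scheme.Hom.comp_appTop, ← Category.assoc, ← Scheme.ΓSpecIso_inv_naturality,
        Category.assoc]
    exact congr($h1 a)
  let φ1 : L →ₐ[A] N := { φ with commutes' := hα }
  let φ0 : B ⊗[A] L →ₐ[B] N := Algebra.TensorProduct.lift (Algebra.ofId B N) φ1 (fun _ _ => Commute.all _ _)
  have hφ0 : ∀ l, φ0 (1 ⊗ₜ l) = φ l := by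
    intro l
    simp [φ0, φ1]
  have hrep : ∀ z : B ⊗[A] L, ∃ l, z = 1 ⊗ₜ l := by
    intro z
    induction z with
    | zero => exact ⟨0, by simp⟩
    | add x y hx hy =>
      obtain ⟨a, rfl⟩ := hx
      obtain ⟨b, rfl⟩ := hy
      exact ⟨a + b, by rw [TensorProduct.tmul_add]⟩
    | tmul b l =>
      obtain ⟨a, rfl⟩ := Ideal.Quotient.mk_surjective b
      refine ⟨a • l, ?_⟩
      rw [TensorProduct.tmul_smul, TensorProduct.smul_tmul', Algebra.smul_def, mul_one]
      rfl
  have hiso : ∀ x ∈ IsLocalRing.maximalIdeal B, IsoAway (CommRingCat.ofHom φ0.toRingHom).hom (algebraMap B (B ⊗[A] L) x) := by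
    intro x hx
    obtain ⟨a, rfl⟩ := Ideal.Quotient.mk_surjective x
    have ha : a ∈ IsLocalRing.maximalIdeal A := by
      by_contra h1
      have h2 : IsUnit a := by simpa using h1
      exact (IsLocalRing.mem_maximalIdeal _).1 hx (h2.map _)
    constructor
    · intro z hz
      obtain ⟨l, rfl⟩ := hrep z
      have hz' : φ l = 0 := by rw [← hφ0]; exact hz
      obtain ⟨l', rfl⟩ := hker l hz'
      refine ⟨0, ?_⟩
      rw [TensorProduct.tmul_smul, TensorProduct.smul_tmul', Algebra.smul_def, mul_one]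
      have : algebraMap A B f = 0 := Ideal.Quotient.eq_zero_iff_mem.2 (Ideal.mem_span_singleton_self f)
      rw [this, TensorProduct.zero_tmul, mul_zero]
    · intro n
      obtain ⟨k, l, hl⟩ := hsurj a ha n
      refine ⟨k, 1 ⊗ₜ l, ?_⟩
      change φ0 (algebraMap B (B ⊗[A] L) (Ideal.Quotient.mk _ a)) ^ k * n = φ0 (1 ⊗ₜ l)
      rw [hφ0, hl, AlgHom.commutes, hα]
      rfl
  have sq1 := isPullback_of_algebra (B := B) (L := B ⊗[A] L) w (CommRingCat.ofHom φ0.toRingHom) (by
    ext b
    exact φ0.commutes b) hiso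
  have sq2 := isPullback_SpecMap_of_isPushout _ _ _ _ (CommRingCat.isPushout_tensorProduct A B L)
  have h3 := (sq1.flip.paste_horiz sq2.flip).flip
  convert h3 using 1
  rw [toSpec, toSpec, Category.assoc, ← Spec.map_comp]
  congr 2
  ext l
  exact (hφ0 l).symm

/-- If the base change of `Spec L ⟶ Spec A` to `U ⟶ Spec A` is étale and `Spec S ⟶ Spec A` factors through `U`,
then `S ⊗ L` is étale over `S`. -/
theorem etale_tensor {A S L : Type u} [CommRing A] [CommRing S] [CommRing L] [Algebra A S] [Algebra A L]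
    {U V : Scheme.{u}} (w : V ⟶ U) [Etale w] (g : V ⟶ Spec (CommRingCat.of L)) (u : U ⟶ Spec (CommRingCat.of A))
    (h : IsPullback w g u (Spec.map (CommRingCat.ofHom (algebraMap A L))))
    (t : Spec (CommRingCat.of S) ⟶ U) (ht : t ≫ u = Spec.map (CommRingCat.ofHom (algebraMap A S))) :
    Algebra.Etale S (S ⊗[A] L) := by
  have sq := isPullback_SpecMap_of_isPushout _ _ _ _ (CommRingCat.isPushout_tensorProduct A S L)
  let l : Spec (CommRingCat.of (S ⊗[A] L)) ⟶ V := h.lift
    (Spec.map (CommRingCat.ofHom (Algebra.TensorProduct.includeLeftRingHom)) ≫ t)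
    (Spec.map (CommRingCat.ofHom (Algebra.TensorProduct.includeRight.toRingHom))) (by
      rw [Category.assoc, ht]
      exact sq.w)
  have h1 : l ≫ w = Spec.map (CommRingCat.ofHom (Algebra.TensorProduct.includeLeftRingHom)) ≫ t :=
    h.lift_fst _ _ _
  have h2 : l ≫ g = Spec.map (CommRingCat.ofHom (Algebra.TensorProduct.includeRight.toRingHom)) :=
    h.lift_snd _ _ _
  have h3 : IsPullback l (Spec.map (CommRingCat.ofHom (Algebra.TensorProduct.includeLeftRingHom (R := A) (A := S) (B := L)))) w t := by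
    refine IsPullback.of_right (h₁₂ := g) (h₂₂ := u) (v₁₃ := Spec.map (CommRingCat.ofHom (algebraMap A L))) ?_ h1 h.flip
    rw [h2, ht]
    exact sq.flip
  have h4 : Etale (Spec.map (CommRingCat.ofHom (Algebra.TensorProduct.includeLeftRingHom (R := A) (A := S) (B := L)))) :=
    MorphismProperty.of_isPullback (P := @Etale) h3 inferInstance
  exact RingHom.etale_algebraMap.1 ((HasRingHomProperty.Spec_iff (P := @Etale)).1 h4)

theorem mem_puncturedSpec_iff_ne {B : Type u} [CommRing B] [IsLocalRing B] (x : PrimeSpectrum B) :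
    x ∈ (FEt.puncturedSpec B) ↔ x ≠ IsLocalRing.closedPoint B := Iff.rfl

theorem map_mem_puncturedSpec_iff {R S : Type u} [CommRing R] [IsLocalRing R] [CommRing S]
    [IsLocalRing S] (e : R ≃+* S) (x : PrimeSpectrum S) :
    PrimeSpectrum.comap (e : R →+* S) x ∈ (FEt.puncturedSpec R) ↔ x ∈ (FEt.puncturedSpec S) := by
  rw [mem_puncturedSpec_iff_ne, mem_puncturedSpec_iff_ne]
  have h1 : PrimeSpectrum.comap (e : R →+* S) (IsLocalRing.closedPoint S) = IsLocalRing.closedPoint R :=
    IsLocalRing.comap_closedPoint _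
  rw [← h1]
  exact (PrimeSpectrum.comap_injective_of_surjective (e : R →+* S) e.surjective).ne_iff

/-- Purity is invariant under isomorphism of local rings. -/
theorem purityHolds_of_ringEquiv {R S : Type u} [CommRing R] [IsLocalRing R] [CommRing S]
    [IsLocalRing S] (e : R ≃+* S) (h : FEt.PurityHolds R) : FEt.PurityHolds S := by
  have : IsIso (Spec.map (CommRingCat.ofHom (e : R →+* S))) :=
    inferInstanceAs (IsIso (Spec.map (e.toCommRingCatIso).hom))
  let eY : Spec (CommRingCat.of S) ≅ Spec (CommRingCat.of R) := asIso (Spec.map (CommRingCat.ofHom (e : R →+* S)))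
  have hrange : Set.range ((FEt.puncturedSpec S).ι ≫ eY.hom) = Set.range (FEt.puncturedSpec R).ι := by
    rw [Scheme.Opens.range_ι]
    ext x
    constructor
    · rintro ⟨z, rfl⟩
      exact (map_mem_puncturedSpec_iff e _).2 z.2
    · intro hx
      obtain ⟨y, rfl⟩ := (Spec.map (CommRingCat.ofHom (e : R →+* S))).surjective x
      have hy : y ∈ FEt.puncturedSpec S := (map_mem_puncturedSpec_iff e _).1 hx
      exact ⟨⟨y, hy⟩, rfl⟩
  let eX : (FEt.puncturedSpec S : Scheme.{u}) ≅ (FEt.puncturedSpec R : Scheme.{u}) :=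
    IsOpenImmersion.isoOfRangeEq ((FEt.puncturedSpec S).ι ≫ eY.hom) (FEt.puncturedSpec R).ι hrange
  have : (FEt.restrict (FEt.puncturedSpec R).ι).EssSurj := h
  exact FEtAffine.restrict_essSurj_of_arrowIso eX eY (IsOpenImmersion.isoOfRangeEq_hom_fac _ _ _)

/-- Étaleness along `V(f) ∖ {m}`. -/
theorem mem_etaleLocus {A : Type u} [CommRing A] [IsNoetherianRing A] [IsLocalRing A] (f : A)
    [IsLocalRing (A ⧸ Ideal.span {f})]
    (V : Scheme.{u}) (w : V ⟶ FEt.puncturedSpec (A ⧸ Ideal.span {f})) [Etale w]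
    (L : Type u) [CommRing L] [Algebra A L] [Module.Finite A L] (hL : IsSMulRegular L f)
    (g : V ⟶ Spec (CommRingCat.of L))
    (sq : IsPullback w g ((FEt.puncturedSpec (A ⧸ Ideal.span {f})).ι ≫
      Spec.map (CommRingCat.ofHom (Ideal.Quotient.mk (Ideal.span {f}))))
      (Spec.map (CommRingCat.ofHom (algebraMap A L))))
    (q : PrimeSpectrum L) (hf : f ∈ (q.comap (algebraMap A L)).asIdeal)
    (hq : q.comap (algebraMap A L) ≠ IsLocalRing.closedPoint A) : q ∈ Algebra.etaleLocus A L := by
  let p : Ideal A := (q.comap (algebraMap A L)).asIdeal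
  have hp : p.IsPrime := (q.comap (algebraMap A L)).isPrime
  have hqp : q.asIdeal.LiesOver p := ⟨rfl⟩
  let S := Localization.AtPrime p ⧸ Ideal.span {algebraMap A (Localization.AtPrime p) f}
  -- the ring map from the quotient
  let β : A ⧸ Ideal.span {f} →+* S := Ideal.Quotient.lift (Ideal.span {f}) (algebraMap A S) (by
    intro a ha
    obtain ⟨c, rfl⟩ := Ideal.mem_span_singleton'.1 ha
    rw [map_mul]
    have : algebraMap A S f = 0 := Ideal.Quotient.eq_zero_iff_mem.2 (Ideal.mem_span_singleton_self _)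
    rw [this, mul_zero])
  have hrange : Set.range (Spec.map (CommRingCat.ofHom β)) ⊆ Set.range (FEt.puncturedSpec (A ⧸ Ideal.span {f})).ι := by
    rw [Scheme.Opens.range_ι]
    rintro _ ⟨s, rfl⟩
    change PrimeSpectrum.comap β s ≠ IsLocalRing.closedPoint (A ⧸ Ideal.span {f})
    intro hs
    apply hq
    -- the composite
    have h1 : PrimeSpectrum.comap (algebraMap A S) s = IsLocalRing.closedPoint A := by
      have h2 : algebraMap A S = β.comp (Ideal.Quotient.mk (Ideal.span {f})) := by
        ext a; rfl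
      have h3 : PrimeSpectrum.comap (algebraMap A S) s =
          PrimeSpectrum.comap (Ideal.Quotient.mk (Ideal.span {f})) (PrimeSpectrum.comap β s) := by
        rw [h2]; rfl
      rw [h3, hs]
      have : IsLocalHom (Ideal.Quotient.mk (Ideal.span {f})) :=
        Ideal.Quotient.mk_surjective.isLocalHom
      exact IsLocalRing.comap_closedPoint _
    have h4 : (PrimeSpectrum.comap (algebraMap A S) s).asIdeal ≤ p := by
      intro a ha
      by_contra hap
      have h5 : IsUnit (algebraMap A (Localization.AtPrime p) a) :=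
        IsLocalization.map_units (Localization.AtPrime p) (⟨a, hap⟩ : p.primeCompl)
      have h6 : IsUnit (algebraMap A S a) := h5.map (Ideal.Quotient.mk _)
      exact s.isPrime.ne_top (Ideal.eq_top_of_isUnit_mem _ ha h6)
    rw [h1] at h4
    refine PrimeSpectrum.ext ?_
    exact ((IsLocalRing.maximalIdeal.isMaximal A).eq_of_le hp.ne_top h4).symm
  let t : Spec (CommRingCat.of S) ⟶ FEt.puncturedSpec (A ⧸ Ideal.span {f}) :=
    IsOpenImmersion.lift (FEt.puncturedSpec (A ⧸ Ideal.span {f})).ι (Spec.map (CommRingCat.ofHom β)) hrange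
  have ht : t ≫ (FEt.puncturedSpec (A ⧸ Ideal.span {f})).ι ≫
      Spec.map (CommRingCat.ofHom (Ideal.Quotient.mk (Ideal.span {f}))) =
      Spec.map (CommRingCat.ofHom (algebraMap A S)) := by
    rw [← Category.assoc, IsOpenImmersion.lift_fac, ← Spec.map_comp]
    congr 1
  exact isEtaleAt_of_quotient f hL p hf (etale_tensor w g _ sq t ht) q.asIdeal

/-- A point of `Spec A` has purity if the localization has. -/
theorem purityHolds_stalk {A : Type u} [CommRing A] (x : PrimeSpectrum A)
    (h : FEt.PurityHolds (Localization.AtPrime x.asIdeal)) :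
    FEt.PurityHolds ((Spec (CommRingCat.of A)).presheaf.stalk x) := by
  letI : Algebra A ((Spec (CommRingCat.of A)).presheaf.stalk x) := StructureSheaf.stalkAlgebra A x
  haveI : IsLocalization.AtPrime ((Spec (CommRingCat.of A)).presheaf.stalk x) x.asIdeal :=
    inferInstanceAs (IsLocalization.AtPrime ((Spec.structureSheaf A).presheaf.stalk x) x.asIdeal)
  have e := (IsLocalization.algEquiv x.asIdeal.primeCompl (Localization.AtPrime x.asIdeal)
    ((Spec (CommRingCat.of A)).presheaf.stalk x)).toRingEquiv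
  exact purityHolds_of_ringEquiv e h

theorem purityHolds_localization {A : Type u} [CommRing A] [IsLocalRing A] (h : FEt.PurityHolds A) :
    FEt.PurityHolds (Localization.AtPrime (IsLocalRing.closedPoint A).asIdeal) := by
  have e := (IsLocalization.atUnits A (IsLocalRing.closedPoint A).asIdeal.primeCompl
    (S := Localization.AtPrime (IsLocalRing.closedPoint A).asIdeal) (by
      intro x hx
      by_contra h1
      exact hx h1)).toRingEquiv
  exact purityHolds_of_ringEquiv e h

/-- **Algebra to geometry.** -/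
theorem extends_of_algebra (A : Type u) [CommRing A] [IsNoetherianRing A] [IsLocalRing A] (f : A)
    (hf : f ∈ IsLocalRing.maximalIdeal A) (hreg : IsSMulRegular A f) [IsLocalRing (A ⧸ Ideal.span {f})]
    (hA : FEt.PurityHolds A)
    (hp : ∀ (p : Ideal A) [p.IsPrime], f ∉ p → ringKrullDim (A ⧸ p) = 1 →
      FEt.PurityHolds (Localization.AtPrime p))
    (V : FEt.Cat (FEt.puncturedSpec (A ⧸ Ideal.span {f}) : Scheme.{u}))
    (L : Type u) [CommRing L] [Algebra A L] [Module.Finite A L] (hL : ∀ l : L, f • l = 0 → l = 0)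
    (φ : L →+* Γ(V.left, ⊤))
    (hφ : ∀ a, φ (algebraMap A L a) =
      (V.hom ≫ (FEt.puncturedSpec (A ⧸ Ideal.span {f})).ι ≫
        Spec.map (CommRingCat.ofHom (Ideal.Quotient.mk (Ideal.span {f})))).appTop.hom
          ((Scheme.ΓSpecIso (CommRingCat.of A)).inv.hom a))
    (hker : ∀ l : L, φ l = 0 → ∃ l', l = f • l')
    (hsurj : ∀ x ∈ IsLocalRing.maximalIdeal A, ∀ b : Γ(V.left, ⊤), ∃ (k : ℕ) (l : L),
      φ l = φ (algebraMap A L x) ^ k * b) :
    ∃ Y : FEt.Cat (Spec (CommRingCat.of (A ⧸ Ideal.span {f}))),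
      Nonempty ((FEt.restrict (FEt.puncturedSpec (A ⧸ Ideal.span {f})).ι).obj Y ≅ V) := by
  let U0 := FEt.puncturedSpec (A ⧸ Ideal.span {f})
  let w : V.left ⟶ U0 := V.hom
  have hw1 : IsFinite w := V.prop.1
  have hw2 : Etale w := V.prop.2
  let mk : Spec (CommRingCat.of (A ⧸ Ideal.span {f})) ⟶ Spec (CommRingCat.of A) :=
    Spec.map (CommRingCat.ofHom (Ideal.Quotient.mk (Ideal.span {f})))
  let y : Spec (CommRingCat.of L) ⟶ Spec (CommRingCat.of A) := Spec.map (CommRingCat.ofHom (algebraMap A L))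
  have hy : IsFinite y := (IsFinite.SpecMap_iff _).2 (RingHom.finite_algebraMap.2 inferInstance)
  have hLfp : Algebra.FinitePresentation A L :=
    Algebra.FinitePresentation.of_finiteType.1 (inferInstance : Algebra.FiniteType A L)
  let g : V.left ⟶ Spec (CommRingCat.of L) := toSpec (CommRingCat.ofHom φ)
  have hLreg : IsSMulRegular L f := by
    intro a b hab
    have : f • (a - b) = 0 := by
      rw [smul_sub]
      exact sub_eq_zero.2 hab
    exact sub_eq_zero.1 (hL _ this)
  have sq : IsPullback w g (U0.ι ≫ mk) y := isPullback_big A f V.left w L φ hφ hker hsurj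
  -- étaleness along `V(f) ∖ {m}`
  have hloc : ∀ (q : PrimeSpectrum L), f ∈ (q.comap (algebraMap A L)).asIdeal →
      q.comap (algebraMap A L) ≠ IsLocalRing.closedPoint A → q ∈ Algebra.etaleLocus A L :=
    fun q h1 h2 => mem_etaleLocus f V.left w L hLreg g sq q h1 h2
  -- the open `W`
  let Z : Set (Spec (CommRingCat.of A)) := y '' (Algebra.etaleLocus A L)ᶜ
  have hZc : IsClosed Z := y.isClosedMap _ Algebra.isOpen_etaleLocus.isClosed_compl
  let W : (Spec (CommRingCat.of A)).Opens := ⟨Zᶜ, hZc.isOpen_compl⟩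
  have hW : ∀ q : PrimeSpectrum L, q.comap (algebraMap A L) ∈ W → q ∈ Algebra.etaleLocus A L := by
    intro q hq
    by_contra h1
    exact hq ⟨q, h1, rfl⟩
  have hZf : ∀ p ∈ (Z : Set (PrimeSpectrum A)), f ∈ p.asIdeal → p = IsLocalRing.closedPoint A := by
    rintro _ ⟨q, hq, rfl⟩ hfp
    by_contra h1
    exact hq (hloc q hfp h1)
  -- the cover of `W`
  have hyW : Etale (y ∣_ W) := etale_morphismRestrict W hW
  let VW : FEt.Cat (W : Scheme.{u}) := MorphismProperty.Over.mk _ (y ∣_ W) ⟨inferInstance, hyW⟩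
  have hES : (FEt.restrict W.ι).EssSurj := by
    refine Groth.Agent.S0250.result W fun x hx => ?_
    have hxZ : x ∈ Z := by
      by_contra h1
      exact hx h1
    apply purityHolds_stalk
    by_cases hxm : x = IsLocalRing.closedPoint A
    · subst hxm
      exact purityHolds_localization hA
    · obtain ⟨h1, h2⟩ := dim_eq_one f hf Z hZc hZf x hxZ hxm
      exact hp _ h1 h2
  let YA : FEt.Cat (Spec (CommRingCat.of A)) := (FEt.restrict W.ι).objPreimage VW
  let i1 : (FEt.restrict W.ι).obj YA ≅ VW := (FEt.restrict W.ι).objObjPreimageIso VW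
  -- the map `U0 ⟶ W`
  have hrange : Set.range (U0.ι ≫ mk) ⊆ Set.range W.ι := by
    rw [Scheme.Opens.range_ι]
    rintro _ ⟨z, rfl⟩
    change (U0.ι ≫ mk) z ∉ Z
    intro hz
    have h1 : mk (U0.ι z) = IsLocalRing.closedPoint A := by
      refine hZf _ hz ?_
      change (Ideal.Quotient.mk (Ideal.span {f})) f ∈ (U0.ι z).asIdeal
      rw [Ideal.Quotient.eq_zero_iff_mem.2 (Ideal.mem_span_singleton_self f)]
      exact Ideal.zero_mem _
    refine (mem_puncturedSpec_iff_ne (B := A ⧸ Ideal.span {f}) z.1).1 z.2 ?_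
    have h2 : mk (IsLocalRing.closedPoint (A ⧸ Ideal.span {f})) = IsLocalRing.closedPoint A := by
      have : IsLocalHom (Ideal.Quotient.mk (Ideal.span {f})) :=
        Ideal.Quotient.mk_surjective.isLocalHom
      exact IsLocalRing.comap_closedPoint (Ideal.Quotient.mk (Ideal.span {f}))
    exact PrimeSpectrum.comap_injective_of_surjective (Ideal.Quotient.mk (Ideal.span {f}))
      Ideal.Quotient.mk_surjective (h1.trans h2.symm)
  let j : (U0 : Scheme.{u}) ⟶ W := IsOpenImmersion.lift W.ι (U0.ι ≫ mk) hrange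
  have hj : j ≫ W.ι = U0.ι ≫ mk := IsOpenImmersion.lift_fac _ _ _
  have sqW := (isPullback_morphismRestrict y W).flip
  let g' : V.left ⟶ (y ⁻¹ᵁ W : Scheme.{u}) := sqW.lift g (w ≫ j) (by
    rw [Category.assoc, hj]
    exact sq.w.symm)
  have hg1 : g' ≫ (y ⁻¹ᵁ W).ι = g := sqW.lift_fst _ _ _
  have hg2 : g' ≫ (y ∣_ W) = w ≫ j := sqW.lift_snd _ _ _
  have sq' : IsPullback g' w (y ∣_ W) j := by
    refine IsPullback.of_right (h₁₂ := (y ⁻¹ᵁ W).ι) (h₂₂ := W.ι) (v₁₃ := y) ?_ hg2 sqW
    rw [hg1, hj]
    exact sq.flip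
  obtain ⟨i2⟩ := nonempty_iso_of_isPullback j VW V g' sq'.flip
  refine ⟨(FEt.restrict mk).obj YA, ⟨?_⟩⟩
  exact ((FEtAffine.restrictComp U0.ι mk).symm ≪≫ FEtAffine.restrictCongr hj.symm ≪≫
    FEtAffine.restrictComp j W.ι).app YA ≪≫ (FEt.restrict j).mapIso i1 ≪≫ i2

end Groth.Agent.Pi1B.CIGlue
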