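import Groth.Agent.Pi1B.CIAlgebra
import Groth.Agent.Pi1B.CIGlue

set_option autoImplicit false

/-!
# Purity passes from a complete local ring of depth at least four to its quotient by a regular element
-/

universe u

open CategoryTheory AlgebraicGeometry TopologicalSpace Opposite CategoryTheory.Limits

namespace Groth.Agent.Pi1B.CIPurity

/-- Local Lefschetz theorem for purity. -/
theorem purityHolds_quotient (A : Type u) [CommRing A] [IsNoetherianRing A] [IsLocalRing A] (f : A)
    (hf : f ∈ IsLocalRing.maximalIdeal A) (hreg : IsSMulRegular A f) [IsLocalRing (A ⧸ Ideal.span {f})]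
    [IsPrecomplete (Ideal.span {f}) A] (hd : 4 ≤ LocCoh.depth A A)
    (hA : FEt.PurityHolds A)
    (hp : ∀ (p : Ideal A) [p.IsPrime], f ∉ p → ringKrullDim (A ⧸ p) = 1 →
      FEt.PurityHolds (Localization.AtPrime p)) :
    FEt.PurityHolds (A ⧸ Ideal.span {f}) := by
  constructor
  intro V
  obtain ⟨L, i1, i2, i3, φ, h1, h2, h3, h4⟩ := CIAlgebra.exists_finite_algebra A f hf hreg hd V
  exact CIGlue.extends_of_algebra A f hf hreg hA hp V L h1 φ h2 h3 h4

end Groth.Agent.Pi1B.CIPurity
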