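import Groth.Prelude.Def_Pi1
import Mathlib.RingTheory.KrullDimension.Basic
import Mathlib.RingTheory.AdicCompletion.LocalRing
import Mathlib.AlgebraicGeometry.Noetherian
import Groth.Agent.Pi1B.CechDepth

set_option autoImplicit false
universe u

open CategoryTheory CategoryTheory.Limits AlgebraicGeometry

namespace Groth.Agent.Pi1B.CISkel

/-- (L3) -/
theorem exists_system (A : Type u) [CommRing A] [IsNoetherianRing A] [IsLocalRing A] (f : A)
    (hf : f ∈ IsLocalRing.maximalIdeal A) (hreg : IsSMulRegular A f) [IsLocalRing (A ⧸ Ideal.span {f})]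
    (V : FEt.Cat (FEt.puncturedSpec (A ⧸ Ideal.span {f}) : Scheme.{u})) :
    ∃ (B : ℕ → Type u) (_ : ∀ n, CommRing (B n)) (_ : ∀ n, Algebra A (B n))
      (r : ∀ n, B (n + 1) →ₐ[A] B n) (e : B 0 ≃+* Γ(V.left, ⊤)),
      (∀ a, e (algebraMap A (B 0) a) =
        (V.hom ≫ (FEt.puncturedSpec (A ⧸ Ideal.span {f})).ι ≫
          Spec.map (CommRingCat.ofHom (Ideal.Quotient.mk (Ideal.span {f})))).appTop.hom
            ((Scheme.ΓSpecIso (CommRingCat.of A)).inv.hom a)) ∧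
      (∀ n (b : B n), f ^ (n + 1) • b = 0) ∧
      (∀ x ∈ IsLocalRing.maximalIdeal A,
        (∀ n (b : B n), ∃ (k : ℕ) (b' : B (n + 1)), r n b' = x ^ k • b) ∧
        (∀ n (b : B (n + 1)), r n b = 0 → ∃ (k : ℕ) (z : B (n + 1)), x ^ k • b = f ^ (n + 1) • z) ∧
        (∀ n (b : B n), f • b = 0 → ∃ (k : ℕ) (z : B n), x ^ k • b = f ^ n • z)) ∧
      (∀ (ι : Type) [Finite ι] (x : ι → A), (∀ i, x i ∈ IsLocalRing.maximalIdeal A) →
        IsLocalRing.maximalIdeal A ≤ (Ideal.span (Set.range x)).radical → ∀ n,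
          (∀ b : B n, CechDepth.aug x (B n) b = 0 → b = 0) ∧
          (∀ s : CechDepth.C0 x (B n), CechDepth.d0 x (B n) s = 0 → ∃ b, CechDepth.aug x (B n) b = s)) := by
  sorry

/-- (L4) -/
theorem extends_of_algebra (A : Type u) [CommRing A] [IsNoetherianRing A] [IsLocalRing A] (f : A)
    (hf : f ∈ IsLocalRing.maximalIdeal A) (hreg : IsSMulRegular A f) [IsLocalRing (A ⧸ Ideal.span {f})]
    (hA : FEt.PurityHolds A)
    (hp : ∀ (p : Ideal A) [p.IsPrime], f ∉ p → ringKrullDim (A ⧸ p) = 1 →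
      FEt.PurityHolds (Localization.AtPrime p))
    (V : FEt.Cat (FEt.puncturedSpec (A ⧸ Ideal.span {f}) : Scheme.{u}))
    (L : Type u) [CommRing L] [Algebra A L] [Module.Finite A L] (hL : ∀ l : L, f • l = 0 → l = 0)
    (φ : L →+* Γ(V.left, ⊤))
    (hφ : ∀ a, φ (algebraMap A L a) =
      (V.hom ≫ (FEt.puncturedSpec (A ⧸ Ideal.span {f})).ι ≫
        Spec.map (CommRingCat.ofHom (Ideal.Quotient.mk (Ideal.span {f})))).appTop.hom
          ((Scheme.ΓSpecIso (CommRingCat.of A)).inv.hom a))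
    (hker : ∀ l : L, φ l = 0 → ∃ l', l = f • l')
    (hsurj : ∀ x ∈ IsLocalRing.maximalIdeal A, ∀ b : Γ(V.left, ⊤), ∃ (k : ℕ) (l : L),
      φ l = φ (algebraMap A L x) ^ k * b) :
    ∃ Y : FEt.Cat (Spec (CommRingCat.of (A ⧸ Ideal.span {f}))),
      Nonempty ((FEt.restrict (FEt.puncturedSpec (A ⧸ Ideal.span {f})).ι).obj Y ≅ V) := by
  sorry

/-- (L5) -/
theorem ci_induction (P : ∀ (A : Type u) [CommRing A] [IsLocalRing A], Prop)
    (hiso : ∀ (A B : Type u) [CommRing A] [IsLocalRing A] [CommRing B] [IsLocalRing B] (_ : A ≃+* B), P A → P B)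
    (hcompl : ∀ (A : Type u) [CommRing A] [IsLocalRing A] [IsNoetherianRing A]
      [IsLocalRing (AdicCompletion (IsLocalRing.maximalIdeal A) A)],
      P (AdicCompletion (IsLocalRing.maximalIdeal A) A) → P A)
    (d : ℕ) (hreg : ∀ (A : Type u) [CommRing A] [IsRegularLocalRing A], (d : WithBot ℕ∞) ≤ ringKrullDim A → P A)
    (hstep : ∀ (A : Type u) [CommRing A] [IsLocalRing A] [IsNoetherianRing A]
      [IsAdicComplete (IsLocalRing.maximalIdeal A) A] (f : A) (_ : f ∈ IsLocalRing.maximalIdeal A)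
      (_ : IsSMulRegular A f) [IsAdicComplete (Ideal.span {f}) A] [IsLocalRing (A ⧸ Ideal.span {f})],
      ((d + 1 : ℕ) : ℕ∞) ≤ LocCoh.depth A A → P A →
      (∀ (p : Ideal A) [p.IsPrime], f ∉ p → ringKrullDim (A ⧸ p) = 1 → P (Localization.AtPrime p)) →
      P (A ⧸ Ideal.span {f}))
    (A : Type u) [CommRing A] [IsLocalRing A] [IsNoetherianRing A] (hA : Pi1.IsCompleteIntersection A)
    (hdim : (d : WithBot ℕ∞) ≤ ringKrullDim A) : P A := by
  sorry

end Groth.Agent.Pi1B.CISkel
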