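import Mathlib.RingTheory.Regular.RegularSequence
import Mathlib.RingTheory.Noetherian.Basic
import Mathlib.RingTheory.Localization.Away.Basic
import Mathlib.Algebra.Module.FinitePresentation
import Mathlib.Algebra.Module.LocalizedModule.Basic
import Mathlib.Algebra.Module.LocalizedModule.IsLocalization
import Mathlib.LinearAlgebra.Dual.Defs
import Mathlib.RingTheory.Localization.Finiteness

set_option autoImplicit false

/-!
# Dual bases with denominators, and embedding into free modules away from a closed set
-/

namespace Groth.Agent.Pi1B.DualBasis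

variable {R : Type*} [CommRing R]

/-- `M` has a dual basis after inverting `x`. -/
def HasDualBasis (M : Type*) [AddCommGroup M] [Module R M] (x : R) : Prop :=
  ∃ (k q : ℕ) (m : Fin q → M) (φ : Fin q → (M →ₗ[R] R)), ∀ b : M, x ^ k • b = ∑ j, φ j b • m j

/-- A finite module whose localization at `x` is projective has a dual basis after inverting `x`. -/
theorem hasDualBasis_of_projective [IsNoetherianRing R] (M : Type*) [AddCommGroup M] [Module R M]
    [Module.Finite R M] (x : R) (Rx : Type*) [CommRing Rx] [Algebra R Rx] [IsLocalization.Away x Rx]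
    (Mx : Type*) [AddCommGroup Mx] [Module R Mx] [Module Rx Mx] [IsScalarTower R Rx Mx]
    (g : M →ₗ[R] Mx) [IsLocalizedModule (Submonoid.powers x) g] [Module.Projective Rx Mx] :
    HasDualBasis M x := by
  have hfp : Module.FinitePresentation R M := Module.finitePresentation_of_finite R M
  have hfin : Module.Finite Rx Mx := Module.Finite.of_isLocalizedModule (Submonoid.powers x) (Rₚ := Rx) g
  obtain ⟨q, π, σ, hπ, hσ, hπσ⟩ := Module.Finite.exists_comp_eq_id_of_projective Rx Mx
  -- lift the coordinate functions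
  have h1 : ∀ j : Fin q, ∃ (φ : M →ₗ[R] R) (k : ℕ), ∀ b, algebraMap R Rx (φ b) = x ^ k • σ (g b) j := by
    intro j
    obtain ⟨φ, ⟨_, k, rfl⟩, hφ⟩ := Module.FinitePresentation.exists_lift_of_isLocalizedModule
      (Submonoid.powers x) (Algebra.linearMap R Rx)
      (((LinearMap.proj j).comp σ).restrictScalars R ∘ₗ g)
    exact ⟨φ, k, fun b => LinearMap.congr_fun hφ b⟩
  have h2 : ∀ j : Fin q, ∃ (m : M) (k : ℕ), g m = x ^ k • π (Pi.single j 1) := by
    intro j
    obtain ⟨⟨m, ⟨_, k, rfl⟩⟩, hm⟩ := IsLocalizedModule.surj (Submonoid.powers x) g (π (Pi.single j 1))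
    exact ⟨m, k, hm.symm⟩
  choose φ k hφ using h1
  choose m l hm using h2
  let K := ∑ j, k j
  let L := ∑ j, l j
  have hK : ∀ j, K - k j + k j = K := fun j =>
    Nat.sub_add_cancel (Finset.single_le_sum (fun _ _ => Nat.zero_le _) (Finset.mem_univ j))
  have hL : ∀ j, L - l j + l j = L := fun j =>
    Nat.sub_add_cancel (Finset.single_le_sum (fun _ _ => Nat.zero_le _) (Finset.mem_univ j))
  let F1 : M →ₗ[R] M := x ^ (K + L) • LinearMap.id
  let F2 : M →ₗ[R] M := ∑ j, (x ^ (K - k j) • φ j).smulRight (x ^ (L - l j) • m j)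
  have hF : g.comp F1 = g.comp F2 := by
    ext b
    simp only [F1, F2, LinearMap.comp_apply, LinearMap.smul_apply, LinearMap.id_apply, map_smul,
      LinearMap.sum_apply, LinearMap.smulRight_apply, map_sum, hm]
    have h3 : g b = ∑ j, σ (g b) j • π (Pi.single j 1) := by
      conv_lhs => rw [← LinearMap.id_apply (R := Rx) (g b), ← hπσ, LinearMap.comp_apply,
        pi_eq_sum_univ' (σ (g b)), map_sum]
      refine Finset.sum_congr rfl fun j _ => ?_
      rw [map_smul]
    conv_lhs => rw [h3, Finset.smul_sum]
    refine Finset.sum_congr rfl fun j _ => ?_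
    have h5 : ∀ P : Mx, φ j b • P = x ^ k j • (σ (g b) j • P) := fun P => by
      rw [← algebraMap_smul Rx, hφ, smul_assoc]
    rw [smul_smul (x ^ (L - l j)), ← pow_add, hL, smul_eq_mul, mul_smul, h5, smul_smul (x ^ (K - k j)), ← pow_add,
      hK, smul_comm (σ (g b) j), smul_smul (x ^ K), ← pow_add]
  obtain ⟨⟨_, t, rfl⟩, ht⟩ := Module.Finite.exists_smul_of_comp_eq_of_isLocalizedModule
    (Submonoid.powers x) g F1 F2 hF
  refine ⟨t + (K + L), q, fun j => x ^ (L - l j) • m j, fun j => x ^ t • x ^ (K - k j) • φ j, fun b => ?_⟩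
  have h5 := LinearMap.congr_fun ht b
  simp only [F1, F2, LinearMap.smul_apply, Submonoid.smul_def, LinearMap.id_apply, LinearMap.sum_apply,
    LinearMap.smulRight_apply] at h5
  rw [pow_add, mul_smul, h5, Finset.smul_sum]
  refine Finset.sum_congr rfl fun j _ => ?_
  simp only [LinearMap.smul_apply, smul_smul, smul_eq_mul, mul_assoc]

/-- Every finite module over a Noetherian ring has a two-step complex `M → R^n → R^k` which is exact after
inverting any `x` such that `M` has a dual basis after inverting `x`. -/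
theorem exists_complex [IsNoetherianRing R] (M : Type*) [AddCommGroup M] [Module R M] [Module.Finite R M] :
    ∃ (n k : ℕ) (u : M →ₗ[R] (Fin n → R)) (v : (Fin n → R) →ₗ[R] (Fin k → R)),
      (∀ m, v (u m) = 0) ∧ ∀ x : R, HasDualBasis M x →
        (∀ m, u m = 0 → ∃ N : ℕ, x ^ N • m = 0) ∧
        (∀ a, v a = 0 → ∃ (N : ℕ) (m : M), x ^ N • a = u m) := by
  have : Module.Finite R (M →ₗ[R] R) := inferInstance
  obtain ⟨n, ψ, hψ⟩ := Submodule.fg_iff_exists_fin_generating_family.mp
    (Module.Finite.fg_top (R := R) (M := M →ₗ[R] R))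
  let lc : (Fin n → R) →ₗ[R] (M →ₗ[R] R) := Fintype.linearCombination R ψ
  obtain ⟨k, ρ, hρ⟩ := Submodule.fg_iff_exists_fin_generating_family.mp
    (IsNoetherian.noetherian (LinearMap.ker lc))
  let u : M →ₗ[R] (Fin n → R) := LinearMap.pi ψ
  let v : (Fin n → R) →ₗ[R] (Fin k → R) := LinearMap.pi fun j => Fintype.linearCombination R (ρ j)
  have hlc : Function.Surjective lc := by
    intro φ
    have h1 : φ ∈ Submodule.span R (Set.range ψ) := by rw [hψ]; trivial
    obtain ⟨c, hc⟩ := (Submodule.mem_span_range_iff_exists_fun R).mp h1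
    exact ⟨c, by simpa [lc, Fintype.linearCombination_apply] using hc⟩
  have hu : ∀ c m, (lc c) m = ∑ i, c i * u m i := by
    intro c m
    simp [lc, u, Fintype.linearCombination_apply]
  refine ⟨n, k, u, v, ?_, ?_⟩
  · intro m
    funext j
    have h1 : lc (ρ j) = 0 := by
      have : ρ j ∈ LinearMap.ker lc := by
        rw [← hρ]; exact Submodule.subset_span ⟨j, rfl⟩
      exact this
    have h2 := LinearMap.congr_fun h1 m
    rw [hu] at h2
    simp only [v, LinearMap.pi_apply, Fintype.linearCombination_apply, smul_eq_mul, Pi.zero_apply]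
    rw [LinearMap.zero_apply] at h2
    rw [← h2]
    exact Finset.sum_congr rfl fun i _ => mul_comm _ _
  · rintro x ⟨N, q, mm, φ, hφ⟩
    refine ⟨fun m hm => ⟨N, ?_⟩, fun a ha => ?_⟩
    · rw [hφ]
      refine Finset.sum_eq_zero fun j _ => ?_
      obtain ⟨c, hc⟩ := hlc (φ j)
      rw [← hc, hu, hm]
      simp
    · -- the functional defined by `a`
      have hker : LinearMap.ker lc ≤ LinearMap.ker (Fintype.linearCombination R a) := by
        rw [← hρ, Submodule.span_le]
        rintro _ ⟨j, rfl⟩
        have h1 := congrFun ha j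
        simp only [v, LinearMap.pi_apply, Fintype.linearCombination_apply, smul_eq_mul, Pi.zero_apply] at h1
        change Fintype.linearCombination R a (ρ j) = 0
        rw [Fintype.linearCombination_apply, ← h1]
        exact Finset.sum_congr rfl fun i _ => mul_comm _ _
      let â : (M →ₗ[R] R) →ₗ[R] R :=
        (Submodule.liftQ _ (Fintype.linearCombination R a) hker) ∘ₗ (lc.quotKerEquivOfSurjective hlc).symm.toLinearMap
      have hâ : ∀ c, â (lc c) = ∑ i, c i * a i := by
        intro c
        have : (lc.quotKerEquivOfSurjective hlc).symm (lc c) = Submodule.Quotient.mk c := by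
          rw [LinearEquiv.symm_apply_eq]; rfl
        simp [â, this, Fintype.linearCombination_apply]
      refine ⟨N, ∑ j, â (φ j) • mm j, ?_⟩
      funext i
      have h1 : â (ψ i) = a i := by
        have : lc (Pi.single i 1) = ψ i := by simp [lc, Fintype.linearCombination_apply, Pi.single_apply]
        rw [← this, hâ]
        simp [Pi.single_apply]
      have h2 : x ^ N • ψ i = ∑ j, (ψ i (mm j)) • φ j := by
        ext b
        rw [LinearMap.smul_apply, ← map_smul, hφ, map_sum, LinearMap.sum_apply]
        refine Finset.sum_congr rfl fun j _ => ?_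
        rw [map_smul, LinearMap.smul_apply, smul_eq_mul, smul_eq_mul, mul_comm]
      have h3 : u (∑ j, â (φ j) • mm j) i = ∑ j, â (φ j) * ψ i (mm j) := by
        simp [u]
      rw [h3, Pi.smul_apply, ← h1, ← map_smul, h2, map_sum]
      refine Finset.sum_congr rfl fun j _ => ?_
      rw [map_smul, smul_eq_mul, mul_comm]

end Groth.Agent.Pi1B.DualBasis
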