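import Mathlib.RingTheory.Etale.StandardEtale
import Mathlib.RingTheory.Etale.QuasiFinite
import Mathlib.RingTheory.Localization.Integral
import Mathlib.FieldTheory.Separable
import Mathlib.FieldTheory.PurelyInseparable.Basic

set_option autoImplicit false

universe u

open Polynomial TensorProduct

namespace Groth.Agent.Pi1B.EtaleSep

/-- Adjoining a separable element of a field by an étale algebra. -/
theorem exists_etale_adjoin (R : Type u) [CommRing R] (Ω : Type u) [Field Ω] [Algebra R Ω]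
    (p : Ideal R) [p.IsPrime] [Algebra p.ResidueField Ω] [IsScalarTower R p.ResidueField Ω]
    (α : Ω) (hα : IsSeparable p.ResidueField α) :
    ∃ (R' : Type u) (_ : CommRing R') (_ : Algebra R R') (_ : Algebra.Etale R R')
      (χ : R' →ₐ[R] Ω) (y : R'), χ y = α := by
  have hint : IsIntegral p.ResidueField α := hα.isIntegral
  let h := minpoly p.ResidueField α
  have hm : h.Monic := minpoly.monic hint
  -- clear denominators
  obtain ⟨b, hb, hb'⟩ := IsLocalization.integerNormalization_spec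
    (nonZeroDivisors (R ⧸ p)) h
  set h₀ := IsLocalization.integerNormalization (nonZeroDivisors (R ⧸ p)) h
  obtain ⟨F, hF, hFs⟩ := exists_support_eq_of_mem_lifts (f := Ideal.Quotient.mk p)
    (mem_lifts_of_surjective Ideal.Quotient.mk_surjective h₀)
  have hbne : algebraMap (R ⧸ p) p.ResidueField b ≠ 0 :=
    IsLocalization.to_map_ne_zero_of_mem_nonZeroDivisors _ le_rfl hb
  have hFk : F.map (algebraMap R p.ResidueField) = C (algebraMap _ p.ResidueField b) * h := by
    rw [IsScalarTower.algebraMap_eq R (R ⧸ p) p.ResidueField, ← Polynomial.map_map]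
    rw [Ideal.Quotient.algebraMap_eq, hF, hb', ← smul_eq_C_mul, algebraMap_smul]
  have hdeg : F.natDegree = h.natDegree := by
    have e1 : F.degree = h₀.degree := by simp only [degree, hFs]
    rw [natDegree_eq_of_degree_eq e1]
    have hinj : Function.Injective (algebraMap (R ⧸ p) p.ResidueField) :=
      Ideal.injective_algebraMap_quotient_residueField p
    rw [← natDegree_map_eq_of_injective hinj, hb', ← algebraMap_smul p.ResidueField,
      natDegree_smul _ hbne]
  have hlead : algebraMap R p.ResidueField F.leadingCoeff =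
      algebraMap (R ⧸ p) p.ResidueField b := by
    have := congrArg (fun q => q.coeff h.natDegree) hFk
    simp only [coeff_map, coeff_C_mul] at this
    rw [leadingCoeff, hdeg, this, ← leadingCoeff, hm.leadingCoeff, mul_one]
  set r := F.leadingCoeff
  have hrΩ : algebraMap R Ω r ≠ 0 := by
    rw [IsScalarTower.algebraMap_apply R p.ResidueField Ω, hlead]
    exact fun h0 => hbne ((map_eq_zero_iff _ (algebraMap p.ResidueField Ω).injective).mp h0)
  have hFα : aeval α F = 0 := by
    rw [← aeval_map_algebraMap p.ResidueField, hFk, map_mul, minpoly.aeval, mul_zero]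
  have hF'α : aeval α (derivative F) ≠ 0 := by
    rw [← aeval_map_algebraMap p.ResidueField, ← derivative_map, hFk, derivative_C_mul, map_mul]
    have : aeval α (derivative h) ≠ 0 := Separable.aeval_derivative_ne_zero (p := h) hα (minpoly.aeval p.ResidueField α)
    simp [this, hbne, h]
  let Rr := Localization.Away r
  let ι : Rr →ₐ[R] Ω := IsLocalization.liftAlgHom (M := Submonoid.powers r)
    (f := Algebra.ofId R Ω) (by
      rintro ⟨_, n, rfl⟩
      simp only [map_pow]
      exact (IsUnit.mk0 _ hrΩ).pow n)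
  let _ : Algebra Rr Ω := ι.toRingHom.toAlgebra
  have : IsScalarTower R Rr Ω := IsScalarTower.of_algebraMap_eq' (by
    ext x; exact (ι.commutes x).symm)
  let f₁ : Rr[X] := C (IsLocalization.Away.invSelf r) * F.map (algebraMap R Rr)
  have hinv : algebraMap R Rr r * IsLocalization.Away.invSelf r = 1 :=
    IsLocalization.Away.mul_invSelf r
  have hunit : algebraMap Rr Ω (IsLocalization.Away.invSelf r) ≠ 0 := by
    intro h0
    have := congrArg (algebraMap Rr Ω) hinv
    rw [map_mul, h0, mul_zero, map_one] at this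
    exact zero_ne_one this
  have hf₁ : f₁.Monic := by
    apply monic_C_mul_of_mul_leadingCoeff_eq_one
    rw [mul_comm, ← hinv]
    congr 1
    have hr0 : algebraMap R Rr F.leadingCoeff ≠ 0 := by
      intro h0
      apply hrΩ
      rw [IsScalarTower.algebraMap_apply R Rr Ω, h0, map_zero]
    rw [leadingCoeff_map_of_leadingCoeff_ne_zero _ hr0]
  let P : StandardEtalePair Rr := ⟨f₁, hf₁, derivative f₁, 1, 0, 1, by simp⟩
  have hP : P.HasMap α := by
    constructor
    · simp [P, f₁, hFα]
    · apply IsUnit.mk0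
      simp [P, f₁, hF'α, hunit]
  let _ : Algebra R P.Ring := ((algebraMap Rr P.Ring).comp (algebraMap R Rr)).toAlgebra
  have : IsScalarTower R Rr P.Ring := IsScalarTower.of_algebraMap_eq' rfl
  refine ⟨P.Ring, inferInstance, inferInstance, Algebra.Etale.comp R Rr P.Ring,
    (P.lift α hP).restrictScalars R, P.X, ?_⟩
  simp


/-- Some power by a power of the characteristic exponent is separable. -/
theorem exists_pow_isSeparable {k Ω : Type*} [Field k] [Field Ω] [Algebra k Ω] (q : ℕ)
    [ExpChar k q] (α : Ω) (hα : IsIntegral k α) : ∃ m : ℕ, IsSeparable k (α ^ q ^ m) := by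
  obtain ⟨g, hg, m, hm⟩ := (minpoly.irreducible hα).hasSeparableContraction q
  refine ⟨m, ?_⟩
  have h0 : aeval (α ^ q ^ m) g = 0 := by
    rw [← expand_aeval, hm, minpoly.aeval]
  exact hg.of_dvd (minpoly.dvd k _ h0)

/-- Étale-local separation of two geometric points of an integral algebra by an idempotent. -/
theorem exists_etale_idempotent_aux (R T Ω : Type u) [CommRing R] [CommRing T] [Field Ω]
    [Algebra R T] [Algebra R Ω] [Algebra.IsIntegral R T] (φ ψ : T →ₐ[R] Ω) (h : φ ≠ ψ) :
    ∃ (R' : Type u) (_ : CommRing R') (_ : Algebra R R') (_ : Algebra.Etale R R')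
      (χ : R' →ₐ[R] Ω) (e : R' ⊗[R] T), IsIdempotentElem e ∧
      Algebra.TensorProduct.lift χ φ (fun _ _ => .all _ _) e = 0 ∧
      Algebra.TensorProduct.lift χ ψ (fun _ _ => .all _ _) e = 1 := by
  obtain ⟨x, hx⟩ : ∃ x, φ x ≠ ψ x := by
    by_contra! H
    exact h (AlgHom.ext H)
  let p : Ideal R := RingHom.ker (algebraMap R Ω)
  have hp : p.IsPrime := RingHom.ker_isPrime _
  let ι : p.ResidueField →ₐ[R] Ω := Ideal.ResidueField.liftₐ p (Algebra.ofId R Ω) le_rfl
    (fun r hr => IsUnit.mk0 _ hr)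
  let _ : Algebra p.ResidueField Ω := ι.toRingHom.toAlgebra
  have _ : IsScalarTower R p.ResidueField Ω := IsScalarTower.of_algebraMap_eq' (by
    ext x; exact (ι.commutes x).symm)
  let q := ringExpChar p.ResidueField
  have hq : ExpChar Ω q := expChar_of_injective_algebraMap (algebraMap p.ResidueField Ω).injective q
  have hxint : IsIntegral p.ResidueField (φ x) :=
    ((Algebra.IsIntegral.isIntegral (R := R) x).map φ).tower_top
  obtain ⟨m, hm⟩ := exists_pow_isSeparable q (φ x) hxint
  set x' := x ^ q ^ m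
  have hx' : φ x' ≠ ψ x' := by
    intro H
    rw [map_pow, map_pow] at H
    exact hx (iterateFrobenius_inj Ω q m H)
  rw [← map_pow] at hm
  -- adjoin `φ x'`
  obtain ⟨R₁, _, _, _, χ₁, y, hy⟩ := exists_etale_adjoin R Ω p (φ x') hm
  let _ : Algebra R₁ Ω := χ₁.toRingHom.toAlgebra
  have _ : IsScalarTower R R₁ Ω := IsScalarTower.of_algebraMap_eq' (by
    ext x; exact (χ₁.commutes x).symm)
  let P₁ : Ideal R₁ := RingHom.ker (algebraMap R₁ Ω)
  have hP₁ : P₁.IsPrime := RingHom.ker_isPrime _
  let ι₁ : P₁.ResidueField →ₐ[R₁] Ω := Ideal.ResidueField.liftₐ P₁ (Algebra.ofId R₁ Ω) le_rfl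
    (fun r hr => IsUnit.mk0 _ hr)
  let f : R[X] := minpoly R x'
  have hfm : f.Monic := minpoly.monic (Algebra.IsIntegral.isIntegral x')
  have hfx : aeval x' f = 0 := minpoly.aeval R x'
  let f₁ : R₁[X] := f.map (algebraMap R R₁)
  have hf₁m : f₁.Monic := hfm.map _
  let y' : P₁.ResidueField := algebraMap R₁ P₁.ResidueField y
  have hιy : ι₁ y' = φ x' := by rw [← hy]; exact ι₁.commutes y
  have hfφ : ∀ (θ : T →ₐ[R] Ω), (f₁.map (algebraMap R₁ Ω)).eval (θ x') = 0 := by
    intro θ
    rw [Polynomial.map_map, ← IsScalarTower.algebraMap_eq, eval_map_algebraMap]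
    rw [aeval_algHom_apply, hfx, map_zero]
  have hf₁y : (f₁.map (algebraMap R₁ P₁.ResidueField)).eval y' = 0 := by
    apply ι₁.toRingHom.injective
    have : ι₁.toRingHom.comp (algebraMap R₁ P₁.ResidueField) = algebraMap R₁ Ω :=
      ι₁.comp_algebraMap
    rw [map_zero, ← Polynomial.eval_map_apply, Polynomial.map_map, this]
    change (f₁.map (algebraMap R₁ Ω)).eval (ι₁ y') = 0
    rw [hιy]
    exact hfφ φ
  obtain ⟨b, hb, hb'⟩ := exists_eq_pow_rootMultiplicity_mul_and_not_dvd
    (f₁.map (algebraMap R₁ P₁.ResidueField)) (hf₁m.map _).ne_zero y'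
  set j := rootMultiplicity y' (f₁.map (algebraMap R₁ P₁.ResidueField))
  have hj : 0 < j := (rootMultiplicity_pos (hf₁m.map _).ne_zero).mpr hf₁y
  have ham : ((X - C y') ^ j : P₁.ResidueField[X]).Monic := (monic_X_sub_C y').pow j
  have hbm : b.Monic := by
    have := hf₁m.map (algebraMap R₁ P₁.ResidueField)
    rw [hb] at this
    exact ham.of_mul_monic_left this
  have hcop : IsCoprime ((X - C y') ^ j) b :=
    IsCoprime.pow_left ((irreducible_X_sub_C y').coprime_iff_not_dvd.mpr hb')
  obtain ⟨R₂, _, _, _, Q, _, _, a', b', hbij, ha'm, hb'm, hfab, ⟨c, d, hcd⟩, ha', hb''⟩ :=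
    Algebra.exists_etale_bijective_residueFieldMap_and_map_eq_mul_and_isCoprime P₁ f₁
      ((X - C y') ^ j) b hf₁m ham hbm hb hcop
  let κ : P₁.ResidueField ≃ₐ[R₁] Q.ResidueField := AlgEquiv.ofBijective _ hbij
  let χ₂ : R₂ →ₐ[R₁] Ω :=
    (ι₁.comp κ.symm.toAlgHom).comp (IsScalarTower.toAlgHom R₁ R₂ Q.ResidueField)
  have hχa : a'.map χ₂.toRingHom = (X - C (φ x')) ^ j := by
    have e1 : χ₂.toRingHom = ((ι₁.toRingHom.comp κ.symm.toAlgHom.toRingHom)).comp
      (algebraMap R₂ Q.ResidueField) := rfl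
    rw [e1, ← Polynomial.map_map, ← ha', Polynomial.map_map, RingHom.comp_assoc]
    have e2 : κ.symm.toAlgHom.toRingHom.comp (Ideal.ResidueField.mapₐ P₁ Q (Algebra.ofId _ _)
      (Ideal.over_def Q P₁)).toRingHom = RingHom.id _ := by
      refine RingHom.ext fun z => ?_
      exact κ.symm_apply_apply z
    rw [e2, RingHom.comp_id]
    simp only [Polynomial.map_pow, Polynomial.map_sub, map_X, map_C]
    congr 3
  let _ : Algebra R R₂ := ((algebraMap R₁ R₂).comp (algebraMap R R₁)).toAlgebra
  have _ : IsScalarTower R R₁ R₂ := IsScalarTower.of_algebraMap_eq' rfl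
  have het : Algebra.Etale R R₂ := Algebra.Etale.comp R R₁ R₂
  let χ : R₂ →ₐ[R] Ω := χ₂.restrictScalars R
  let z : R₂ ⊗[R] T := 1 ⊗ₜ x'
  have hz : aeval z a' * aeval z b' = 0 := by
    rw [← map_mul, ← hfab, Polynomial.map_map, ← IsScalarTower.algebraMap_eq,
      aeval_map_algebraMap]
    change aeval ((Algebra.TensorProduct.includeRight : T →ₐ[R] R₂ ⊗[R] T) x') f = 0
    rw [aeval_algHom_apply, hfx, map_zero]
  let e : R₂ ⊗[R] T := aeval z (c * a')
  have hcd' : aeval z (c * a') + aeval z (d * b') = 1 := by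
    rw [← map_add, hcd, map_one]
  have he : IsIdempotentElem e := by
    have e1 : aeval z (c * a') * aeval z (d * b') = 0 := by
      rw [map_mul, map_mul]
      linear_combination (aeval z c * aeval z d) * hz
    change aeval z (c * a') * aeval z (c * a') = aeval z (c * a')
    nth_rewrite 3 [← mul_one (aeval z (c * a'))]
    rw [← hcd']
    linear_combination - e1
  have hev : ∀ (θ : T →ₐ[R] Ω) (g : R₂[X]),
      Algebra.TensorProduct.lift χ θ (fun _ _ => .all _ _) (aeval z g) =
        (g.map χ₂.toRingHom).eval (θ x') := by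
    intro θ g
    have e1 : (Algebra.TensorProduct.lift χ θ (fun _ _ => .all _ _)).toRingHom.comp
        (algebraMap R₂ (R₂ ⊗[R] T)) = χ₂.toRingHom := by
      ext r
      simp [χ]
    have e2 : Algebra.TensorProduct.lift χ θ (fun _ _ => .all _ _) z = θ x' := by
      simp [z]
    rw [eval_map, ← e2, ← e1]
    exact (Polynomial.hom_eval₂ g (algebraMap R₂ (R₂ ⊗[R] T))
      (Algebra.TensorProduct.lift χ θ (fun _ _ => .all _ _)).toRingHom z)
  refine ⟨R₂, inferInstance, inferInstance, het, χ, e, he, ?_, ?_⟩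
  · rw [hev, Polynomial.map_mul, eval_mul, hχa]
    simp [hj.ne']
  · rw [hev]
    have h1 : (a'.map χ₂.toRingHom).eval (ψ x') ≠ 0 := by
      rw [hχa]
      simp only [eval_pow, eval_sub, eval_X, eval_C]
      exact pow_ne_zero _ (sub_ne_zero.mpr (Ne.symm hx'))
    have h2 : (a'.map χ₂.toRingHom).eval (ψ x') * (b'.map χ₂.toRingHom).eval (ψ x') = 0 := by
      rw [← hev, ← hev, ← map_mul, hz, map_zero]
    have h3 : (b'.map χ₂.toRingHom).eval (ψ x') = 0 := (mul_eq_zero.mp h2).resolve_left h1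
    have h4 : ((c * a' + d * b').map χ₂.toRingHom).eval (ψ x') = 1 := by
      rw [hcd]; simp
    have h5 : ((d * b').map χ₂.toRingHom).eval (ψ x') = 0 := by
      rw [Polynomial.map_mul, eval_mul, h3, mul_zero]
    rw [Polynomial.map_add, eval_add, h5, add_zero] at h4
    exact h4

/-- Étale-locally on the base, a geometric point of an integral algebra is separated by an
idempotent from finitely many other geometric points. -/
theorem exists_etale_idempotent (R T Ω : Type u) [CommRing R] [CommRing T] [Field Ω]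
    [Algebra R T] [Algebra R Ω] [Algebra.IsIntegral R T] (φ : T →ₐ[R] Ω)
    (s : Finset (T →ₐ[R] Ω)) (hs : φ ∉ s) :
    ∃ (R' : Type u) (_ : CommRing R') (_ : Algebra R R') (_ : Algebra.Etale R R')
      (χ : R' →ₐ[R] Ω) (e : R' ⊗[R] T), IsIdempotentElem e ∧
      Algebra.TensorProduct.lift χ φ (fun _ _ => .all _ _) e = 1 ∧
      ∀ ψ ∈ s, Algebra.TensorProduct.lift χ ψ (fun _ _ => .all _ _) e = 0 := by
  classical
  induction s using Finset.induction_on with
  | empty =>
    exact ⟨R, inferInstance, inferInstance, inferInstance, Algebra.ofId R Ω, 1, .one, by simp,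
      by simp⟩
  | insert ψ s hψ ih =>
    rw [Finset.mem_insert, not_or] at hs
    obtain ⟨R₁, _, _, _, χ₁, e₁, he₁, hφ₁, hs₁⟩ := ih hs.2
    obtain ⟨R₂, _, _, _, χ₂, e₂, he₂, hφ₂, hψ₂⟩ := exists_etale_idempotent_aux R T Ω φ ψ hs.1
    let χ : R₁ ⊗[R] R₂ →ₐ[R] Ω := Algebra.TensorProduct.lift χ₁ χ₂ (fun _ _ => .all _ _)
    let m₁ : R₁ ⊗[R] T →ₐ[R] (R₁ ⊗[R] R₂) ⊗[R] T :=
      Algebra.TensorProduct.map Algebra.TensorProduct.includeLeft (AlgHom.id R T)
    let m₂ : R₂ ⊗[R] T →ₐ[R] (R₁ ⊗[R] R₂) ⊗[R] T :=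
      Algebra.TensorProduct.map Algebra.TensorProduct.includeRight (AlgHom.id R T)
    have h₁ : ∀ θ : T →ₐ[R] Ω, (Algebra.TensorProduct.lift χ θ (fun _ _ => .all _ _)).comp m₁ =
        Algebra.TensorProduct.lift χ₁ θ (fun _ _ => .all _ _) := by
      intro θ
      ext <;> simp [m₁, χ]
    have h₂ : ∀ θ : T →ₐ[R] Ω, (Algebra.TensorProduct.lift χ θ (fun _ _ => .all _ _)).comp m₂ =
        Algebra.TensorProduct.lift χ₂ θ (fun _ _ => .all _ _) := by
      intro θ
      ext <;> simp [m₂, χ]
    have h₁' : ∀ (θ : T →ₐ[R] Ω) (x), Algebra.TensorProduct.lift χ θ (fun _ _ => .all _ _)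
        (m₁ x) = Algebra.TensorProduct.lift χ₁ θ (fun _ _ => .all _ _) x := fun θ x =>
      DFunLike.congr_fun (h₁ θ) x
    have h₂' : ∀ (θ : T →ₐ[R] Ω) (x), Algebra.TensorProduct.lift χ θ (fun _ _ => .all _ _)
        (m₂ x) = Algebra.TensorProduct.lift χ₂ θ (fun _ _ => .all _ _) x := fun θ x =>
      DFunLike.congr_fun (h₂ θ) x
    refine ⟨R₁ ⊗[R] R₂, inferInstance, inferInstance, Algebra.Etale.comp R R₁ (R₁ ⊗[R] R₂), χ,
      m₁ e₁ * (1 - m₂ e₂), (he₁.map m₁).mul (he₂.map m₂).one_sub, ?_, ?_⟩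
    · rw [map_mul, map_sub, h₁', h₂', hφ₁, hφ₂]
      simp
    · intro θ hθ
      rw [map_mul, map_sub, h₁', h₂']
      rcases Finset.mem_insert.mp hθ with rfl | hθ
      · rw [hψ₂]; simp
      · rw [hs₁ θ hθ]; simp

end Groth.Agent.Pi1B.EtaleSep
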