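import Mathlib.AlgebraicGeometry.SpreadingOut
import Mathlib.AlgebraicGeometry.Properties
import Groth.Prelude.Def_FEt
import Groth.Agent.Pi1A.ClopenCrit
import Groth.Agent.S0065
import Groth.Agent.S0558
import Mathlib.AlgebraicGeometry.Noetherian

/-!
# Restriction of finite étale covers to dense opens with regular local rings in the complement

* `exists_specializes_maximal`: every point of a scheme is a specialization of a maximal point (a point whose
  local ring has dimension zero).
* `dense_of_dim_pos`: an open containing all points with zero dimensional local ring is dense.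
* `restrict_fullyFaithful`: X locally Noetherian, U dense open, the local rings at points outside U are regular;
  then restriction of finite étale covers from X to U is fully faithful.
-/

set_option autoImplicit false
universe u

open CategoryTheory CategoryTheory.Limits AlgebraicGeometry TopologicalSpace

namespace Groth.Agent.Pi1B.ExtBasic

/-- Every point of a scheme is the specialization of a point whose local ring has dimension zero. -/
theorem exists_specializes_maximal (X : Scheme.{u}) (x : X) :
    ∃ η : X, η ⤳ x ∧ ringKrullDim (X.presheaf.stalk η) = 0 ∧ ∀ y : X, y ⤳ η → y = η := by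
  obtain ⟨η, hη⟩ := QuasiSober.sober (isIrreducible_irreducibleComponent (x := x))
    isClosed_irreducibleComponent
  have hηx : η ⤳ x := hη.specializes mem_irreducibleComponent
  have hmax : ∀ y : X, y ⤳ η → y = η := by
    intro y hy
    have h1 : closure {y} ⊇ irreducibleComponent x := by
      rw [← hη.def]
      exact (specializes_iff_closure_subset.mp hy)
    have h2 : closure ({y} : Set X) = irreducibleComponent x :=
      eq_irreducibleComponent isIrreducible_singleton.closure.isPreirreducible h1
    have h3 : η ⤳ y := by
      apply hη.specializes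
      rw [← h2]
      exact subset_closure rfl
    exact (hy.antisymm h3).eq
  refine ⟨η, hηx, ?_, hmax⟩
  rw [ringKrullDim_stalk_eq_coheight]
  norm_cast
  rw [Order.coheight_eq_zero]
  intro y hy
  have h1 : y ⤳ η := hy
  rw [hmax y h1]

/-- An open subset which contains all points with zero dimensional local ring is dense. -/
theorem dense_of_dim_pos {X : Scheme.{u}} (U : X.Opens)
    (h : ∀ x : X, ringKrullDim (X.presheaf.stalk x) = 0 → x ∈ U) : Dense (U : Set X) := by
  intro x
  obtain ⟨η, hηx, hη, -⟩ := exists_specializes_maximal X x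
  exact hηx.mem_closed isClosed_closure (subset_closure (h η hη))

/-- Clopen subsets of a dense open subset extend to clopen subsets, provided the local rings at the points outside
are domains. -/
theorem exists_isClopen {P T : Scheme.{u}} (j : P ⟶ T) [IsOpenImmersion j] [IsDominant j]
    [∀ t : T, T.IsGermInjectiveAt t] (hdom : ∀ t : T, t ∉ Set.range j → IsDomain (T.presheaf.stalk t)) (V : Set P)
    (hV : IsClopen V) : ∃ C : Set T, IsClopen C ∧ j ⁻¹' C = V := by
  have hA : IsOpen (j '' V) := j.isOpenEmbedding.isOpenMap _ hV.isOpen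
  have hB : IsOpen (j '' Vᶜ) := j.isOpenEmbedding.isOpenMap _ hV.compl.isOpen
  have hdisj : Disjoint (j '' V) (j '' Vᶜ) :=
    (Set.disjoint_image_iff j.isOpenEmbedding.injective).mpr disjoint_compl_right
  have hunion : closure (j '' V) ∪ closure (j '' Vᶜ) = Set.univ := by
    rw [← closure_union, ← Set.image_union, Set.union_compl_self, Set.image_univ]
    exact j.denseRange.closure_range
  have hinter : closure (j '' V) ∩ closure (j '' Vᶜ) = ∅ := by
    by_contra hne
    obtain ⟨t, ht1, ht2⟩ := Set.nonempty_iff_ne_empty.mpr hne
    by_cases htr : t ∈ Set.range j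
    · obtain ⟨p, rfl⟩ := htr
      by_cases hp : p ∈ V
      · obtain ⟨a, ha1, ha2⟩ := mem_closure_iff.mp ht2 _ hA ⟨p, hp, rfl⟩
        exact Set.disjoint_left.mp hdisj ha1 ha2
      · obtain ⟨a, ha1, ha2⟩ := mem_closure_iff.mp ht1 _ hB ⟨p, hp, rfl⟩
        exact Set.disjoint_left.mp hdisj ha2 ha1
    have := hdom t htr
    obtain ⟨T₀, htT, hT₀, hinj⟩ := T.exists_germ_injective t
    have hdom : IsDomain Γ(T, T₀) := hinj.isDomain (T.presheaf.germ T₀ t htT).hom
    have hirr : IsPreirreducible (T₀ : Set T) := by
      rw [← hT₀.range_fromSpec, ← Set.image_univ]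
      exact (PreirreducibleSpace.isPreirreducible_univ (X := PrimeSpectrum Γ(T, T₀))).image _
        hT₀.fromSpec.continuous.continuousOn
    obtain ⟨a, ha1, ha2⟩ := mem_closure_iff.mp ht1 T₀ T₀.2 htT
    obtain ⟨b, hb1, hb2⟩ := mem_closure_iff.mp ht2 T₀ T₀.2 htT
    obtain ⟨c, hc1, hc2⟩ := hirr _ _ hA hB ⟨a, ha1, ha2⟩ ⟨b, hb1, hb2⟩
    exact Set.disjoint_iff.mp hdisj hc2
  have hcompl : closure (j '' V) = (closure (j '' Vᶜ))ᶜ := by
    ext t
    constructor
    · intro h1 h2
      exact (Set.ext_iff.mp hinter t).mp ⟨h1, h2⟩
    · intro h1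
      have := (Set.ext_iff.mp hunion t).mpr trivial
      exact this.resolve_right h1
  refine ⟨closure (j '' V), ⟨isClosed_closure, ?_⟩, ?_⟩
  · rw [hcompl]; exact isClosed_closure.isOpen_compl
  · ext p
    constructor
    · intro hp
      by_contra hpV
      have : j p ∈ closure (j '' V) ∩ closure (j '' Vᶜ) := ⟨hp, subset_closure ⟨p, hpV, rfl⟩⟩
      rw [hinter] at this
      exact this
    · intro hp
      exact subset_closure ⟨p, hp, rfl⟩

/-- If `X` is locally Noetherian, `U` a dense open and the local rings of `X` at the points outside `U` are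
regular, then restriction of finite etale covers from `X` to `U` is fully faithful. -/
theorem restrict_fullyFaithful {X : Scheme.{u}} [IsLocallyNoetherian X] (U : X.Opens)
    (hX : ∀ x : X, x ∉ U → IsRegularLocalRing (X.presheaf.stalk x)) (hU : Dense (U : Set X)) :
    (FEt.restrict U.ι).Full ∧ (FEt.restrict U.ι).Faithful := by
  have hr : ∀ T : FEt.Cat X, Set.range (pullback.fst T.hom U.ι) = T.hom ⁻¹' Set.range U.ι :=
    fun T => IsOpenImmersion.range_pullbackFst _ _
  have hdom : ∀ T : FEt.Cat X, IsDominant (pullback.fst T.hom U.ι) := by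
    intro T
    refine ⟨?_⟩
    have hT : IsOpenMap T.hom := T.hom.isOpenMap
    have hd := Dense.preimage hU hT
    rw [DenseRange, hr]
    simpa using hd
  refine Groth.Agent.Pi1A.ClopenCrit.restrict_fullyFaithful_of_isClopen U.ι ?_ ?_
  · intro T C hC hemp
    have := hdom T
    by_contra hne
    obtain ⟨c, hc⟩ := Set.nonempty_iff_ne_empty.mpr hne
    obtain ⟨p, hp⟩ := (pullback.fst T.hom U.ι).denseRange.exists_mem_open hC.isOpen ⟨c, hc⟩
    exact (Set.ext_iff.mp hemp p).mp hp
  · intro T V hV
    have := hdom T
    let τ : T.left ⟶ X := T.hom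
    have : Etale τ := T.prop.2
    have hN : IsLocallyNoetherian T.left := LocallyOfFiniteType.isLocallyNoetherian τ
    have hG : ∀ t : T.left, T.left.IsGermInjectiveAt t := inferInstance
    refine exists_isClopen (pullback.fst τ U.ι) ?_ V hV
    intro t ht
    have hx : τ t ∉ U := by
      intro hmem
      apply ht
      rw [hr T]
      simpa using hmem
    have hreg : IsRegularLocalRing (T.left.presheaf.stalk t) :=
      (Groth.Agent.S0065.result τ t).mpr (hX _ hx)
    exact Groth.Agent.S0558.result _

end Groth.Agent.Pi1B.ExtBasic
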