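import Groth.Agent.Pi1B.ExtBasic
import Groth.Agent.Pi1A.FEtGlue

/-!
# Restriction of finite étale covers along dense open immersions

* `restrict_fullyFaithful_of_isOpenImmersion`: version of `ExtBasic.restrict_fullyFaithful` for open immersions.
* `mem_of_dim_zero`: on a locally Noetherian scheme a dense open with regular (domain) local rings outside it
  contains all points with zero dimensional local ring.
* `exists_maximal_not_mem`: existence of maximal points of the complement of an open.
-/

set_option autoImplicit false
universe u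

open CategoryTheory CategoryTheory.Limits AlgebraicGeometry TopologicalSpace

namespace Groth.Agent.Pi1B.ExtBasic2

open Groth.Agent.Pi1B.ExtBasic

/-- If `X` is locally Noetherian, `j : P ⟶ X` a dense open immersion and the local rings of `X` at the points
outside the image are regular, then restriction of finite etale covers from `X` to `P` is fully faithful. -/
theorem restrict_fullyFaithful_of_isOpenImmersion {P X : Scheme.{u}} [IsLocallyNoetherian X] (j : P ⟶ X)
    [IsOpenImmersion j]
    (hX : ∀ x : X, x ∉ Set.range j → IsRegularLocalRing (X.presheaf.stalk x)) (hU : DenseRange j) :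
    (FEt.restrict j).Full ∧ (FEt.restrict j).Faithful := by
  have hr : ∀ T : FEt.Cat X, Set.range (pullback.fst T.hom j) = T.hom ⁻¹' Set.range j :=
    fun T => IsOpenImmersion.range_pullbackFst _ _
  have hdom : ∀ T : FEt.Cat X, IsDominant (pullback.fst T.hom j) := by
    intro T
    refine ⟨?_⟩
    have hT : IsOpenMap T.hom := T.hom.isOpenMap
    have hd := Dense.preimage hU hT
    rw [DenseRange, hr]
    exact hd
  refine Groth.Agent.Pi1A.ClopenCrit.restrict_fullyFaithful_of_isClopen j ?_ ?_
  · intro T C hC hemp
    have := hdom T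
    by_contra hne
    obtain ⟨c, hc⟩ := Set.nonempty_iff_ne_empty.mpr hne
    obtain ⟨p, hp⟩ := (pullback.fst T.hom j).denseRange.exists_mem_open hC.isOpen ⟨c, hc⟩
    exact (Set.ext_iff.mp hemp p).mp hp
  · intro T V hV
    have := hdom T
    let τ : T.left ⟶ X := T.hom
    have : Etale τ := T.prop.2
    have hN : IsLocallyNoetherian T.left := LocallyOfFiniteType.isLocallyNoetherian τ
    have hG : ∀ t : T.left, T.left.IsGermInjectiveAt t := inferInstance
    refine exists_isClopen (pullback.fst τ j) ?_ V hV
    intro t ht
    have hx : τ t ∉ Set.range j := by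
      intro hmem
      apply ht
      rw [hr T]
      exact hmem
    have hreg : IsRegularLocalRing (T.left.presheaf.stalk t) :=
      (Groth.Agent.S0065.result τ t).mpr (hX _ hx)
    exact Groth.Agent.S0558.result _

/-- A dense open contains all points with zero-dimensional integral local ring. -/
theorem mem_of_dim_zero {X : Scheme.{u}} [IsLocallyNoetherian X] (U : X.Opens) (hU : Dense (U : Set X)) (x : X)
    (hx : IsDomain (X.presheaf.stalk x)) (hx0 : ringKrullDim (X.presheaf.stalk x) = 0) : x ∈ U := by
  obtain ⟨T₀, hxT, hT₀, hinj⟩ := X.exists_germ_injective x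
  have hdom : IsDomain Γ(X, T₀) := hinj.isDomain (X.presheaf.germ T₀ x hxT).hom
  have hirr : IsPreirreducible (T₀ : Set X) := by
    rw [← hT₀.range_fromSpec, ← Set.image_univ]
    exact (PreirreducibleSpace.isPreirreducible_univ (X := PrimeSpectrum Γ(X, T₀))).image _
      hT₀.fromSpec.continuous.continuousOn
  obtain ⟨y, hy1, hy2⟩ := hU.inter_open_nonempty T₀ T₀.2 ⟨x, hxT⟩
  -- the generic point of `T₀` specializes to `x`, hence is `x`
  have hirr' : IsIrreducible (closure (T₀ : Set X)) := (IsPreirreducible.closure hirr) |> fun h => ⟨⟨x, subset_closure hxT⟩, h⟩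
  obtain ⟨η, hη⟩ := QuasiSober.sober hirr' isClosed_closure
  have h1 : η ⤳ x := hη.specializes (subset_closure hxT)
  have h2 : η = x := by
    rw [ringKrullDim_stalk_eq_coheight] at hx0
    norm_cast at hx0
    rw [Order.coheight_eq_zero] at hx0
    exact (h1.antisymm (hx0 (show x ≤ η from h1))).eq
  have h3 : η ⤳ y := hη.specializes (subset_closure hy1)
  rw [← h2]
  exact h3.mem_open U.2 hy2

/-- In a sober space every point is the specialization of a maximal point. -/
theorem exists_maximal_specializes {Z : Type*} [TopologicalSpace Z] [QuasiSober Z] [T0Space Z] (z : Z) :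
    ∃ η : Z, η ⤳ z ∧ ∀ y : Z, y ⤳ η → y = η := by
  obtain ⟨η, hη⟩ := QuasiSober.sober (isIrreducible_irreducibleComponent (x := z))
    isClosed_irreducibleComponent
  refine ⟨η, hη.specializes mem_irreducibleComponent, ?_⟩
  intro y hy
  have h1 : closure {y} ⊇ irreducibleComponent z := by
    rw [← hη.def]
    exact (specializes_iff_closure_subset.mp hy)
  have h2 : closure ({y} : Set Z) = irreducibleComponent z :=
    eq_irreducibleComponent isIrreducible_singleton.closure.isPreirreducible h1
  have h3 : η ⤳ y := by
    apply hη.specializes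
    rw [← h2]
    exact subset_closure rfl
  exact (hy.antisymm h3).eq

/-- Existence of maximal points of the complement of an open, generizing a given point. -/
theorem exists_maximal_not_mem {X : Scheme.{u}} (W : X.Opens) (z : X) (hz : z ∉ W) :
    ∃ x : X, x ⤳ z ∧ x ∉ W ∧ ∀ y : X, y ⤳ x → y ∉ W → y = x := by
  have hZ : IsClosed ((W : Set X)ᶜ) := W.2.isClosed_compl
  have : QuasiSober ((W : Set X)ᶜ : Set X) := hZ.isClosedEmbedding_subtypeVal.quasiSober
  obtain ⟨⟨η, hη⟩, h1, h2⟩ := exists_maximal_specializes (⟨z, hz⟩ : ((W : Set X)ᶜ : Set X))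
  refine ⟨η, h1.map continuous_subtype_val, hη, ?_⟩
  intro y hy hyW
  exact congrArg Subtype.val (h2 ⟨y, hyW⟩ (Topology.IsInducing.subtypeVal.specializes_iff.mp hy))

end Groth.Agent.Pi1B.ExtBasic2
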