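import Groth.Agent.Pi1B.ExtBasic2
import Groth.Agent.Pi1A.ExtNhd
import Groth.Agent.S0247
import Mathlib.AlgebraicGeometry.Cover.Directed

set_option autoImplicit false
universe u

open CategoryTheory CategoryTheory.Limits AlgebraicGeometry TopologicalSpace

namespace Groth.Agent.Pi1B.ExtStep

open Groth.Agent.Pi1A.FEtGlue

variable {X : Scheme.{u}}

/-- The range of the base change of an open to a local scheme. -/
lemma mem_range_snd (W : X.Opens) (x : X) (p : Spec (X.presheaf.stalk x)) :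
    p ∈ Set.range (pullback.snd W.ι (X.fromSpecStalk x)) ↔ X.fromSpecStalk x p ∈ W := by
  rw [IsOpenImmersion.range_pullbackSnd]
  change X.fromSpecStalk x p ∈ W.ι.opensRange ↔ _
  rw [Scheme.Opens.opensRange_ι]

lemma fromSpecStalk_specializes (x : X) (p : Spec (X.presheaf.stalk x)) :
    X.fromSpecStalk x p ⤳ x := by
  have : X.fromSpecStalk x p ∈ Set.range (X.fromSpecStalk x) := ⟨p, rfl⟩
  rwa [Scheme.range_fromSpecStalk] at this

/-- The range of the punctured local scheme. -/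
lemma mem_range_snd_iff (W : X.Opens) (x : X) (hx : x ∉ W) (hmax : ∀ y : X, y ⤳ x → y ∉ W → y = x)
    (p : Spec (X.presheaf.stalk x)) :
    p ∈ Set.range (pullback.snd W.ι (X.fromSpecStalk x)) ↔
      p ≠ (IsLocalRing.closedPoint (X.presheaf.stalk x)) := by
  rw [mem_range_snd]
  constructor
  · rintro h rfl
    erw [Scheme.fromSpecStalk_closedPoint] at h
    exact hx h
  · intro hp
    by_contra hW
    have h2 := hmax _ (fromSpecStalk_specializes x p) hW
    apply hp
    have hinj : Function.Injective (X.fromSpecStalk x) := (X.fromSpecStalk x).isEmbedding.injective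
    apply hinj
    erw [h2, Scheme.fromSpecStalk_closedPoint]

/-- Purity at a maximal point of the complement. -/
lemma essSurj_of_purity (W : X.Opens) (x : X) (hx : x ∉ W) (hmax : ∀ y : X, y ⤳ x → y ∉ W → y = x)
    (hp : FEt.PurityHolds (X.presheaf.stalk x)) :
    (FEt.restrict (pullback.snd W.ι (X.fromSpecStalk x))).EssSurj := by
  let ι : (FEt.puncturedSpec (X.presheaf.stalk x) : Scheme.{u}) ⟶ Spec (X.presheaf.stalk x) :=
    (FEt.puncturedSpec (X.presheaf.stalk x)).ι
  have hr : Set.range (pullback.snd W.ι (X.fromSpecStalk x)) = Set.range ι := by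
    ext p
    rw [mem_range_snd_iff W x hx hmax]
    erw [Scheme.Opens.range_ι (FEt.puncturedSpec (X.presheaf.stalk x))]
    rfl
  let e : pullback W.ι (X.fromSpecStalk x) ≅ (FEt.puncturedSpec (X.presheaf.stalk x) : Scheme.{u}) :=
    IsOpenImmersion.isoOfRangeEq (pullback.snd W.ι (X.fromSpecStalk x)) ι hr
  have he : e.hom ≫ ι = pullback.snd W.ι (X.fromSpecStalk x) :=
    IsOpenImmersion.isoOfRangeEq_hom_fac _ _ _
  refine essSurj_of_arrowIso (Arrow.isoMk e (Iso.refl _) ?_) hp
  exact he.trans (Category.comp_id _).symm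

/-- The transition morphism between base changes of opens. -/
noncomputable def kk {U W : X.Opens} (h : U ≤ W) {S : Scheme.{u}} (g : S ⟶ X) :
    pullback U.ι g ⟶ pullback W.ι g :=
  pullback.lift (pullback.fst _ _ ≫ X.homOfLE h) (pullback.snd _ _) (by simp [pullback.condition])

@[reassoc (attr := simp)]
lemma kk_fst {U W : X.Opens} (h : U ≤ W) {S : Scheme.{u}} (g : S ⟶ X) :
    kk h g ≫ pullback.fst _ _ = pullback.fst _ _ ≫ X.homOfLE h := pullback.lift_fst _ _ _

@[reassoc (attr := simp)]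
lemma kk_snd {U W : X.Opens} (h : U ≤ W) {S : Scheme.{u}} (g : S ⟶ X) :
    kk h g ≫ pullback.snd _ _ = pullback.snd _ _ := pullback.lift_snd _ _ _

lemma isIso_kk {U W : X.Opens} (h : U ≤ W) {S : Scheme.{u}} (g : S ⟶ X)
    (hr : Set.range (pullback.snd U.ι g) = Set.range (pullback.snd W.ι g)) : IsIso (kk h g) := by
  have h1 : kk h g = (IsOpenImmersion.isoOfRangeEq (pullback.snd U.ι g) (pullback.snd W.ι g) hr).hom := by
    rw [← cancel_mono (pullback.snd W.ι g), kk_snd, IsOpenImmersion.isoOfRangeEq_hom_fac]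
  rw [h1]
  infer_instance

/-- Transport of an extension over a local scheme from an open to a bigger open. -/
lemma transport {U W : X.Opens} (h : U ≤ W) {S : Scheme.{u}} (g : S ⟶ X)
    (hr : Set.range (pullback.snd U.ι g) = Set.range (pullback.snd W.ι g))
    (Y : FEt.Cat (U : Scheme.{u})) (V : FEt.Cat (W : Scheme.{u}))
    (r : (FEt.restrict (X.homOfLE h)).obj V ≅ Y) (Yx : FEt.Cat S)
    (e : (FEt.restrict (pullback.snd U.ι g)).obj Yx ≅ (FEt.restrict (pullback.fst U.ι g)).obj Y) :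
    Nonempty ((FEt.restrict (pullback.snd W.ι g)).obj Yx ≅ (FEt.restrict (pullback.fst W.ι g)).obj V) := by
  have := isIso_kk h g hr
  refine ⟨(FEt.restrict (kk h g)).preimageIso ?_⟩
  exact ((restrictComp (kk h g) (pullback.snd W.ι g)).symm.app Yx) ≪≫
    (restrictCongr (kk_snd h g)).app Yx ≪≫ e ≪≫ (FEt.restrict (pullback.fst U.ι g)).mapIso r.symm ≪≫
    ((restrictComp (pullback.fst U.ι g) (X.homOfLE h)).symm.app V) ≪≫
    (restrictCongr (kk_fst h g).symm).app V ≪≫ (restrictComp (kk h g) (pullback.fst W.ι g)).app V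

/-- `Y` extends from `U` to the bigger open `W`. -/
def Ext {U : X.Opens} (Y : FEt.Cat (U : Scheme.{u})) (W : X.Opens) : Prop :=
  ∃ (h : U ≤ W) (V : FEt.Cat (W : Scheme.{u})), Nonempty ((FEt.restrict (X.homOfLE h)).obj V ≅ Y)

lemma Ext.refl {U : X.Opens} (Y : FEt.Cat (U : Scheme.{u})) : Ext Y U :=
  ⟨le_rfl, Y, ⟨(restrictCongr (by simp)).app Y ≪≫ (restrictId (U : Scheme.{u})).app Y⟩⟩

/-- One step extension at a maximal point of the complement. -/
lemma Ext.step [IsLocallyNoetherian X] {U : X.Opens} (hU : Dense (U : Set X)) {Y : FEt.Cat (U : Scheme.{u})}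
    (hreg : ∀ x : X, x ∉ U → IsRegularLocalRing (X.presheaf.stalk x))
    (hunr : ∀ ξ : X, ξ ∉ U → ringKrullDim (X.presheaf.stalk ξ) = 1 →
      ∃ Yξ : FEt.Cat (Spec (X.presheaf.stalk ξ)),
        Nonempty ((FEt.restrict (pullback.snd U.ι (X.fromSpecStalk ξ))).obj Yξ ≅
          (FEt.restrict (pullback.fst U.ι (X.fromSpecStalk ξ))).obj Y))
    {W : X.Opens} (hW : Ext Y W) (x : X) (hx : x ∉ W) (hmax : ∀ y : X, y ⤳ x → y ∉ W → y = x) :
    ∃ W' : X.Opens, W ≤ W' ∧ x ∈ W' ∧ Ext Y W' := by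
  obtain ⟨hUW, V, ⟨r⟩⟩ := hW
  have hxU : x ∉ U := fun h => hx (hUW h)
  have hregx := hreg x hxU
  have hdomx : IsDomain (X.presheaf.stalk x) := Groth.Agent.S0558.result _
  have key : ∃ Yx : FEt.Cat (Spec (X.presheaf.stalk x)),
      Nonempty ((FEt.restrict (pullback.snd W.ι (X.fromSpecStalk x))).obj Yx ≅
        (FEt.restrict (pullback.fst W.ι (X.fromSpecStalk x))).obj V) := by
    rcases lt_trichotomy (ringKrullDim (X.presheaf.stalk x)) 1 with h | h | h
    · -- dimension zero
      exfalso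
      apply hxU
      apply ExtBasic2.mem_of_dim_zero U hU x hdomx
      rw [ringKrullDim_stalk_eq_coheight] at h ⊢
      norm_cast at h ⊢
      exact Order.lt_one_iff.mp h
    · -- dimension one
      obtain ⟨Yx, ⟨e⟩⟩ := hunr x hxU h
      have hmaxU : ∀ y : X, y ⤳ x → y ∉ U → y = x := by
        intro y hy hyU
        by_contra hne
        apply hyU
        have hregy := hreg y hyU
        have hdomy : IsDomain (X.presheaf.stalk y) := Groth.Agent.S0558.result _
        apply ExtBasic2.mem_of_dim_zero U hU y hdomy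
        have h1 : x ≤ y := hy
        have h2 : x < y := lt_of_le_not_ge h1 fun h3 => hne (hy.antisymm h3).eq
        rw [ringKrullDim_stalk_eq_coheight] at h ⊢
        norm_cast at h ⊢
        have h4 : Order.coheight y ≤ Order.coheight x := Order.coheight_anti h1
        have h3 := Order.coheight_strictAnti h2 (by
          rw [h] at h4; exact lt_of_le_of_lt h4 (by exact ENat.natCast_lt_top 1))
        rw [h] at h3
        exact Order.lt_one_iff.mp h3
      refine ⟨Yx, transport hUW (X.fromSpecStalk x) ?_ Y V r Yx e⟩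
      ext p
      rw [mem_range_snd_iff U x hxU hmaxU, mem_range_snd_iff W x hx hmax]
    · -- dimension at least two
      have h2 : (2 : WithBot ℕ∞) ≤ ringKrullDim (X.presheaf.stalk x) := by
        rw [ringKrullDim_stalk_eq_coheight] at h ⊢
        norm_cast at h
        have h3 : (2 : ℕ∞) ≤ Order.coheight x := Order.add_one_le_of_lt h
        exact WithBot.coe_le_coe.mpr h3
      have := essSurj_of_purity W x hx hmax (Groth.Agent.S0247.result _ h2)
      exact ⟨_, ⟨(FEt.restrict (pullback.snd W.ι (X.fromSpecStalk x))).objObjPreimageIso _⟩⟩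
  obtain ⟨Yx, ⟨e⟩⟩ := key
  obtain ⟨W', hWW', V', hxW', ⟨r'⟩⟩ := Groth.Agent.Pi1A.ExtNhd.exists_extension_nhd W V x Yx e
  refine ⟨W', hWW', hxW', hUW.trans hWW', V', ⟨?_⟩⟩
  exact (restrictCongr (by simp)).app V' ≪≫ (restrictComp (X.homOfLE hUW) (X.homOfLE hWW')).app V' ≪≫
    (FEt.restrict (X.homOfLE hUW)).mapIso r' ≪≫ r

/-- Extension to an open containing a given Noetherian open. -/
lemma Ext.exists_ge [IsLocallyNoetherian X] {U : X.Opens} (hU : Dense (U : Set X)) {Y : FEt.Cat (U : Scheme.{u})}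
    (hreg : ∀ x : X, x ∉ U → IsRegularLocalRing (X.presheaf.stalk x))
    (hunr : ∀ ξ : X, ξ ∉ U → ringKrullDim (X.presheaf.stalk ξ) = 1 →
      ∃ Yξ : FEt.Cat (Spec (X.presheaf.stalk ξ)),
        Nonempty ((FEt.restrict (pullback.snd U.ι (X.fromSpecStalk ξ))).obj Yξ ≅
          (FEt.restrict (pullback.fst U.ι (X.fromSpecStalk ξ))).obj Y))
    (X' : X.Opens) [NoetherianSpace (X' : Scheme.{u})] : ∃ W : X.Opens, X' ≤ W ∧ Ext Y W := by
  have hwf : WellFounded ((· > ·) : (X' : Scheme.{u}).Opens → (X' : Scheme.{u}).Opens → Prop) :=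
    wellFounded_gt
  have hwf' := InvImage.wf (fun W : X.Opens => X'.ι ⁻¹ᵁ W) hwf
  obtain ⟨W, hW, hmin⟩ := hwf'.has_min {W : X.Opens | Ext Y W} ⟨U, Ext.refl Y⟩
  refine ⟨W, ?_, hW⟩
  by_contra hcon
  obtain ⟨z, hz, hzW⟩ := Set.not_subset.mp hcon
  obtain ⟨x, hxz, hxW, hmax⟩ := ExtBasic2.exists_maximal_not_mem W z hzW
  have hxX' : x ∈ X' := hxz.mem_open X'.2 hz
  obtain ⟨W', hWW', hxW', hW'⟩ := Ext.step hU hreg hunr hW x hxW hmax
  apply hmin W' hW'
  change X'.ι ⁻¹ᵁ W < X'.ι ⁻¹ᵁ W'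
  refine lt_of_le_of_ne (fun a ha => hWW' ha) ?_
  intro heq
  apply hxW
  have h1 : (⟨x, hxX'⟩ : X') ∈ X'.ι ⁻¹ᵁ W' := hxW'
  rw [← heq] at h1
  exact h1

lemma fullyFaithful_snd [IsLocallyNoetherian X] {U : X.Opens} (hU : Dense (U : Set X))
    (hreg : ∀ x : X, x ∉ U → IsRegularLocalRing (X.presheaf.stalk x)) {X' : Scheme.{u}} (j : X' ⟶ X)
    [IsOpenImmersion j] : (FEt.restrict (pullback.snd U.ι j)).Full ∧ (FEt.restrict (pullback.snd U.ι j)).Faithful := by
  have : IsLocallyNoetherian X' := LocallyOfFiniteType.isLocallyNoetherian j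
  have hmem : ∀ x : X', x ∈ Set.range (pullback.snd U.ι j) ↔ j x ∈ U := by
    intro x
    rw [IsOpenImmersion.range_pullbackSnd]
    change j x ∈ U.ι.opensRange ↔ _
    rw [Scheme.Opens.opensRange_ι]
  apply ExtBasic2.restrict_fullyFaithful_of_isOpenImmersion
  · intro x hx
    have h1 := hreg (j x) (fun h => hx ((hmem x).mpr h))
    exact (Groth.Agent.S0065.result j x).mpr h1
  · intro x
    rw [mem_closure_iff]
    intro O hO hxO
    have h2 : IsOpen (j '' O) := j.isOpenEmbedding.isOpenMap _ hO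
    obtain ⟨y, ⟨z, hz, rfl⟩, hyU⟩ := hU.inter_open_nonempty _ h2 ⟨_, x, hxO, rfl⟩
    exact ⟨z, hz, (hmem z).mpr hyU⟩

/-- Extension of finite étale covers across a regular complement (Stacks 0H2W). -/
theorem exists_extension [IsLocallyNoetherian X] (U : X.Opens) (hU : Dense (U : Set X)) (Y : FEt.Cat (U : Scheme.{u}))
    (hreg : ∀ x : X, x ∉ U → IsRegularLocalRing (X.presheaf.stalk x))
    (hunr : ∀ ξ : X, ξ ∉ U → ringKrullDim (X.presheaf.stalk ξ) = 1 →
      ∃ Yξ : FEt.Cat (Spec (X.presheaf.stalk ξ)),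
        Nonempty ((FEt.restrict (pullback.snd U.ι (X.fromSpecStalk ξ))).obj Yξ ≅
          (FEt.restrict (pullback.fst U.ι (X.fromSpecStalk ξ))).obj Y)) :
    ∃ Y' : FEt.Cat X, Nonempty ((FEt.restrict U.ι).obj Y' ≅ Y) := by
  have key : ∀ X' : X.affineOpens, ∃ (W : X.Opens) (_ : X'.1 ≤ W) (hUW : U ≤ W) (V : FEt.Cat (W : Scheme.{u})),
      Nonempty ((FEt.restrict (X.homOfLE hUW)).obj V ≅ Y) := by
    intro X'
    have : IsNoetherianRing Γ(X, X'.1) := IsLocallyNoetherian.component_noetherian X'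
    have : NoetherianSpace (X'.1 : Scheme.{u}) := noetherianSpace_of_isAffineOpen _ X'.2
    obtain ⟨W, h1, h2, V, h3⟩ := Ext.exists_ge hU hreg hunr X'.1
    exact ⟨W, h1, h2, V, h3⟩
  choose W hXW hUW V r using key
  let α : ∀ i : X.directedAffineCover.I₀, (FEt.restrict (pullback.snd U.ι (X.directedAffineCover.f i))).obj
      ((FEt.restrict (X.homOfLE (hXW i))).obj (V i)) ≅
      (FEt.restrict (pullback.fst U.ι (X.directedAffineCover.f i))).obj Y := fun i =>
    (restrictComp (pullback.snd U.ι i.1.ι) (X.homOfLE (hXW i))).symm.app (V i) ≪≫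
    (restrictCongr (by
      rw [← cancel_mono (W i).ι]
      simp [pullback.condition])).app (V i) ≪≫
    (restrictComp (pullback.fst U.ι i.1.ι) (X.homOfLE (hUW i))).app (V i) ≪≫
    (FEt.restrict (pullback.fst U.ι i.1.ι)).mapIso (r i).some
  have hF : ∀ i : X.directedAffineCover.I₀, (FEt.restrict (pullback.snd U.ι (X.directedAffineCover.f i))).Full :=
    fun i => (fullyFaithful_snd hU hreg _).1
  have hF' : ∀ i : X.directedAffineCover.I₀, (FEt.restrict (pullback.snd U.ι (X.directedAffineCover.f i))).Faithful :=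
    fun i => (fullyFaithful_snd hU hreg _).2
  exact ⟨_, restrict_glued U.ι X.directedAffineCover Y _ α⟩

end Groth.Agent.Pi1B.ExtStep
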