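/-
`Aut (fiber ξ) ≃* Gal(Kbar/K)` for finite etale covers of `Spec K`.
-/
import Groth.Agent.Pi1B.FieldGal
import Mathlib.FieldTheory.PurelyInseparable.Basic

set_option autoImplicit false
universe u

open AlgebraicGeometry CategoryTheory CategoryTheory.Limits

namespace Groth.Agent.Pi1B.FieldGal

variable (K : Type u) [Field K]

lemma exists_sub (S : Set (AlgebraicClosure K)) [hfin : Finite S]
    (hS : S ⊆ separableClosure K (AlgebraicClosure K)) :
    ∃ (L : IntermediateField K (AlgebraicClosure K)) (_ : FiniteDimensional K L)
      (_ : Algebra.IsSeparable K L), S ⊆ L := by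
  refine ⟨IntermediateField.adjoin K S,
    IntermediateField.finiteDimensional_adjoin
      (fun x _ => (Algebra.IsAlgebraic.isAlgebraic x).isIntegral),
    (le_separableClosure_iff K (AlgebraicClosure K) _).mp (IntermediateField.adjoin_le_iff.mpr hS),
    IntermediateField.subset_adjoin K S⟩

/-- Two automorphisms agreeing on the separable closure agree. -/
lemma algHom_ext_of_separableClosure (f g : AlgebraicClosure K →ₐ[K] AlgebraicClosure K)
    (h : ∀ x ∈ separableClosure K (AlgebraicClosure K), f x = g x) : f = g := by
  have := IsPurelyInseparable.injective_comp_algebraMap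
    (separableClosure K (AlgebraicClosure K)) (AlgebraicClosure K) (AlgebraicClosure K)
  have h2 : f.toRingHom = g.toRingHom := by
    apply this
    ext x
    exact h x x.2
  ext x
  exact DFunLike.congr_fun h2 x

/-- Two elements of the Galois group agreeing on all finite separable subextensions agree. -/
lemma gHom_ext (g h : Field.absoluteGaloisGroup K)
    (H : ∀ (L : IntermediateField K (AlgebraicClosure K)) (_ : FiniteDimensional K L)
      (_ : Algebra.IsSeparable K L) (x : L), gHom K g x = gHom K h x) : g = h := by
  have h1 : gHom K g = gHom K h := by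
    apply algHom_ext_of_separableClosure
    intro x hx
    obtain ⟨L, h1, h2, h3⟩ := exists_sub K {x} (by simpa using hx)
    exact H L h1 h2 ⟨x, h3 rfl⟩
  apply AlgEquiv.ext
  intro x
  exact DFunLike.congr_fun h1 x

lemma toAut_injective : Function.Injective (toAut K) := by
  intro g h hgh
  apply gHom_ext
  intro L _ _ x
  have h1 : g • (pt K L L.val) = h • (pt K L L.val) := by
    have := congrArg (fun t : Aut (FEt.fiber (geomPt K)) => t.hom.app (mkSpec K L) (pt K L L.val)) hgh
    exact this
  rw [smul_pt, smul_pt] at h1
  have h2 := pt_injective K L h1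
  exact DFunLike.congr_fun h2 x

section surj

variable (t : Aut (FEt.fiber (geomPt K)))

/-- The embedding of `L` obtained from the inclusion by an automorphism of the fibre functor. -/
noncomputable def sig (L : IntermediateField K (AlgebraicClosure K)) [FiniteDimensional K L]
    [Algebra.IsSeparable K L] : L →ₐ[K] AlgebraicClosure K :=
  (pt_surjective K L (t.hom.app (mkSpec K L) (pt K L L.val))).choose

lemma pt_sig (L : IntermediateField K (AlgebraicClosure K)) [FiniteDimensional K L]
    [Algebra.IsSeparable K L] : pt K L (sig K t L) = t.hom.app (mkSpec K L) (pt K L L.val) :=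
  (pt_surjective K L (t.hom.app (mkSpec K L) (pt K L L.val))).choose_spec

lemma sig_comp {L L' : IntermediateField K (AlgebraicClosure K)} [FiniteDimensional K L]
    [Algebra.IsSeparable K L] [FiniteDimensional K L'] [Algebra.IsSeparable K L'] (h : L ≤ L') :
    (sig K t L').comp (IntermediateField.inclusion h) = sig K t L := by
  apply pt_injective K L
  rw [← map_pt, pt_sig, pt_sig]
  have h1 := ConcreteCategory.congr_hom (t.hom.naturality (mkHom K (IntermediateField.inclusion h)))
    (pt K L' L'.val)
  change (FEt.fiber (geomPt K)).map (mkHom K (IntermediateField.inclusion h))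
    (t.hom.app (mkSpec K L') (pt K L' L'.val)) = _
  refine Eq.trans h1.symm ?_
  change t.hom.app (mkSpec K L) ((FEt.fiber (geomPt K)).map (mkHom K (IntermediateField.inclusion h))
    (pt K L' L'.val)) = _
  rw [map_pt]
  rfl

lemma sig_eq {L L' : IntermediateField K (AlgebraicClosure K)} [FiniteDimensional K L]
    [Algebra.IsSeparable K L] [FiniteDimensional K L'] [Algebra.IsSeparable K L']
    (x : AlgebraicClosure K) (hx : x ∈ L) (hx' : x ∈ L') :
    sig K t L ⟨x, hx⟩ = sig K t L' ⟨x, hx'⟩ := by
  have h1 := sig_comp K t (le_sup_left : L ≤ L ⊔ L')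
  have h2 := sig_comp K t (le_sup_right : L' ≤ L ⊔ L')
  rw [← h1, ← h2]
  rfl

/-- A chosen finite separable subextension containing a separable element. -/
noncomputable def fld (x : separableClosure K (AlgebraicClosure K)) :
    IntermediateField K (AlgebraicClosure K) :=
  (exists_sub K {x.1} (by simp)).choose

instance (x : separableClosure K (AlgebraicClosure K)) : FiniteDimensional K (fld K x) :=
  (exists_sub K {x.1} (by simp)).choose_spec.choose

instance (x : separableClosure K (AlgebraicClosure K)) : Algebra.IsSeparable K (fld K x) :=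
  (exists_sub K {x.1} (by simp)).choose_spec.choose_spec.choose

lemma mem_fld (x : separableClosure K (AlgebraicClosure K)) : x.1 ∈ fld K x :=
  (exists_sub K {x.1} (by simp)).choose_spec.choose_spec.choose_spec rfl

lemma sig_fld (x : separableClosure K (AlgebraicClosure K))
    (L : IntermediateField K (AlgebraicClosure K)) [FiniteDimensional K L]
    [Algebra.IsSeparable K L] (hx : x.1 ∈ L) :
    sig K t (fld K x) ⟨x.1, mem_fld K x⟩ = sig K t L ⟨x.1, hx⟩ := sig_eq K t _ _ _

/-- The embedding of the separable closure attached to an automorphism of the fibre functor. -/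
noncomputable def sigS : separableClosure K (AlgebraicClosure K) →ₐ[K] AlgebraicClosure K where
  toFun x := sig K t (fld K x) ⟨x.1, mem_fld K x⟩
  map_one' := (sig K t (fld K 1)).map_one
  map_zero' := (sig K t (fld K 0)).map_zero
  map_mul' x y := by
    obtain ⟨L, h1, h2, h3⟩ := exists_sub K {x.1, y.1} (by
      rintro _ (rfl | rfl)
      · exact x.2
      · exact y.2)
    have hx : x.1 ∈ L := h3 (by simp)
    have hy : y.1 ∈ L := h3 (by simp)
    have hxy : (x * y).1 ∈ L := L.mul_mem hx hy
    rw [sig_fld K t x L hx, sig_fld K t y L hy, sig_fld K t (x * y) L hxy]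
    exact (sig K t L).map_mul ⟨x.1, hx⟩ ⟨y.1, hy⟩
  map_add' x y := by
    obtain ⟨L, h1, h2, h3⟩ := exists_sub K {x.1, y.1} (by
      rintro _ (rfl | rfl)
      · exact x.2
      · exact y.2)
    have hx : x.1 ∈ L := h3 (by simp)
    have hy : y.1 ∈ L := h3 (by simp)
    have hxy : (x + y).1 ∈ L := L.add_mem hx hy
    rw [sig_fld K t x L hx, sig_fld K t y L hy, sig_fld K t (x + y) L hxy]
    exact (sig K t L).map_add ⟨x.1, hx⟩ ⟨y.1, hy⟩
  commutes' r := (sig K t (fld K _)).commutes r

/-- The element of the Galois group attached to an automorphism of the fibre functor. -/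
noncomputable def sigG : Field.absoluteGaloisGroup K :=
  AlgEquiv.ofBijective ((sigS K t).liftNormal (AlgebraicClosure K))
    (AlgHom.normal_bijective K (AlgebraicClosure K) (AlgebraicClosure K) _)

lemma gHom_sigG (L : IntermediateField K (AlgebraicClosure K)) [FiniteDimensional K L]
    [Algebra.IsSeparable K L] : (gHom K (sigG K t)).comp L.val = sig K t L := by
  ext x
  have hx : x.1 ∈ separableClosure K (AlgebraicClosure K) :=
    (le_separableClosure_iff K (AlgebraicClosure K) L).mpr inferInstance x.2
  have h1 : gHom K (sigG K t) x.1 = sigS K t ⟨x.1, hx⟩ :=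
    AlgHom.liftNormal_commutes (sigS K t) (AlgebraicClosure K) ⟨x.1, hx⟩
  change gHom K (sigG K t) x.1 = _
  rw [h1]
  exact sig_fld K t ⟨x.1, hx⟩ L x.2

lemma toAut_sigG : toAut K (sigG K t) = t := by
  apply Iso.ext
  apply NatTrans.ext
  funext Y
  obtain ⟨A, _, _, _, _, ⟨e⟩⟩ := exists_iso_mkSpec K Y
  have key : ∀ s : (FEt.fiber (geomPt K)).obj (mkSpec K A),
      (toAut K (sigG K t)).hom.app (mkSpec K A) s = t.hom.app (mkSpec K A) s := by
    intro s
    obtain ⟨f, rfl⟩ := pt_surjective K A s
    obtain ⟨L, _, _, f', rfl⟩ := exists_factor K A f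
    refine (smul_pt K A (sigG K t) (L.val.comp f')).trans ?_
    rw [← AlgHom.comp_assoc, gHom_sigG, ← map_pt K f' (sig K t L), pt_sig]
    have h1 := ConcreteCategory.congr_hom (t.hom.naturality (mkHom K f')) (pt K L L.val)
    refine Eq.trans h1.symm ?_
    change t.hom.app (mkSpec K A) ((FEt.fiber (geomPt K)).map (mkHom K f') (pt K L L.val)) = _
    rw [map_pt]
  have key' : (toAut K (sigG K t)).hom.app (mkSpec K A) = t.hom.app (mkSpec K A) := by
    ext s
    exact key s
  have n1 := (toAut K (sigG K t)).hom.naturality e.hom
  have n2 := t.hom.naturality e.hom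
  rw [key'] at n1
  have n3 := n1.symm.trans n2
  have : IsIso ((FEt.fiber (geomPt K)).map e.hom) := inferInstance
  exact (cancel_mono _).mp n3

end surj

lemma toAut_bijective : Function.Bijective (toAut K) :=
  ⟨toAut_injective K, fun t => ⟨sigG K t, toAut_sigG K t⟩⟩

/-- `Gal(Kbar/K) ≃* π₁(Spec K)`. -/
noncomputable def galEquiv : Field.absoluteGaloisGroup K ≃* Aut (FEt.fiber (geomPt K)) :=
  MulEquiv.ofBijective (toAut K) (toAut_bijective K)

end Groth.Agent.Pi1B.FieldGal
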