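/-
Finite etale covers of `Spec K` = finite continuous `Gal(Kbar/K)`-sets, given the Galois category
structure on finite etale covers of `Spec K`.
-/
import Groth.Agent.Pi1B.FieldGal2
import Mathlib.CategoryTheory.Galois.Equivalence
import Mathlib.FieldTheory.KrullTopology

set_option autoImplicit false
universe u

open AlgebraicGeometry CategoryTheory CategoryTheory.Limits

namespace Groth.Agent.Pi1B.FieldGal

open PreGaloisCategory

section

variable (K : Type u) [Field K]
  (F : FEt.Cat (Spec (CommRingCat.of K)) ⥤ FintypeCat.{u})
  (e : F ⋙ FintypeCat.incl ≅ FEt.fiber (geomPt K))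

/-- Automorphisms of the finite-set valued fibre functor are the Galois group (as groups). -/
noncomputable def autEquiv : Aut F ≃* Field.absoluteGaloisGroup K :=
  ((((Functor.FullyFaithful.ofFullyFaithful FintypeCat.incl).whiskeringRight
    (FEt.Cat (Spec (CommRingCat.of K)))).autMulEquivOfFullyFaithful F).trans
    e.conjAut).trans (galEquiv K).symm

lemma autEquiv_smul (t : Aut F) (Y : FEt.Cat (Spec (CommRingCat.of K))) (s : F.obj Y) :
    autEquiv K F e t • (e.hom.app Y s : (FEt.fiber (geomPt K)).obj Y) =
      e.hom.app Y (t.hom.app Y s) := by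
  have h1 : galEquiv K (autEquiv K F e t) =
      e.conjAut ((((Functor.FullyFaithful.ofFullyFaithful FintypeCat.incl).whiskeringRight
    (FEt.Cat (Spec (CommRingCat.of K)))).autMulEquivOfFullyFaithful F) t) := by
    simp [autEquiv]
  have h2 := congrArg (fun r : Aut (FEt.fiber (geomPt K)) => r.hom.app Y (e.hom.app Y s)) h1
  refine Eq.trans h2 ?_
  change e.hom.app Y (t.hom.app Y (e.inv.app Y (e.hom.app Y s))) = _
  have h3 : e.inv.app Y (e.hom.app Y s) = s :=
    ConcreteCategory.congr_hom (e.hom_inv_id_app Y) s
  rw [h3]

/-- An element of the Galois group fixing the separable part of a finite extension fixes it. -/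
lemma fixes_of_fixes_separable (E : IntermediateField K (AlgebraicClosure K))
    (g : Field.absoluteGaloisGroup K)
    (h : ∀ x ∈ E ⊓ separableClosure K (AlgebraicClosure K), gHom K g x = x) :
    ∀ x ∈ E, gHom K g x = x := by
  intro x hx
  let q := ringExpChar K
  have : ExpChar K q := inferInstance
  have : ExpChar (separableClosure K (AlgebraicClosure K)) q :=
    expChar_of_injective_algebraMap (algebraMap K _).injective q
  have : ExpChar (AlgebraicClosure K) q :=
    expChar_of_injective_algebraMap (algebraMap K _).injective q
  obtain ⟨n, ⟨y, hy⟩⟩ := IsPurelyInseparable.pow_mem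
    (separableClosure K (AlgebraicClosure K)) q x
  have h1 : x ^ q ^ n ∈ E ⊓ separableClosure K (AlgebraicClosure K) :=
    ⟨pow_mem hx _, by rw [← hy]; exact y.2⟩
  have h2 := h _ h1
  rw [map_pow] at h2
  exact iterateFrobenius_inj (AlgebraicClosure K) q n (by simpa [iterateFrobenius_def] using h2)

lemma continuous_autEquiv : Continuous (autEquiv K F e) := by
  apply continuous_of_continuousAt_one (autEquiv K F e).toMonoidHom
  rw [ContinuousAt, map_one]
  intro U hU
  obtain ⟨E, hE, hE'⟩ := (krullTopology_mem_nhds_one_iff K (AlgebraicClosure K) U).mp hU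
  let L := E ⊓ separableClosure K (AlgebraicClosure K)
  have hLE : L ≤ E := inf_le_left
  have i1 : FiniteDimensional K L :=
    FiniteDimensional.of_injective (IntermediateField.inclusion hLE).toLinearMap
      (IntermediateField.inclusion_injective hLE)
  have i2 : Algebra.IsSeparable K L :=
    (le_separableClosure_iff K (AlgebraicClosure K) L).mp inf_le_right
  let s : F.obj (mkSpec K L) := e.inv.app _ (pt K L L.val)
  have hs : e.hom.app _ s = pt K L L.val :=
    ConcreteCategory.congr_hom (e.inv_hom_id_app (mkSpec K L)) (pt K L L.val)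
  have hopen : IsOpen (MulAction.stabilizer (Aut F) s : Set (Aut F)) := stabilizer_isOpen _ s
  rw [Filter.mem_map]
  refine Filter.mem_of_superset (hopen.mem_nhds (one_mem _)) ?_
  intro t ht
  have ht' : t.hom.app (mkSpec K L) s = s := ht
  have h1 := autEquiv_smul K F e t (mkSpec K L) s
  rw [ht', hs] at h1
  have h2 := pt_injective K L ((smul_pt K L _ L.val).symm.trans h1)
  apply hE'
  have h3 := fixes_of_fixes_separable K E (autEquiv K F e t)
    (fun x hx => DFunLike.congr_fun h2 ⟨x, hx⟩)
  change (show AlgebraicClosure K ≃ₐ[K] AlgebraicClosure K from autEquiv K F e t) ∈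
    E.fixingSubgroup
  rw [IntermediateField.mem_fixingSubgroup_iff]
  exact h3

/-- Automorphisms of the finite-set valued fibre functor are the Galois group (as topological
groups). -/
noncomputable def autCEquiv : Aut F ≃ₜ* Field.absoluteGaloisGroup K where
  __ := autEquiv K F e
  continuous_toFun := continuous_autEquiv K F e
  continuous_invFun := by
    have : T2Space (Field.absoluteGaloisGroup K) :=
      krullTopology_t2 (K := K) (L := AlgebraicClosure K)
    exact Continuous.continuous_symm_of_equiv_compact_to_t2
      (f := (autEquiv K F e).toEquiv) (continuous_autEquiv K F e)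

end

/-- The Galois category description of finite etale covers of a field. -/
theorem nonempty_equiv (K : Type u) [Field K]
    [PreGaloisCategory (FEt.Cat (Spec (CommRingCat.of K)))]
    (F : FEt.Cat (Spec (CommRingCat.of K)) ⥤ FintypeCat.{u}) [FiberFunctor F]
    (e : F ⋙ FintypeCat.incl ≅ FEt.fiber (geomPt K)) :
    Nonempty (FEt.Cat (Spec (CommRingCat.of K)) ≌
    open scoped FintypeCatDiscrete in
    ContAction FintypeCat.{u} (Field.absoluteGaloisGroup K)) := by
  have : GaloisCategory (FEt.Cat (Spec (CommRingCat.of K))) :=
    ⟨⟨F, ⟨inferInstance⟩⟩⟩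
  open scoped FintypeCatDiscrete in
  exact ⟨(functorToContAction F).asEquivalence.trans
    (ContAction.resEquiv FintypeCat.{u} (autCEquiv K F e).symm)⟩

end Groth.Agent.Pi1B.FieldGal
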