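import Mathlib.AlgebraicGeometry.ZariskisMainTheorem
import Mathlib.AlgebraicGeometry.Morphisms.Integral
import Mathlib.AlgebraicGeometry.Morphisms.Etale
import Mathlib.AlgebraicGeometry.Morphisms.Proper
import Mathlib.AlgebraicGeometry.Morphisms.QuasiFinite
import Groth.Prelude.Def_FEt
import Groth.Agent.Desc.LQF

set_option autoImplicit false

universe u

open CategoryTheory CategoryTheory.Limits AlgebraicGeometry

namespace Groth.Agent.Pi1B.FinDesc

/-- An étale morphism which becomes finite after base change along a surjective separated
universally closed morphism is finite. -/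
theorem isFinite_of_pullback {X Y V : Scheme.{u}} (f : X ⟶ Y) [IsSeparated f]
    [UniversallyClosed f] [Surjective f] (v : V ⟶ Y) [Etale v] [IsFinite (pullback.snd v f)] :
    IsFinite v := by
  have h1 : UniversallyClosed (pullback.fst v f ≫ v) := by
    rw [pullback.condition]; infer_instance
  have h2 : UniversallyClosed v := UniversallyClosed.of_comp_surjective (pullback.fst v f) v
  have h3 : IsSeparated (pullback.fst v f ≫ v) := by
    rw [pullback.condition]; infer_instance
  let w := pullback.fst v f ≫ v
  let m : pullback w w ⟶ pullback v v :=
    pullback.map w w v v (pullback.fst v f) (pullback.fst v f) (𝟙 _) (by simp [w]) (by simp [w])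
  have hm : UniversallyClosed m :=
    MorphismProperty.pullbackMap (P := @UniversallyClosed)
      (inferInstance : UniversallyClosed (pullback.fst v f))
      (inferInstance : UniversallyClosed (pullback.fst v f)) rfl rfl
  have hd : pullback.diagonal w ≫ m = pullback.fst v f ≫ pullback.diagonal v := by
    apply pullback.hom_ext <;> simp [m, pullback.map, pullback.lift_fst, pullback.lift_snd]
  have h4 : IsClosed (Set.range (pullback.diagonal v)) := by
    have e1 : Set.range (pullback.diagonal v) = m '' Set.range (pullback.diagonal w) := by
      rw [← Set.range_comp]
      change _ = Set.range (pullback.diagonal w ≫ m)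
      rw [hd]
      change _ = Set.range (pullback.diagonal v ∘ pullback.fst v f)
      rw [Set.range_comp, (pullback.fst v f).surjective.range_eq, Set.image_univ]
    rw [e1]
    exact m.isClosedMap _ (pullback.diagonal w).isClosedEmbedding.isClosed_range
  have h5 : IsSeparated v := ⟨IsClosedImmersion.of_isPreimmersion _ h4⟩
  have h6 : IsProper v := {}
  have h7 : LocallyQuasiFinite v := Groth.Agent.Desc.LQF.of_etale v
  exact IsFinite.of_isProper_of_locallyQuasiFinite v

end Groth.Agent.Pi1B.FinDesc
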