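import Groth.Agent.Pi1B.FlowLift
import Mathlib.RingTheory.AlgebraicIndependent.Transcendental
import Mathlib.Algebra.Polynomial.Taylor
import Mathlib.RingTheory.LocalRing.ResidueField.Basic
import Mathlib.RingTheory.Localization.AtPrime.Basic

/-!
# Flows on local rings of smooth schemes

`D` formally etale over `R[T_1, …, T_n]`, `q` a prime of `D` such that the images of the `T_i` in the
residue field of `q` are algebraically dependent over the image of `R`; then `B = D_q` has a flow
moving the closed point.
-/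

set_option autoImplicit false

open PowerSeries

namespace Groth.Agent.Pi1B.FlowExist

open FlowLift IsLocalRing

universe u

/-- A polynomial vanishing at the power series `a + X`, `a` constant, is zero. -/
theorem eq_zero_of_eval₂_add_X {κ : Type*} [Field κ] (a : κ) (Q : Polynomial κ)
    (h : Q.eval₂ (C (R := κ)) (C a + X) = 0) : Q = 0 := by
  have h1 : ((Polynomial.taylor a Q : Polynomial κ) : κ⟦X⟧) = Q.eval₂ (C (R := κ)) (C a + X) := by
    rw [Polynomial.taylor_apply, Polynomial.comp]
    have h2 := Polynomial.hom_eval₂ Q (Polynomial.C) (Polynomial.coeToPowerSeries.ringHom (R := κ))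
      (Polynomial.X + Polynomial.C a)
    rw [Polynomial.coeToPowerSeries.ringHom_apply] at h2
    rw [h2]
    congr 1
    · ext1 x
      simp
    · simp [add_comm]
  rw [h] at h1
  have h3 : Polynomial.taylor a Q = 0 := by
    apply Polynomial.coe_injective
    rw [h1, Polynomial.coe_zero]
  exact (Polynomial.taylor_injective a) (h3.trans (map_zero _).symm)

variable {R D B κ : Type*} [CommRing R] [CommRing D] [CommRing B] [Field κ] {n : ℕ}
  [Algebra (MvPolynomial (Fin n) R) D]

/-- Existence of a flow moving the closed point. -/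
theorem exists_flow_moving [Algebra.FormallyEtale (MvPolynomial (Fin n) R) D]
    [Algebra D B] (q : Ideal D) [q.IsPrime] [IsLocalization.AtPrime B q] [IsLocalRing B]
    [IsNoetherianRing B] (π : B →+* κ) (hπ : Function.Surjective π)
    (hker : RingHom.ker π = maximalIdeal B)
    (ρ : R →+* κ)
    (hρ : ρ = (π.comp ((algebraMap D B).comp (algebraMap (MvPolynomial (Fin n) R) D))).comp
      MvPolynomial.C)
    (T : Fin n → κ)
    (hT : ∀ i, T i = π (algebraMap D B (algebraMap (MvPolynomial (Fin n) R) D (MvPolynomial.X i))))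
    (hdep : ¬ AlgebraicIndependent ρ.range T) :
    ∃ φ : B →+* B⟦X⟧, (constantCoeff (R := B)).comp φ = RingHom.id B ∧
      ∃ f ∈ maximalIdeal B, φ f ∉ (maximalIdeal B).map (C (R := B)) := by
  classical
  -- choose the direction of the flow
  obtain ⟨t, i, hit, halg⟩ : ∃ (t : Set (Fin n)) (i : Fin n), i ∉ t ∧
      IsAlgebraic (Algebra.adjoin ρ.range (T '' t)) (T i) := by
    by_contra hcon
    push Not at hcon
    refine hdep (algebraicIndependent_of_finite_type' Subtype.val_injective ?_)
    intro t _ _ i hi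
    exact hcon t i hi
  let α : MvPolynomial (Fin n) R →+* B :=
    (algebraMap D B).comp (algebraMap (MvPolynomial (Fin n) R) D)
  let g : MvPolynomial (Fin n) R →+* B⟦X⟧ :=
    MvPolynomial.eval₂Hom ((C (R := B)).comp (α.comp MvPolynomial.C))
      (fun j => C (α (MvPolynomial.X j)) + if j = i then X else 0)
  have hgC : ∀ r, g (MvPolynomial.C r) = C (α (MvPolynomial.C r)) := fun r => by simp [g]
  have hgX : ∀ j, g (MvPolynomial.X j) = C (α (MvPolynomial.X j)) + if j = i then X else 0 :=
    fun j => by simp [g]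
  have hg : (algebraMap D B).comp (algebraMap (MvPolynomial (Fin n) R) D) =
      (constantCoeff (R := B)).comp g := by
    apply MvPolynomial.ringHom_ext
    · intro r
      rw [RingHom.comp_apply (constantCoeff (R := B)), hgC, constantCoeff_C]
    · intro j
      rw [RingHom.comp_apply (constantCoeff (R := B)), hgX, map_add, constantCoeff_C]
      split_ifs
      · rw [constantCoeff_X, add_zero]
      · rw [map_zero, add_zero]
  obtain ⟨ψ, hψ1, hψ2⟩ := exists_lift_ps (T := B) (B := MvPolynomial (Fin n) R) (S := D) g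
    (algebraMap D B) hg
  have hψ1' : ∀ d, constantCoeff (R := B) (ψ d) = algebraMap D B d := fun d => congr($hψ1 d)
  have hunit : ∀ y : q.primeCompl, IsUnit (ψ y) := by
    intro y
    rw [PowerSeries.isUnit_iff_constantCoeff, hψ1']
    exact IsLocalization.map_units B y
  let φ : B →+* B⟦X⟧ := IsLocalization.lift (M := q.primeCompl) hunit
  have hφ1 : ∀ d, φ (algebraMap D B d) = ψ d := fun d => IsLocalization.lift_eq hunit d
  have hφ : (constantCoeff (R := B)).comp φ = RingHom.id B := by
    apply IsLocalization.ringHom_ext q.primeCompl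
    ext d
    simp only [RingHom.comp_apply, RingHom.id_apply]
    rw [hφ1, hψ1']
  refine ⟨φ, hφ, ?_⟩
  by_contra hcon
  push Not at hcon
  -- the induced map on the residue field
  let Φ : B →+* κ⟦X⟧ := (PowerSeries.map π).comp φ
  have hΦker : ∀ f, π f = 0 → Φ f = 0 := by
    intro f hf
    have hf' : f ∈ maximalIdeal B := by rw [← hker]; exact hf
    have h1 := hcon f hf'
    rw [PowSerFlat.map_C_eq_ker, RingHom.mem_ker] at h1
    ext k
    rw [map_zero]
    change coeff k (PowerSeries.map π (φ f)) = 0
    rw [PowerSeries.coeff_map]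
    have h2 := congrArg (coeff k) h1
    rw [PowerSeries.coeff_map, map_zero, Ideal.Quotient.eq_zero_iff_mem, ← hker] at h2
    exact h2
  obtain ⟨Φ', hΦ'⟩ : ∃ Φ' : κ →+* κ⟦X⟧, ∀ b, Φ' (π b) = Φ b := by
    refine ⟨π.liftOfSurjective hπ ⟨Φ, fun f hf => hΦker f hf⟩, fun b => ?_⟩
    exact RingHom.liftOfRightInverse_comp_apply _ _ _ _ b
  have h1 : ∀ r, Φ' (ρ r) = C (ρ r) := by
    intro r
    have : ρ r = π (α (MvPolynomial.C r)) := by rw [hρ]; rfl
    rw [this, hΦ']
    change PowerSeries.map π (φ (algebraMap D B (algebraMap _ D (MvPolynomial.C r)))) = _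
    rw [hφ1]
    have h2 : ψ (algebraMap _ D (MvPolynomial.C r)) = g (MvPolynomial.C r) := congr($hψ2 _)
    rw [h2, hgC, PowerSeries.map_C]
  have h2 : ∀ j, Φ' (T j) = C (T j) + if j = i then X else 0 := by
    intro j
    have h3 : ψ (algebraMap _ D (MvPolynomial.X j)) = g (MvPolynomial.X j) := congr($hψ2 _)
    rw [hT, hΦ']
    change PowerSeries.map π (φ (algebraMap D B (algebraMap _ D (MvPolynomial.X j)))) = _
    rw [hφ1, h3, hgX, map_add, PowerSeries.map_C]
    congr 1
    split_ifs
    · rw [PowerSeries.map_X]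
    · rw [map_zero]
  have h3 : ∀ z ∈ Algebra.adjoin ρ.range (T '' t), Φ' z = C z := by
    intro z hz
    induction hz using Algebra.adjoin_induction with
    | mem x hx =>
      obtain ⟨j, hj, rfl⟩ := hx
      rw [h2, if_neg, add_zero]
      rintro rfl
      exact hit hj
    | algebraMap r =>
      obtain ⟨_, r, rfl⟩ := r
      exact h1 r
    | add x y _ _ hx hy => rw [map_add, map_add, hx, hy]
    | mul x y _ _ hx hy => rw [map_mul, map_mul, hx, hy]
  obtain ⟨Q, hQ0, hQ⟩ := halg
  let K₀ := Algebra.adjoin ρ.range (T '' t)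
  let Q' : Polynomial κ := Q.map (algebraMap K₀ κ)
  have hQ' : Q'.eval₂ (C (R := κ)) (C (T i) + X) = 0 := by
    have h4 : Φ' (Polynomial.aeval (T i) Q) = 0 := by rw [hQ, map_zero]
    rw [Polynomial.aeval_def, Polynomial.hom_eval₂, h2, if_pos rfl] at h4
    have e : (C (R := κ)).comp (algebraMap K₀ κ) = Φ'.comp (algebraMap K₀ κ) :=
      RingHom.ext fun z => (h3 z.1 z.2).symm
    rw [Polynomial.eval₂_map, e]
    exact h4
  have h5 : Q' = 0 := eq_zero_of_eval₂_add_X (T i) Q' hQ'
  exact hQ0 ((Polynomial.map_eq_zero_iff Subtype.val_injective).mp h5)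

end Groth.Agent.Pi1B.FlowExist
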