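import Mathlib.RingTheory.PowerSeries.Ideal
import Mathlib.RingTheory.PowerSeries.Inverse
import Mathlib.RingTheory.Flat.EquationalCriterion
import Mathlib.RingTheory.Flat.Localization
import Mathlib.RingTheory.Flat.FaithfullyFlat.Algebra
import Mathlib.RingTheory.LocalRing.RingHom.Basic

/-!
# Power series rings in one variable: flatness and finiteness

* `flat_powerSeries`: `B⟦X⟧` is flat over a Noetherian ring `B`.
* `finite_powerSeries`: `E` finite over `B` implies `E⟦X⟧` finite over `B⟦X⟧`.
* for `B` local Noetherian: the extension of the maximal ideal to `B⟦X⟧` is prime and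
  `B → B⟦X⟧_𝔪` is faithfully flat.
-/

set_option autoImplicit false

open PowerSeries

namespace Groth.Agent.Pi1B.PowSerFlat

universe u v

/-- The power series ring over a Noetherian ring is flat. -/
theorem flat_powerSeries (B : Type u) [CommRing B] [IsNoetherianRing B] :
    Module.Flat B (PowerSeries B) := by
  refine Module.Flat.of_forall_isTrivialRelation fun {l f x} h => ?_
  let L : (Fin l → B) →ₗ[B] B := Fintype.linearCombination B f
  have hL : ∀ v : Fin l → B, L v = ∑ i, v i * f i := fun v => by
    simp [L, Fintype.linearCombination_apply]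
  obtain ⟨k, g, hg⟩ := Submodule.fg_iff_exists_fin_generating_family.mp
    (IsNoetherian.noetherian (LinearMap.ker L))
  have hmem : ∀ n : ℕ, (fun i => coeff n (x i)) ∈ LinearMap.ker L := by
    intro n
    rw [LinearMap.mem_ker, hL]
    have := congrArg (coeff n) h
    rw [map_sum, map_zero] at this
    rw [← this]
    refine Finset.sum_congr rfl fun i _ => ?_
    rw [PowerSeries.coeff_smul, smul_eq_mul, mul_comm]
  have hex : ∀ n : ℕ, ∃ c : Fin k → B, ∑ j, c j • g j = fun i => coeff n (x i) := by
    intro n
    have := hmem n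
    rw [← hg, Submodule.mem_span_range_iff_exists_fun] at this
    exact this
  choose c hc using hex
  refine ⟨k, fun i j => g j i, fun j => PowerSeries.mk fun n => c n j, fun i => ?_, fun j => ?_⟩
  · ext n
    rw [map_sum]
    have := congrFun (hc n) i
    simp only [Finset.sum_apply, Pi.smul_apply, smul_eq_mul] at this
    rw [← this]
    refine Finset.sum_congr rfl fun j _ => ?_
    rw [PowerSeries.coeff_smul, coeff_mk, smul_eq_mul, mul_comm]
  · have hj : g j ∈ LinearMap.ker L := by
      rw [← hg]; exact Submodule.subset_span ⟨j, rfl⟩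
    rw [LinearMap.mem_ker, hL] at hj
    rw [← hj]
    exact Finset.sum_congr rfl fun i _ => mul_comm _ _

/-- `E⟦X⟧` is finite over `B⟦X⟧` if `E` is finite over `B`. -/
theorem finite_powerSeries (B : Type u) (E : Type v) [CommRing B] [CommRing E] [Algebra B E]
    [Module.Finite B E] : Module.Finite (PowerSeries B) (PowerSeries E) := by
  obtain ⟨k, g, hg⟩ := Submodule.fg_iff_exists_fin_generating_family.mp
    (Module.finite_def.mp (inferInstance : Module.Finite B E))
  refine ⟨Submodule.fg_iff_exists_fin_generating_family.mpr ⟨k, fun j => C (g j), ?_⟩⟩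
  rw [eq_top_iff]
  intro f _
  have hex : ∀ n : ℕ, ∃ c : Fin k → B, ∑ j, c j • g j = coeff n f := by
    intro n
    have : coeff n f ∈ (⊤ : Submodule B E) := trivial
    rw [← hg, Submodule.mem_span_range_iff_exists_fun] at this
    exact this
  choose c hc using hex
  rw [Submodule.mem_span_range_iff_exists_fun]
  refine ⟨fun j => PowerSeries.mk fun n => c n j, ?_⟩
  ext n
  rw [map_sum, ← hc n]
  refine Finset.sum_congr rfl fun j _ => ?_
  rw [Algebra.smul_def, PowerSeries.algebraMap_apply'', mul_comm, PowerSeries.coeff_C_mul,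
    PowerSeries.coeff_map, coeff_mk, Algebra.smul_def, mul_comm]

/-- `𝔭 B⟦X⟧ = ker (B⟦X⟧ → (B/𝔭)⟦X⟧)` for `𝔭` finitely generated; in particular it is prime. -/
theorem map_C_eq_ker (B : Type u) [CommRing B] [IsNoetherianRing B] (I : Ideal B) :
    I.map (C (R := B)) = RingHom.ker (PowerSeries.map (Ideal.Quotient.mk I)) := by
  apply le_antisymm
  · rw [Ideal.map_le_iff_le_comap]
    intro b hb
    rw [Ideal.mem_comap, RingHom.mem_ker, PowerSeries.map_C, Ideal.Quotient.eq_zero_iff_mem.mpr hb,
      map_zero]
  · intro f hf
    obtain ⟨k, g, hg⟩ := Submodule.fg_iff_exists_fin_generating_family.mp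
      (IsNoetherian.noetherian I)
    have hex : ∀ n : ℕ, ∃ c : Fin k → B, ∑ j, c j • g j = coeff n f := by
      intro n
      have : coeff n f ∈ I := by
        rw [← Ideal.Quotient.eq_zero_iff_mem, ← PowerSeries.coeff_map, hf, map_zero]
      rw [← hg, Submodule.mem_span_range_iff_exists_fun] at this
      exact this
    choose c hc using hex
    have : f = ∑ j, C (g j) * PowerSeries.mk (fun n => c n j) := by
      ext n
      rw [map_sum, ← hc n]
      refine Finset.sum_congr rfl fun j _ => ?_
      rw [PowerSeries.coeff_C_mul, coeff_mk, smul_eq_mul, mul_comm]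
    rw [this]
    refine Ideal.sum_mem _ fun j _ => Ideal.mul_mem_right _ _ (Ideal.mem_map_of_mem _ ?_)
    rw [← hg]; exact Submodule.subset_span ⟨j, rfl⟩

theorem isPrime_map_C (B : Type u) [CommRing B] [IsNoetherianRing B] (p : Ideal B) [p.IsPrime] :
    (p.map (C (R := B))).IsPrime := by
  rw [map_C_eq_ker]
  exact RingHom.ker_isPrime _

theorem comap_map_C (B : Type u) [CommRing B] [IsNoetherianRing B] (I : Ideal B) :
    (I.map (C (R := B))).comap (C (R := B)) = I := by
  rw [map_C_eq_ker]
  ext b
  rw [Ideal.mem_comap, RingHom.mem_ker, PowerSeries.map_C]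
  constructor
  · intro h
    rw [← Ideal.Quotient.eq_zero_iff_mem]
    have := congrArg (constantCoeff) h
    simpa using this
  · intro h
    rw [Ideal.Quotient.eq_zero_iff_mem.mpr h, map_zero]

end Groth.Agent.Pi1B.PowSerFlat
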