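import Groth.Agent.CalgB.PowSer
import Groth.Agent.Pi1B.PowSerFlat
import Mathlib.RingTheory.Smooth.AdicCompletion
import Mathlib.RingTheory.Etale.Basic
import Mathlib.RingTheory.Unramified.Basic
import Mathlib.RingTheory.Localization.Away.Basic

/-!
# Lifting ring homomorphisms `φ : B → T⟦X⟧` along formally etale algebras

A *flow* on `B` is a ring homomorphism `φ : B → B⟦X⟧` with `constantCoeff ∘ φ = id`.
-/

set_option autoImplicit false

open PowerSeries

namespace Groth.Agent.Pi1B.FlowLift

universe u v w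

section General

variable {B : Type u} {S : Type v} {R : Type w} {T : Type*} [CommRing B] [CommRing S] [CommRing R]
  [CommRing T] [Algebra B S]

/-- Lifting along a complete surjection for formally smooth algebras, ring homomorphism form. -/
theorem exists_lift [Algebra.FormallySmooth B S] (π : R →+* T) (hπ : Function.Surjective π)
    [IsAdicComplete (RingHom.ker π) R] (g : B →+* R) (f : S →+* T)
    (h : f.comp (algebraMap B S) = π.comp g) :
    ∃ ψ : S →+* R, π.comp ψ = f ∧ ψ.comp (algebraMap B S) = g := by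
  let _ : Algebra B R := g.toAlgebra
  let e : (R ⧸ RingHom.ker π) ≃+* T := RingHom.quotientKerEquivOfSurjective hπ
  let f' : S →ₐ[B] R ⧸ RingHom.ker π :=
    { toRingHom := e.symm.toRingHom.comp f
      commutes' := fun b => by
        have h1 : f (algebraMap B S b) = π (g b) := congr($h b)
        change e.symm (f (algebraMap B S b)) = _
        rw [h1, RingEquiv.symm_apply_eq]
        rfl }
  obtain ⟨ψ, hψ⟩ := Algebra.FormallySmooth.exists_mkₐ_comp_eq_of_isAdicComplete f'
  refine ⟨ψ.toRingHom, ?_, ?_⟩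
  · ext s
    have h1 : Ideal.Quotient.mk (RingHom.ker π) (ψ s) = e.symm (f s) := congr($hψ s)
    have h2 : e (Ideal.Quotient.mk (RingHom.ker π) (ψ s)) = π (ψ s) := rfl
    rw [h1, RingEquiv.apply_symm_apply] at h2
    exact h2.symm
  · ext b
    exact ψ.commutes b

/-- Uniqueness of lifts along a separated surjection for formally unramified algebras. -/
theorem lift_unique [Algebra.FormallyUnramified B S] (π : R →+* T)
    (hI : ⨅ i, (RingHom.ker π) ^ i = ⊥) (ψ₁ ψ₂ : S →+* R) (h : π.comp ψ₁ = π.comp ψ₂)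
    (h' : ψ₁.comp (algebraMap B S) = ψ₂.comp (algebraMap B S)) : ψ₁ = ψ₂ := by
  let _ : Algebra B R := (ψ₁.comp (algebraMap B S)).toAlgebra
  let g₁ : S →ₐ[B] R := { toRingHom := ψ₁, commutes' := fun b => rfl }
  let g₂ : S →ₐ[B] R := { toRingHom := ψ₂, commutes' := fun b => (congr($h' b)).symm }
  have key : g₁ = g₂ := by
    refine Algebra.FormallyUnramified.ext_of_iInf (I := RingHom.ker π) hI fun s => ?_
    rw [Ideal.Quotient.eq]
    change π (ψ₁ s - ψ₂ s) = 0
    rw [map_sub, sub_eq_zero]
    exact congr($h s)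
  ext s
  exact congr($key s)

end General

section PS

variable {T : Type u} [CommRing T]

theorem ker_constantCoeff_eq : RingHom.ker (constantCoeff (R := T)) =
    (⊥ : Ideal T).comap (constantCoeff (R := T)) := rfl

instance isAdicComplete_ker : IsAdicComplete (RingHom.ker (constantCoeff (R := T))) T⟦X⟧ := by
  rw [ker_constantCoeff_eq]
  exact CalgB.PowSer.isAdicComplete_comap ⊥

theorem iInf_ker_pow : ⨅ i, (RingHom.ker (constantCoeff (R := T))) ^ i = ⊥ := by
  rw [eq_bot_iff]
  intro f hf
  rw [Ideal.mem_iInf] at hf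
  rw [Ideal.mem_bot]
  refine (inferInstance : IsHausdorff (RingHom.ker (constantCoeff (R := T))) T⟦X⟧).haus f
    fun n => ?_
  rw [SModEq.zero, smul_eq_mul, Ideal.mul_top]
  exact hf n

variable {B : Type v} {S : Type w} [CommRing B] [CommRing S] [Algebra B S]

/-- A flow lifts along formally etale algebras. -/
theorem exists_lift_ps [Algebra.FormallySmooth B S] (g : B →+* T⟦X⟧) (f : S →+* T)
    (h : f.comp (algebraMap B S) = (constantCoeff (R := T)).comp g) :
    ∃ ψ : S →+* T⟦X⟧, (constantCoeff (R := T)).comp ψ = f ∧ ψ.comp (algebraMap B S) = g := by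
  have hs : Function.Surjective (constantCoeff (R := T)) := fun t => ⟨C t, constantCoeff_C t⟩
  exact exists_lift (constantCoeff (R := T)) hs g f h

theorem lift_unique_ps [Algebra.FormallyUnramified B S] (ψ₁ ψ₂ : S →+* T⟦X⟧)
    (h : (constantCoeff (R := T)).comp ψ₁ = (constantCoeff (R := T)).comp ψ₂)
    (h' : ψ₁.comp (algebraMap B S) = ψ₂.comp (algebraMap B S)) : ψ₁ = ψ₂ :=
  lift_unique (constantCoeff (R := T)) iInf_ker_pow ψ₁ ψ₂ h h'

end PS

section Glue

/-- `x, y` is a weakly regular sequence on the ring `E`, in elementary terms. -/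
structure RegPair {E : Type*} [CommRing E] (x y : E) : Prop where
  fst : ∀ b, x * b = 0 → b = 0
  snd : ∀ b c, y * b = x * c → ∃ d, b = x * d

variable {E : Type*} [CommRing E] {a b : E}

theorem RegPair.pow_fst (h : RegPair a b) (n : ℕ) : ∀ c, a ^ n * c = 0 → c = 0 := by
  induction n with
  | zero => intro c hc; simpa using hc
  | succ n ih => intro c hc; exact h.fst _ (ih _ (by rw [← hc]; ring))

theorem RegPair.pow_snd (h : RegPair a b) (n m : ℕ) :
    ∀ x c, b ^ m * x = a ^ n * c → ∃ d, x = a ^ n * d := by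
  have h1 : ∀ m : ℕ, ∀ x c, b ^ m * x = a * c → ∃ d, x = a * d := by
    intro m
    induction m with
    | zero => intro x c hxc; exact ⟨c, by simpa using hxc⟩
    | succ m ih =>
      intro x c hxc
      obtain ⟨d, hd⟩ := ih (b * x) c (by rw [← hxc]; ring)
      exact h.snd _ _ hd
  induction n with
  | zero => intro x c hxc; exact ⟨x, by simp⟩
  | succ n ih =>
    intro x c hxc
    obtain ⟨d, hd⟩ := h1 m x (a ^ n * c) (by rw [hxc]; ring)
    obtain ⟨e, he⟩ := ih d c (by
      have : a * (b ^ m * d - a ^ n * c) = 0 := by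
        rw [hd] at hxc
        linear_combination hxc
      exact sub_eq_zero.mp (h.fst _ this))
    exact ⟨e, by rw [hd, he]; ring⟩

variable {Ea Eb Eab : Type*} [CommRing Ea] [CommRing Eb] [CommRing Eab] [Algebra E Ea]
  [Algebra E Eb] [Algebra E Eab] [IsLocalization.Away a Ea] [IsLocalization.Away b Eb]
  [IsLocalization.Away (a * b) Eab]

include b in
theorem RegPair.injective (h : RegPair a b) : Function.Injective (algebraMap E Ea) := by
  rw [injective_iff_map_eq_zero]
  intro x hx
  rw [IsLocalization.map_eq_zero_iff (Submonoid.powers a)] at hx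
  obtain ⟨⟨_, n, rfl⟩, hn⟩ := hx
  exact h.pow_fst n _ hn

/-- `E = E_a ×_{E_ab} E_b` for a weakly regular pair. -/
theorem RegPair.exists_glue (h : RegPair a b) (i : Ea →+* Eab) (j : Eb →+* Eab)
    (hi : i.comp (algebraMap E Ea) = algebraMap E Eab)
    (hj : j.comp (algebraMap E Eb) = algebraMap E Eab) (x : Ea) (y : Eb) (hxy : i x = j y) :
    ∃ d : E, algebraMap E Ea d = x ∧ algebraMap E Eb d = y := by
  have hi' : ∀ e, i (algebraMap E Ea e) = algebraMap E Eab e := fun e => congr($hi e)
  have hj' : ∀ e, j (algebraMap E Eb e) = algebraMap E Eab e := fun e => congr($hj e)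
  obtain ⟨⟨e₁, _, n, rfl⟩, h1⟩ := IsLocalization.surj (Submonoid.powers a) x
  obtain ⟨⟨e₂, _, m, rfl⟩, h2⟩ := IsLocalization.surj (Submonoid.powers b) y
  simp only at h1 h2
  have h3 : algebraMap E Eab (b ^ m * e₁ - a ^ n * e₂) = 0 := by
    rw [map_sub, map_mul, map_mul, ← hi' e₁, ← hj' e₂, ← h1, ← h2, map_mul, map_mul, hi', hj', hxy]
    ring
  rw [IsLocalization.map_eq_zero_iff (Submonoid.powers (a * b))] at h3
  obtain ⟨⟨_, k, rfl⟩, hk⟩ := h3
  have hk' : b ^ k * (b ^ m * e₁ - a ^ n * e₂) = 0 := by
    refine h.pow_fst k _ ?_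
    rw [← hk]; simp only [mul_pow]; ring
  obtain ⟨d, hd⟩ := h.pow_snd n (k + m) e₁ (b ^ k * e₂) (by linear_combination hk')
  refine ⟨d, ?_, ?_⟩
  · have hunit := IsLocalization.map_units Ea (⟨a ^ n, n, rfl⟩ : Submonoid.powers a)
    refine hunit.mul_left_injective ?_
    simp only
    rw [h1, hd, map_mul, mul_comm]
  · have hunit := IsLocalization.map_units Eb (⟨b ^ m, m, rfl⟩ : Submonoid.powers b)
    have hunit' := IsLocalization.map_units Eb (⟨b ^ k, k, rfl⟩ : Submonoid.powers b)
    refine hunit.mul_left_injective (hunit'.mul_left_injective ?_)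
    simp only
    rw [h2, ← map_mul, ← map_mul, ← map_mul, ← sub_eq_zero, ← map_sub]
    have : d * b ^ m * b ^ k - e₂ * b ^ k = 0 := by
      refine h.pow_fst n _ ?_
      rw [hd] at hk'
      linear_combination hk'
    rw [this, map_zero]

/-- Power series form of `exists_glue`. -/
theorem RegPair.exists_glue_ps (h : RegPair a b) (i : Ea →+* Eab) (j : Eb →+* Eab)
    (hi : i.comp (algebraMap E Ea) = algebraMap E Eab)
    (hj : j.comp (algebraMap E Eb) = algebraMap E Eab) (x : Ea⟦X⟧) (y : Eb⟦X⟧)
    (hxy : PowerSeries.map i x = PowerSeries.map j y) :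
    ∃ d : E⟦X⟧, PowerSeries.map (algebraMap E Ea) d = x := by
  have hex : ∀ n : ℕ, ∃ d : E, algebraMap E Ea d = coeff n x := by
    intro n
    obtain ⟨d, hd, -⟩ := h.exists_glue i j hi hj (coeff n x) (coeff n y) (by
      rw [← PowerSeries.coeff_map, ← PowerSeries.coeff_map, hxy])
    exact ⟨d, hd⟩
  choose d hd using hex
  exact ⟨PowerSeries.mk d, by ext n; rw [PowerSeries.coeff_map, coeff_mk, hd]⟩

end Glue

section Main

variable {B : Type u} {E : Type v} [CommRing B] [CommRing E] [Algebra B E]

/-- Naturality of lifted flows. -/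
theorem flow_natural {S : Type*} {T : Type*} [CommRing S] [CommRing T] [Algebra B S] [Algebra B T]
    [Algebra.FormallyUnramified B S] (φ : B →+* B⟦X⟧)
    (ψS : S →+* S⟦X⟧) (ψT : T →+* T⟦X⟧)
    (hS1 : (constantCoeff (R := S)).comp ψS = RingHom.id S)
    (hS2 : ψS.comp (algebraMap B S) = (PowerSeries.map (algebraMap B S)).comp φ)
    (hT1 : (constantCoeff (R := T)).comp ψT = RingHom.id T)
    (hT2 : ψT.comp (algebraMap B T) = (PowerSeries.map (algebraMap B T)).comp φ)
    (i : S →+* T) (hi : i.comp (algebraMap B S) = algebraMap B T) :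
    (PowerSeries.map i).comp ψS = ψT.comp i := by
  refine lift_unique_ps (B := B) _ _ ?_ ?_
  · ext s
    have h1 : constantCoeff (R := S) (ψS s) = s := congr($hS1 s)
    have h2 : constantCoeff (R := T) (ψT (i s)) = i s := congr($hT1 (i s))
    simp only [RingHom.comp_apply]
    rw [h2, ← PowerSeries.coeff_zero_eq_constantCoeff_apply, PowerSeries.coeff_map,
      PowerSeries.coeff_zero_eq_constantCoeff_apply, h1]
  · ext c : 1
    have h1 : ψS (algebraMap B S c) = PowerSeries.map (algebraMap B S) (φ c) := congr($hS2 c)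
    have h2 : ψT (algebraMap B T c) = PowerSeries.map (algebraMap B T) (φ c) := congr($hT2 c)
    have h3 : i (algebraMap B S c) = algebraMap B T c := congr($hi c)
    simp only [RingHom.comp_apply]
    rw [h3, h1, h2, ← RingHom.comp_apply, ← PowerSeries.map_comp, hi]

theorem exists_flow_of_etale (S : Type*) [CommRing S] [Algebra B S] [Algebra.FormallySmooth B S]
    (φ : B →+* B⟦X⟧) (hφ : (constantCoeff (R := B)).comp φ = RingHom.id B) :
    ∃ ψ : S →+* S⟦X⟧, (constantCoeff (R := S)).comp ψ = RingHom.id S ∧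
      ψ.comp (algebraMap B S) = (PowerSeries.map (algebraMap B S)).comp φ := by
  refine exists_lift_ps (T := S) (B := B) (S := S) ((PowerSeries.map (algebraMap B S)).comp φ)
    (RingHom.id S) ?_
  ext c
  have hφ' : constantCoeff (R := B) (φ c) = c := congr($hφ c)
  simp only [RingHom.comp_apply, RingHom.id_apply]
  rw [← PowerSeries.coeff_zero_eq_constantCoeff_apply, PowerSeries.coeff_map,
      PowerSeries.coeff_zero_eq_constantCoeff_apply, hφ']

/-- A flow on `B` lifts to `E` if `(a, b)` is a weakly regular pair on `E` and `E_a`, `E_b` are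
(formally) etale over `B`. -/
theorem exists_flow {a b : E} (h : RegPair a b)
    [Algebra.FormallyEtale B (Localization.Away a)]
    [Algebra.FormallyEtale B (Localization.Away b)]
    (φ : B →+* B⟦X⟧) (hφ : (constantCoeff (R := B)).comp φ = RingHom.id B) :
    ∃ ψ : E →+* E⟦X⟧, (constantCoeff (R := E)).comp ψ = RingHom.id E ∧
      ψ.comp (algebraMap B E) = (PowerSeries.map (algebraMap B E)).comp φ := by
  let Ea := Localization.Away a
  let Eb := Localization.Away b
  let Eab := Localization.Away (algebraMap E Ea b)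
  have : IsLocalization.Away (a * b) Eab := by
    rw [mul_comm]; exact IsLocalization.Away.mul Ea Eab a b
  have : Algebra.FormallyEtale Ea Eab :=
    Algebra.FormallyEtale.of_isLocalization (Submonoid.powers (algebraMap E Ea b))
  have : Algebra.FormallyEtale B Eab := Algebra.FormallyEtale.comp B Ea Eab
  obtain ⟨ψa, ha1, ha2⟩ := exists_flow_of_etale Ea φ hφ
  obtain ⟨ψb, hb1, hb2⟩ := exists_flow_of_etale Eb φ hφ
  obtain ⟨ψab, hab1, hab2⟩ := exists_flow_of_etale Eab φ hφ
  let i : Ea →+* Eab := algebraMap Ea Eab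
  let j : Eb →+* Eab := IsLocalization.Away.lift (S := Eb) b (g := algebraMap E Eab) (by
    have := IsLocalization.Away.algebraMap_isUnit (S := Eab) (a * b)
    rw [map_mul] at this
    exact isUnit_of_mul_isUnit_right this)
  have hi : i.comp (algebraMap E Ea) = algebraMap E Eab := (IsScalarTower.algebraMap_eq _ _ _).symm
  have hj : j.comp (algebraMap E Eb) = algebraMap E Eab := IsLocalization.Away.lift_comp _ _
  have hiB : i.comp (algebraMap B Ea) = algebraMap B Eab := (IsScalarTower.algebraMap_eq _ _ _).symm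
  have hjB : j.comp (algebraMap B Eb) = algebraMap B Eab := by
    rw [IsScalarTower.algebraMap_eq B E Eb, ← RingHom.comp_assoc, hj,
      IsScalarTower.algebraMap_eq B E Eab]
  have na := flow_natural φ ψa ψab ha1 ha2 hab1 hab2 i hiB
  have nb := flow_natural φ ψb ψab hb1 hb2 hab1 hab2 j hjB
  -- glue
  let m : E⟦X⟧ →+* Ea⟦X⟧ := PowerSeries.map (algebraMap E Ea)
  have hm : Function.Injective m := PowerSeries.map_injective _ (h.injective (Ea := Ea))
  have hrange : ∀ e : E, ∃ d : E⟦X⟧, m d = ψa (algebraMap E Ea e) := by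
    intro e
    refine h.exists_glue_ps i j hi hj _ (ψb (algebraMap E Eb e)) ?_
    have h1 : PowerSeries.map i (ψa (algebraMap E Ea e)) = ψab (i (algebraMap E Ea e)) :=
      congr($na _)
    have h2 : PowerSeries.map j (ψb (algebraMap E Eb e)) = ψab (j (algebraMap E Eb e)) :=
      congr($nb _)
    have h3 : i (algebraMap E Ea e) = algebraMap E Eab e := congr($hi e)
    have h4 : j (algebraMap E Eb e) = algebraMap E Eab e := congr($hj e)
    rw [h1, h2, h3, h4]
  choose ψ hψ using hrange
  refine ⟨{ toFun := ψ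
            map_one' := hm (by rw [hψ]; simp)
            map_mul' := fun x y => hm (by rw [map_mul, hψ, hψ, hψ]; simp)
            map_zero' := hm (by rw [hψ]; simp)
            map_add' := fun x y => hm (by rw [map_add, hψ, hψ, hψ]; simp) }, ?_, ?_⟩
  · ext e
    refine h.injective (Ea := Ea) ?_
    change algebraMap E Ea (constantCoeff (R := E) (ψ e)) = algebraMap E Ea e
    have h1 : constantCoeff (R := Ea) (ψa (algebraMap E Ea e)) = algebraMap E Ea e := congr($ha1 _)
    rw [← PowerSeries.coeff_zero_eq_constantCoeff_apply, ← PowerSeries.coeff_map]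
    change coeff 0 (m (ψ e)) = _
    rw [hψ, PowerSeries.coeff_zero_eq_constantCoeff_apply, h1]
  · ext c : 1
    refine hm ?_
    change m (ψ (algebraMap B E c)) = m (PowerSeries.map (algebraMap B E) (φ c))
    have h1 : ψa (algebraMap B Ea c) = PowerSeries.map (algebraMap B Ea) (φ c) := congr($ha2 c)
    rw [hψ, ← IsScalarTower.algebraMap_apply B E Ea, h1, IsScalarTower.algebraMap_eq B E Ea,
      PowerSeries.map_comp]
    rfl

end Main

end Groth.Agent.Pi1B.FlowLift
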