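import Groth.Agent.Pi1B.FlowLift
import Mathlib.RingTheory.Etale.Descent
import Mathlib.RingTheory.Nakayama
import Mathlib.RingTheory.RingHom.Etale
import Mathlib.RingTheory.Flat.Stability
import Mathlib.RingTheory.Unramified.LocalRing

/-!
# Purity from a flow

`etale_of_flow`: `B` Noetherian local, `E` a finite `B`-algebra with a weakly regular pair
`a, b ∈ B` on `E` such that `E_a`, `E_b` are etale over `B`; `φ : B → B⟦X⟧` a ring homomorphism which
is the identity modulo `X`; `f ∈ B` with `φ f ∉ 𝔪 B⟦X⟧` and `E_f` etale over `B`.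
Then `E` is etale over `B`.
-/

set_option autoImplicit false

open PowerSeries TensorProduct

namespace Groth.Agent.Pi1B.FlowPurity

open FlowLift

universe u v

section Abstract

variable {B C E F D : Type*} [CommRing B] [CommRing C] [CommRing E] [CommRing F] [CommRing D]
  [Algebra B E] [Algebra C F]

/-- `C ⊗_B E ≅ F` by Nakayama, for `F` a deformation of `E` along `x ∈ C`. -/
theorem theta (φ : B →+* C) (ψ : E →+* F)
    (hψ : ψ.comp (algebraMap B E) = (algebraMap C F).comp φ)
    [IsNoetherianRing C] [Module.Finite B E] [Module.Finite C F] (x : C)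
    (hx : x ∈ Ideal.jacobson (⊥ : Ideal C)) (hreg : ∀ f : F, x • f = 0 → f = 0)
    (π : F →+* E) (hπ : π.comp ψ = RingHom.id E) (hker : ∀ f, π f = 0 → ∃ g, f = x • g)
    (ρ : C →+* B) (hρ : ρ.comp φ = RingHom.id B)
    (hρker : ∀ c, ρ c = 0 → ∃ d, c = x * d)
    (hcomp : π.comp (algebraMap C F) = (algebraMap B E).comp ρ) :
    letI := φ.toAlgebra
    Nonempty ((C ⊗[B] E) ≃ₐ[C] F) := by
  let _ : Algebra B C := φ.toAlgebra
  let _ : Algebra B F := ((algebraMap C F).comp (algebraMap B C)).toAlgebra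
  have : IsScalarTower B C F := .of_algebraMap_eq fun _ => rfl
  let ψ' : E →ₐ[B] F := { toRingHom := ψ, commutes' := fun b => congr($hψ b) }
  let θ : C ⊗[B] E →ₐ[C] F := Algebra.TensorProduct.lift (Algebra.ofId C F) ψ'
    (fun _ _ => Commute.all _ _)
  have hθ : ∀ (c : C) (y : E), θ (c ⊗ₜ y) = algebraMap C F c * ψ y := fun c y => by
    simp only [θ, Algebra.TensorProduct.lift_tmul]; rfl
  have hπψ : ∀ y, π (ψ y) = y := fun y => congr($hπ y)
  have hρι : ∀ b, ρ (algebraMap B C b) = b := fun b => congr($hρ b)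
  have hπc : ∀ c, π (algebraMap C F c) = algebraMap B E (ρ c) := fun c => congr($hcomp c)
  refine ⟨AlgEquiv.ofBijective θ ⟨?_, ?_⟩⟩
  · -- injectivity
    have key : ∀ z : C ⊗[B] E, ∃ w : C ⊗[B] E, z = 1 ⊗ₜ (π (θ z)) + x • w := by
      intro z
      induction z using TensorProduct.induction_on with
      | zero => exact ⟨0, by simp⟩
      | tmul c y =>
        obtain ⟨d, hd⟩ := hρker (c - algebraMap B C (ρ c)) (by rw [map_sub, hρι, sub_self])
        refine ⟨d ⊗ₜ y, ?_⟩
        rw [hθ, map_mul, hπc, hπψ, ← Algebra.smul_def, TensorProduct.tmul_smul,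
          TensorProduct.smul_tmul', TensorProduct.smul_tmul', smul_eq_mul, ← hd,
          Algebra.smul_def, mul_one, ← TensorProduct.add_tmul, add_sub_cancel]
      | add z₁ z₂ h₁ h₂ =>
        obtain ⟨w₁, hw₁⟩ := h₁
        obtain ⟨w₂, hw₂⟩ := h₂
        refine ⟨w₁ + w₂, ?_⟩
        conv_lhs => rw [hw₁, hw₂]
        rw [map_add, map_add, TensorProduct.tmul_add, smul_add]
        abel
    have hK : LinearMap.ker θ.toLinearMap = ⊥ := by
      refine Submodule.eq_bot_of_le_smul_of_le_jacobson_bot (Ideal.span {x}) _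
        (IsNoetherian.noetherian _) ?_ ?_
      · intro z hz
        rw [LinearMap.mem_ker, AlgHom.toLinearMap_apply] at hz
        obtain ⟨w, hw⟩ := key z
        rw [hz, map_zero, TensorProduct.tmul_zero, zero_add] at hw
        rw [hw]
        refine Submodule.smul_mem_smul (Ideal.mem_span_singleton_self x) ?_
        rw [LinearMap.mem_ker, AlgHom.toLinearMap_apply]
        apply hreg
        rw [← map_smul, ← hw, hz]
      · rw [Ideal.span_le, Set.singleton_subset_iff]
        exact hx
    rw [LinearMap.ker_eq_bot] at hK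
    exact hK
  · -- surjectivity
    have hS : (⊤ : Submodule C F) ≤ LinearMap.range θ.toLinearMap := by
      refine Submodule.le_of_le_smul_of_le_jacobson_bot (I := Ideal.span {x})
        Module.Finite.fg_top ?_ ?_
      · rw [Ideal.span_le, Set.singleton_subset_iff]
        exact hx
      · intro f _
        obtain ⟨g, hg⟩ := hker (f - ψ (π f)) (by rw [map_sub, hπψ, sub_self])
        rw [← sub_add_cancel f (ψ (π f)), hg, add_comm]
        refine Submodule.add_mem_sup ⟨1 ⊗ₜ (π f), ?_⟩
          (Submodule.smul_mem_smul (Ideal.mem_span_singleton_self x) trivial)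
        rw [AlgHom.toLinearMap_apply, hθ, map_one, one_mul]
    intro f
    obtain ⟨z, hz⟩ := hS (trivial : f ∈ (⊤ : Submodule C F))
    exact ⟨z, hz⟩

section BaseChange

variable [Algebra B C] [Algebra C D] [Algebra B D] [IsScalarTower B C D]

/-- `D ⊗_C F = D ⊗_B E` when `F = C ⊗_B E`. -/
noncomputable def baseChangeEquiv (e : (C ⊗[B] E) ≃ₐ[C] F) : (D ⊗[C] F) ≃ₐ[D] (D ⊗[B] E) :=
  (Algebra.TensorProduct.congr (AlgEquiv.refl : D ≃ₐ[D] D) e.symm).trans
    (Algebra.TensorProduct.cancelBaseChange B C D D E)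

end BaseChange

/-- If `f ∈ B` becomes invertible in `D` and `E_f` is etale over `B`, then `D ⊗_B E` is etale
over `D`. -/
theorem etale_of_isUnit [Algebra B D] (f : B) (hf : IsUnit (algebraMap B D f))
    [Algebra.Etale B (Localization.Away (algebraMap B E f))] : Algebra.Etale D (D ⊗[B] E) := by
  let Ef := Localization.Away (algebraMap B E f)
  let g : D ⊗[B] E →ₐ[D] D ⊗[B] Ef :=
    Algebra.TensorProduct.map (AlgHom.id D D) (IsScalarTower.toAlgHom B E Ef)
  have hunit : IsUnit ((Algebra.TensorProduct.includeRight : E →ₐ[B] D ⊗[B] E)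
      (algebraMap B E f)) := by
    rw [AlgHom.commutes, IsScalarTower.algebraMap_apply B D (D ⊗[B] E)]
    exact hf.map _
  let h : Ef →ₐ[B] D ⊗[B] E :=
    IsLocalization.Away.liftAlgHom (algebraMap B E f) (S := Ef)
      (f := (Algebra.TensorProduct.includeRight : E →ₐ[B] D ⊗[B] E)) hunit
  have hh : ∀ e : E, h (algebraMap E Ef e) = 1 ⊗ₜ e := fun e => by
    simp [h, Ef]
  let k : D ⊗[B] Ef →ₐ[D] D ⊗[B] E :=
    Algebra.TensorProduct.lift (Algebra.ofId D _) h (fun _ _ => Commute.all _ _)
  have hk : ∀ y : Ef, k (1 ⊗ₜ y) = h y := fun y => by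
    simp only [k, Algebra.TensorProduct.lift_tmul, map_one, one_mul]
  have hg : ∀ y : E, g (1 ⊗ₜ y) = 1 ⊗ₜ (algebraMap E Ef y) := fun y => by
    simp only [g, Algebra.TensorProduct.map_tmul, map_one]; rfl
  have h1 : g.comp k = AlgHom.id D _ := by
    apply Algebra.TensorProduct.ext
    · ext
    · refine IsLocalization.algHom_ext (Submonoid.powers (algebraMap B E f)) ?_
      ext e
      change g (k (1 ⊗ₜ (algebraMap E Ef e))) = 1 ⊗ₜ (algebraMap E Ef e)
      rw [hk, hh, hg]
  have h2 : k.comp g = AlgHom.id D _ := by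
    apply Algebra.TensorProduct.ext
    · ext
    · ext e
      change k (g (1 ⊗ₜ e)) = 1 ⊗ₜ e
      rw [hg, hk, hh]
  exact Algebra.Etale.of_equiv (AlgEquiv.ofAlgHom k g h2 h1)

/-- The abstract comparison: two structures `ι, φ : B → C` with the same base change `F` of `E`;
`D` a `C`-algebra, faithfully flat over `B` via `ι`, and inverting `φ f`, `E_f` etale over `B`. -/
theorem etale_of_two (ι φ : B →+* C)
    (e₁ : letI := ι.toAlgebra; Nonempty ((C ⊗[B] E) ≃ₐ[C] F))
    (e₂ : letI := φ.toAlgebra; Nonempty ((C ⊗[B] E) ≃ₐ[C] F))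
    [Algebra C D] (hflat : ((algebraMap C D).comp ι).FaithfullyFlat) (f : B)
    (hf : IsUnit (algebraMap C D (φ f)))
    [Algebra.Etale B (Localization.Away (algebraMap B E f))] : Algebra.Etale B E := by
  have h2 : Algebra.Etale D (D ⊗[C] F) := by
    let _ : Algebra B C := φ.toAlgebra
    let _ : Algebra B D := ((algebraMap C D).comp φ).toAlgebra
    have : IsScalarTower B C D := .of_algebraMap_eq fun _ => rfl
    obtain ⟨e⟩ := e₂
    have : Algebra.Etale D (D ⊗[B] E) := etale_of_isUnit f hf
    exact Algebra.Etale.of_equiv (baseChangeEquiv e).symm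
  let _ : Algebra B C := ι.toAlgebra
  let _ : Algebra B D := ((algebraMap C D).comp ι).toAlgebra
  have : IsScalarTower B C D := .of_algebraMap_eq fun _ => rfl
  obtain ⟨e⟩ := e₁
  have h3 : Algebra.Etale D (D ⊗[B] E) := Algebra.Etale.of_equiv (baseChangeEquiv e)
  have : Module.FaithfullyFlat B D := hflat
  exact Algebra.Etale.of_etale_tensorProduct_of_faithfullyFlat D

end Abstract

section Main

variable {B : Type u} [CommRing B]

theorem X_mem_jacobson : (X : B⟦X⟧) ∈ Ideal.jacobson (⊥ : Ideal B⟦X⟧) := by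
  rw [Ideal.mem_jacobson_bot]
  intro y
  rw [PowerSeries.isUnit_iff_constantCoeff]
  simp

/-- **Purity from a flow.** `B` Noetherian local, `E` a finite `B`-algebra with a weakly regular
pair `a, b ∈ B` on `E` such that `E_a`, `E_b` are etale over `B`; `φ : B → B⟦X⟧` a ring homomorphism
which is the identity modulo `X`; `f ∈ B` with `φ f ∉ 𝔪 B⟦X⟧` and `E_f` etale over `B`.
Then `E` is etale over `B`. -/
theorem etale_of_flow [IsNoetherianRing B] [IsLocalRing B] (E : Type v) [CommRing E] [Algebra B E]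
    [Module.Finite B E] (φ : B →+* B⟦X⟧) (hφ : (constantCoeff (R := B)).comp φ = RingHom.id B)
    {a b : B} (hab : RegPair (algebraMap B E a) (algebraMap B E b))
    [Algebra.Etale B (Localization.Away (algebraMap B E a))]
    [Algebra.Etale B (Localization.Away (algebraMap B E b))]
    (f : B) (hf : φ f ∉ (IsLocalRing.maximalIdeal B).map (C (R := B)))
    [Algebra.Etale B (Localization.Away (algebraMap B E f))] : Algebra.Etale B E := by
  obtain ⟨ψ, hψ, hc⟩ := exists_flow hab φ hφ
  have hfin := PowSerFlat.finite_powerSeries B E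
  have hprime : ((IsLocalRing.maximalIdeal B).map (C (R := B))).IsPrime :=
    PowSerFlat.isPrime_map_C B _
  have hflat := PowSerFlat.flat_powerSeries B
  let η : Ideal B⟦X⟧ := (IsLocalRing.maximalIdeal B).map (C (R := B))
  let D := Localization.AtPrime η
  have hreg : ∀ f : E⟦X⟧, (X : B⟦X⟧) • f = 0 → f = 0 := by
    intro f hf
    rw [Algebra.smul_def, PowerSeries.algebraMap_apply'', PowerSeries.map_X] at hf
    exact PowerSeries.X_mul_cancel (hf.trans (mul_zero _).symm)
  have hker : ∀ f : E⟦X⟧, constantCoeff (R := E) f = 0 → ∃ g, f = (X : B⟦X⟧) • g := by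
    intro f hf
    obtain ⟨g, hg⟩ := PowerSeries.X_dvd_iff.mpr hf
    exact ⟨g, by rw [Algebra.smul_def, PowerSeries.algebraMap_apply'', PowerSeries.map_X, hg]⟩
  have hρker : ∀ c : B⟦X⟧, constantCoeff (R := B) c = 0 → ∃ d, c = X * d :=
    fun c hc => PowerSeries.X_dvd_iff.mpr hc
  have hcomp : (constantCoeff (R := E)).comp (algebraMap B⟦X⟧ E⟦X⟧) =
      (algebraMap B E).comp (constantCoeff (R := B)) := by
    ext c
    simp only [RingHom.comp_apply]
    rw [PowerSeries.algebraMap_apply'', ← PowerSeries.coeff_zero_eq_constantCoeff_apply,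
      PowerSeries.coeff_map, PowerSeries.coeff_zero_eq_constantCoeff_apply]
  have hCφ : (constantCoeff (R := B)).comp (C (R := B)) = RingHom.id B := by
    ext c; simp
  have hCE : (constantCoeff (R := E)).comp (C (R := E)) = RingHom.id E := by
    ext c; simp
  have hCc : (C (R := E)).comp (algebraMap B E) =
      (algebraMap B⟦X⟧ E⟦X⟧).comp (C (R := B)) := by
    ext c : 1
    simp only [RingHom.comp_apply]
    rw [PowerSeries.algebraMap_apply'', PowerSeries.map_C]
  have e₁ := theta (E := E) (F := E⟦X⟧) (C (R := B)) (C (R := E)) hCc X X_mem_jacobson hreg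
    (constantCoeff (R := E)) hCE hker (constantCoeff (R := B)) hCφ hρker hcomp
  have e₂ := theta (E := E) (F := E⟦X⟧) φ ψ hc X X_mem_jacobson hreg
    (constantCoeff (R := E)) hψ hker (constantCoeff (R := B)) hφ hρker hcomp
  refine etale_of_two (D := D) (C (R := B)) φ e₁ e₂ ?_ f ?_
  · -- faithful flatness of `B → B⟦X⟧_η`
    have h0 : (algebraMap B⟦X⟧ D).comp (C (R := B)) = algebraMap B D := by
      rw [IsScalarTower.algebraMap_eq B B⟦X⟧ D]
      congr 1
    rw [h0, RingHom.faithfullyFlat_algebraMap_iff]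
    have h1 : Module.Flat B⟦X⟧ D := IsLocalization.flat D η.primeCompl
    have h2 : Module.Flat B D := Module.Flat.trans B B⟦X⟧ D
    have h3 : IsLocalHom (algebraMap B D) := by
      refine ⟨fun c hc => ?_⟩
      by_contra hcon
      have h4 : C (R := B) c ∈ η := Ideal.mem_map_of_mem _ ((IsLocalRing.mem_maximalIdeal c).mpr hcon)
      rw [← h0, RingHom.comp_apply, IsLocalization.AtPrime.isUnit_to_map_iff D η] at hc
      exact hc h4
    exact Module.FaithfullyFlat.of_flat_of_isLocalHom
  · exact IsLocalization.map_units D (⟨φ f, hf⟩ : η.primeCompl)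

end Main

end Groth.Agent.Pi1B.FlowPurity
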