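import Groth.Agent.Pi1B.FlowSmooth
import Groth.Agent.Pi1A.FEtGlue
import Groth.Agent.S0250
import Groth.Agent.S0259

/-!
# Purity on smooth schemes at non-generic points of the fibres

`purityHolds_stalk_of_depth`: `f : X ⟶ S` smooth, `S` locally Noetherian, `x : X` with
`depth O_{X,x} ≥ 2` having a proper generization in its fibre: purity holds for `O_{X,x}`.

`isEquivalence_of_depth`: `FEt X ≌ FEt U` if this holds at all points outside `U`.
-/

set_option autoImplicit false

open PowerSeries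

namespace Groth.Agent.Pi1B.FlowRel

open FlowSmooth

universe u

open AlgebraicGeometry IsLocalRing in
/-- Purity holds for the local rings of depth `≥ 2` of a smooth scheme over a locally Noetherian
base, at points which are not generic in their fibre. -/
theorem purityHolds_stalk_of_depth {X S : Scheme.{u}} (f : X ⟶ S) [Smooth f] [IsLocallyNoetherian S]
    (x : X) (hdX : (2 : ℕ∞) ≤ LocCoh.depth (X.presheaf.stalk x) (X.presheaf.stalk x))
    (x' : X) (hx' : x' ⤳ x) (hne : x' ≠ x) (hfx : f x' = f x) :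
    FEt.PurityHolds (X.presheaf.stalk x) := by
  have hXN : IsLocallyNoetherian X := LocallyOfFiniteType.isLocallyNoetherian f
  obtain ⟨V, hV, W, hW, hxW, e, hsm⟩ := Smooth.exists_isStandardSmooth f x
  obtain ⟨n, g, hg, hget⟩ := hsm.exists_etale_mvPolynomial
  have hx'W : x' ∈ W := hx'.mem_open W.2 hxW
  let _ : Algebra (MvPolynomial (Fin n) Γ(S, V)) Γ(X, W) := g.toAlgebra
  have : Algebra.Etale (MvPolynomial (Fin n) Γ(S, V)) Γ(X, W) := hget
  let q : Ideal Γ(X, W) := (hW.primeIdealOf ⟨x, hxW⟩).asIdeal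
  let q' : Ideal Γ(X, W) := (hW.primeIdealOf ⟨x', hx'W⟩).asIdeal
  let _ : Algebra Γ(X, W) (X.presheaf.stalk x) := X.presheaf.algebra_section_stalk ⟨x, hxW⟩
  have hloc : IsLocalization.AtPrime (X.presheaf.stalk x) q := hW.isLocalization_stalk ⟨x, hxW⟩
  have hle : q' ≤ q := by
    have h1 : (⟨x', hx'W⟩ : W) ⤳ (⟨x, hxW⟩ : W) :=
      (Topology.IsInducing.subtypeVal.specializes_iff).mp hx'
    have h2 : hW.primeIdealOf ⟨x', hx'W⟩ ⤳ hW.primeIdealOf ⟨x, hxW⟩ :=
      h1.map hW.isoSpec.hom.continuous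
    exact (PrimeSpectrum.le_iff_specializes _ _).mpr h2
  have hneq : q' ≠ q := by
    intro h
    apply hne
    have h1 : hW.primeIdealOf ⟨x', hx'W⟩ = hW.primeIdealOf ⟨x, hxW⟩ := PrimeSpectrum.ext h
    have h2 := congr_arg hW.fromSpec h1
    rwa [hW.fromSpec_primeIdealOf, hW.fromSpec_primeIdealOf] at h2
  have hcomap : q.comap (f.appLE V W e).hom ≤ q'.comap (f.appLE V W e).hom := by
    have h1 := IsAffineOpen.comap_primeIdealOf_appLE (f := f) V hV W hW e hxW
    have h2 := IsAffineOpen.comap_primeIdealOf_appLE (f := f) V hV W hW e hx'W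
    have h3 : (⟨f x', e hx'W⟩ : V) = ⟨f x, e hxW⟩ := Subtype.ext hfx
    rw [h3, ← h1] at h2
    exact (congr_arg PrimeSpectrum.asIdeal h2).ge
  let π : X.presheaf.stalk x →+* ResidueField (X.presheaf.stalk x) := residue _
  let ρ : Γ(S, V) →+* ResidueField (X.presheaf.stalk x) :=
    (π.comp ((algebraMap Γ(X, W) (X.presheaf.stalk x)).comp
      (algebraMap (MvPolynomial (Fin n) Γ(S, V)) Γ(X, W)))).comp MvPolynomial.C
  let T : Fin n → ResidueField (X.presheaf.stalk x) := fun i =>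
    π (algebraMap Γ(X, W) (X.presheaf.stalk x)
      (algebraMap (MvPolynomial (Fin n) Γ(S, V)) Γ(X, W) (MvPolynomial.X i)))
  have hdep : ¬ AlgebraicIndependent ρ.range T := by
    intro hind
    apply hneq
    refine eq_of_algebraicIndependent q q' hle (π.comp (algebraMap Γ(X, W) (X.presheaf.stalk x)))
      ?_ ?_ ρ rfl T (fun i => rfl) hind
    · rw [← RingHom.comap_ker]
      have : RingHom.ker π = maximalIdeal _ := ker_residue
      rw [this]
      exact IsLocalization.AtPrime.under_maximalIdeal (X.presheaf.stalk x) q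
    · have h1 : (algebraMap (MvPolynomial (Fin n) Γ(S, V)) Γ(X, W)).comp MvPolynomial.C =
        (f.appLE V W e).hom := hg
      rw [h1]
      exact hcomap
  obtain ⟨φ, hφ, t, ht, ht'⟩ := FlowExist.exists_flow_moving (R := Γ(S, V)) (D := Γ(X, W))
    (B := X.presheaf.stalk x) q π residue_surjective ker_residue ρ rfl T (fun i => rfl) hdep
  exact FlowPurityHolds.purityHolds_of_flow _ hdX φ hφ t ht ht'

open AlgebraicGeometry CategoryTheory CategoryTheory.Limits

theorem isEquivalence_of_purityHolds_noetherian {X : Scheme.{u}} [IsNoetherian X] (U : X.Opens)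
    (hd : ∀ x : X, x ∉ U →
      (2 : ℕ∞) ≤ LocCoh.depth (X.presheaf.stalk x) (X.presheaf.stalk x))
    (hU : Dense (U : Set X))
    (hp : ∀ x : X, x ∉ U → FEt.PurityHolds (X.presheaf.stalk x)) :
    (FEt.restrict U.ι).IsEquivalence := by
  obtain ⟨h1, h2⟩ := S0259.result U hU hd
  have h5 : (FEt.restrict U.ι).EssSurj := S0250.result U hp
  exact { }

theorem range_morphismRestrict_ι {X : Scheme.{u}} (U W : X.Opens) :
    Set.range (U.ι ∣_ W) = Set.range (W.ι ⁻¹ᵁ U).ι := by
  rw [Scheme.Opens.range_ι]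
  ext w
  constructor
  · rintro ⟨z, rfl⟩
    have h := morphismRestrict_base_coe U.ι W z
    have h' : W.ι ((U.ι ∣_ W) z) = U.ι z.1 := h
    change W.ι ((U.ι ∣_ W) z) ∈ U
    rw [h']
    exact z.1.2
  · intro hw
    have hw' : W.ι w ∈ U := hw
    refine ⟨⟨⟨W.ι w, hw'⟩, w.2⟩, ?_⟩
    apply W.ι.isOpenEmbedding.injective
    exact morphismRestrict_base_coe U.ι W _

/-- The restriction of `U.ι` over `W` is the inclusion of `W ∩ U` into `W`. -/
noncomputable def morphismRestrictιIso {X : Scheme.{u}} (U W : X.Opens) :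
    Arrow.mk (U.ι ∣_ W) ≅ Arrow.mk (W.ι ⁻¹ᵁ U).ι :=
  Arrow.isoMk (IsOpenImmersion.isoOfRangeEq (U.ι ∣_ W) (W.ι ⁻¹ᵁ U).ι
    (range_morphismRestrict_ι U W)) (Iso.refl _) (by simp)

/-- `FEt X ≌ FEt U` can be checked on affine opens. -/
theorem isEquivalence_of_affine {X : Scheme.{u}} (U : X.Opens)
    (h : ∀ W : X.affineOpens, (FEt.restrict (W.1.ι ⁻¹ᵁ U).ι).IsEquivalence) :
    (FEt.restrict U.ι).IsEquivalence := by
  refine Pi1A.FEtGlue.isEquivalence_of_affineOpens _ fun W => ?_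
  exact Pi1A.FEtGlue.isEquivalence_of_arrowIso (morphismRestrictιIso U W.1) (h W)

/-- Let `X` be locally Noetherian, `f : X ⟶ S` smooth, and `U` an open subset such that every `x ∉ U`
has local ring of depth `≥ 2` and lies in the closure of the part of `U` in its fibre. Then
restriction of finite étale covers to `U` is an equivalence. -/
theorem isEquivalence_of_smooth {X S : Scheme.{u}} (f : X ⟶ S) [Smooth f] [IsLocallyNoetherian S]
    (U : X.Opens)
    (hd : ∀ x : X, x ∉ U →
      (2 : ℕ∞) ≤ LocCoh.depth (X.presheaf.stalk x) (X.presheaf.stalk x))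
    (hU : ∀ x : X, x ∉ U → x ∈ closure ((U : Set X) ∩ f ⁻¹' {f x})) :
    (FEt.restrict U.ι).IsEquivalence := by
  have hXN : IsLocallyNoetherian X := LocallyOfFiniteType.isLocallyNoetherian f
  refine isEquivalence_of_affine U fun W => ?_
  have hWa : IsAffine W.1.toScheme := W.2
  have hWN : IsNoetherian W.1.toScheme := { }
  have hcl : ∀ w : W.1.toScheme, w ∉ W.1.ι ⁻¹ᵁ U →
      w ∈ closure (((W.1.ι ⁻¹ᵁ U : W.1.toScheme.Opens) : Set W.1.toScheme) ∩
        (W.1.ι ≫ f) ⁻¹' {(W.1.ι ≫ f) w}) := by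
    intro w hw
    have h5 := hU (W.1.ι w) hw
    have h6 : w ∈ W.1.ι ⁻¹' closure ((U : Set X) ∩ f ⁻¹' {f (W.1.ι w)}) := h5
    rw [W.1.ι.isOpenEmbedding.isOpenMap.preimage_closure_eq_closure_preimage
      W.1.ι.isOpenEmbedding.continuous] at h6
    exact h6
  have hdW : ∀ w : W.1.toScheme, w ∉ W.1.ι ⁻¹ᵁ U →
      (2 : ℕ∞) ≤ LocCoh.depth (W.1.toScheme.presheaf.stalk w) (W.1.toScheme.presheaf.stalk w) :=
    fun w hw => two_le_depth_stalk W.1.ι w (hd _ hw)
  refine isEquivalence_of_purityHolds_noetherian _ hdW ?_ ?_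
  · intro w
    by_cases hw : w ∈ W.1.ι ⁻¹ᵁ U
    · exact subset_closure hw
    · exact closure_mono Set.inter_subset_left (hcl w hw)
  · intro w hw
    obtain ⟨x', hx', hne, hfx⟩ := exists_generization (W.1.ι ≫ f) w (W.1.ι ⁻¹ᵁ U) hw (hcl w hw)
    exact purityHolds_stalk_of_depth (W.1.ι ≫ f) w (hdW w hw) x' hx' hne hfx

end Groth.Agent.Pi1B.FlowRel
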