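import Mathlib.RingTheory.Noetherian.Basic
import Mathlib.RingTheory.AdicCompletion.Basic
import Mathlib.Algebra.Module.Submodule.Pointwise
import Mathlib.RingTheory.AdicCompletion.Functoriality
import Groth.Agent.FormalA.AdicFin

set_option autoImplicit false

/-!
# Algebraization of formal modules: the Mittag-Leffler step

Let `C0 → C1 → C2` be a complex of `f`-torsion free modules, `C0` being `f`-adically complete and `C1`
`f`-adically separated.  Suppose that `H^1(C / f)` is Noetherian.  Then every class in `H^0(C/f)` which lifts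
to `H^0(C / f^n)` for a suitable fixed `n` lifts to `H^0(C)`.
-/

namespace Groth.Agent.Pi1B.FormalAlgebraize

variable {A : Type*} [CommRing A] (f : A)

/-- The abstract Mittag-Leffler step. `R` is a linear relation between cocycles modulo `f` and a Noetherian
module `H`, which detects coboundaries modulo `f` (so that `H^1(C/f)` is a subquotient of `H`). -/
theorem exists_lift {C0 C1 C2 H : Type*} [AddCommGroup C0] [Module A C0] [AddCommGroup C1] [Module A C1]
    [AddCommGroup C2] [Module A C2] [AddCommGroup H] [Module A H] [IsNoetherian A H]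
    (d0 : C0 →ₗ[A] C1) (d1 : C1 →ₗ[A] C2) (hdd : ∀ s, d1 (d0 s) = 0)
    (tf2 : ∀ c : C2, f • c = 0 → c = 0)
    (compl : ∀ b : ℕ → C0, ∃ σ : C0, ∀ k, ∃ t : C0, σ - ∑ j ∈ Finset.range k, f ^ j • b j = f ^ k • t)
    (haus : ∀ c : C1, (∀ k : ℕ, ∃ t : C1, c = f ^ k • t) → c = 0)
    (R : Submodule A (C1 × H))
    (hR1 : ∀ c, (∃ e, d1 c = f • e) → ∃ h, (c, h) ∈ R)
    (hR2 : ∀ c, (c, (0 : H)) ∈ R → ∃ b c', c = d0 b + f • c') :
    ∃ n0 : ℕ, ∀ s : C0, (∃ c, d0 s = f ^ n0 • c) → ∃ s' : C0, d0 s' = 0 ∧ ∃ t, s' = s + f • t := by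
  have tf2' : ∀ (n : ℕ) (c : C2), f ^ n • c = 0 → c = 0 := by
    intro n
    induction n with
    | zero => intro c hc; simpa using hc
    | succ n ih =>
      intro c hc
      refine ih c (tf2 _ ?_)
      rw [smul_smul, ← pow_succ']
      exact hc
  -- the submodules K n
  let K : ℕ → Submodule A C1 := fun n =>
    { carrier := {c | (∃ e, d1 c = f • e) ∧ ∃ b c', f ^ n • c = d0 b + f ^ (n + 1) • c'}
      zero_mem' := ⟨⟨0, by simp⟩, 0, 0, by simp⟩
      add_mem' := by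
        rintro a b ⟨⟨e, he⟩, x, y, hxy⟩ ⟨⟨e', he'⟩, x', y', hxy'⟩
        refine ⟨⟨e + e', by rw [map_add, he, he', smul_add]⟩, x + x', y + y', ?_⟩
        rw [smul_add, hxy, hxy', map_add, smul_add]
        abel
      smul_mem' := by
        rintro a c ⟨⟨e, he⟩, x, y, hxy⟩
        refine ⟨⟨a • e, by rw [map_smul, he, smul_comm]⟩, a • x, a • y, ?_⟩
        rw [smul_comm, hxy, smul_add, map_smul, smul_comm a] }
  have hKmono : ∀ n, K n ≤ K (n + 1) := by
    rintro n c ⟨he, b, c', hc⟩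
    refine ⟨he, f • b, c', ?_⟩
    rw [pow_succ', mul_smul, hc, smul_add, map_smul, smul_smul, ← pow_succ']
  let S : ℕ →o Submodule A H :=
    { toFun := fun n => Submodule.map (LinearMap.snd A C1 H) (R ⊓ (K n).comap (LinearMap.fst A C1 H))
      monotone' := by
        refine monotone_nat_of_le_succ fun n => Submodule.map_mono ?_
        exact inf_le_inf_left _ (Submodule.comap_mono (hKmono n)) }
  obtain ⟨n1, hn1⟩ := monotone_stabilizes_iff_noetherian.mpr (inferInstance : IsNoetherian A H) S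
  have hK : ∀ n, n1 ≤ n → ∀ c, c ∈ K n → c ∈ K n1 := by
    intro n hn c hc
    obtain ⟨h, hh⟩ := hR1 c hc.1
    have hmem : h ∈ S n := ⟨(c, h), ⟨hh, hc⟩, rfl⟩
    rw [← hn1 n hn] at hmem
    obtain ⟨⟨c1, h1⟩, ⟨hc1R, hc1K⟩, hh1⟩ := hmem
    have hh1' : h1 = h := hh1
    subst hh1'
    have hdiff : (c - c1, (0 : H)) ∈ R := by
      have := R.sub_mem hh hc1R
      simpa using this
    obtain ⟨b, c', hbc⟩ := hR2 _ hdiff
    have hmem' : c - c1 ∈ K n1 := by
      refine ⟨⟨d1 c', ?_⟩, f ^ n1 • b, c', ?_⟩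
      · rw [hbc, map_add, hdd, zero_add, map_smul]
      · rw [hbc, smul_add, map_smul, smul_smul, ← pow_succ]
    have := (K n1).add_mem hmem' hc1K
    simpa using this
  -- the step
  have hstep : ∀ k : ℕ, ∀ s : C0, (∃ c, d0 s = f ^ (n1 + 1 + k) • c) →
      ∃ b : C0, ∃ c, d0 (s - f ^ (k + 1) • b) = f ^ (n1 + 1 + (k + 1)) • c := by
    rintro k s ⟨c, hc⟩
    have hd1c : d1 c = 0 := by
      apply tf2' (n1 + 1 + k)
      rw [← map_smul, ← hc, hdd]
    have hcK : c ∈ K (n1 + 1 + k) := ⟨⟨0, by rw [hd1c, smul_zero]⟩, s, 0, by rw [hc]; simp⟩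
    obtain ⟨-, b, c', hb⟩ := hK _ (by omega) c hcK
    refine ⟨b, c', ?_⟩
    rw [map_sub, hc, map_smul]
    have : f ^ (n1 + 1 + k) • c = f ^ (k + 1) • (f ^ n1 • c) := by
      rw [smul_smul, ← pow_add]; congr 2; omega
    rw [this, hb, smul_add, add_sub_cancel_left, smul_smul, ← pow_add]
    congr 2; omega
  refine ⟨n1 + 1, fun s hs => ?_⟩
  -- build the sequence
  let T : ℕ → Type _ := fun k => {s : C0 // ∃ c, d0 s = f ^ (n1 + 1 + k) • c}
  let next : ∀ k, T k → C0 := fun k s => (hstep k s.1 s.2).choose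
  have hnext : ∀ k (s : T k), ∃ c, d0 (s.1 - f ^ (k + 1) • next k s) = f ^ (n1 + 1 + (k + 1)) • c :=
    fun k s => (hstep k s.1 s.2).choose_spec
  let seq : ∀ k, T k := fun k => Nat.rec (motive := T) ⟨s, hs⟩
    (fun k sk => ⟨sk.1 - f ^ (k + 1) • next k sk, hnext k sk⟩) k
  have hseq : ∀ k, (seq (k + 1)).1 = (seq k).1 - f ^ (k + 1) • next k (seq k) := fun k => rfl
  have hsum : ∀ k, (seq k).1 = s - f • ∑ j ∈ Finset.range k, f ^ j • next j (seq j) := by
    intro k
    induction k with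
    | zero => simp [seq]
    | succ k ih =>
      rw [hseq, ih, Finset.sum_range_succ, smul_add, smul_smul, ← pow_succ']
      abel
  obtain ⟨σ, hσ⟩ := compl (fun j => next j (seq j))
  refine ⟨s - f • σ, ?_, -σ, by rw [smul_neg, sub_eq_add_neg]⟩
  apply haus
  intro k
  obtain ⟨t, ht⟩ := hσ k
  obtain ⟨c, hc⟩ := (seq k).2
  have h1 : s - f • σ = (seq k).1 - f • (f ^ k • t) := by
    rw [hsum, ← ht, smul_sub]
    abel
  refine ⟨f ^ (n1 + 1) • c - f • d0 t, ?_⟩
  rw [h1, map_sub, hc, map_smul, map_smul, smul_sub, smul_comm f (f ^ k), smul_smul (f ^ k) (f ^ (n1 + 1)),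
    ← pow_add]
  congr 3
  omega

/-! ### Towers -/

/-- An inverse system `N n` of `A`-modules which looks like `N / f ^ (n+1) N` for an `f`-torsion free `N`. -/
structure AdicTower {N : ℕ → Type*} [∀ n, AddCommGroup (N n)] [∀ n, Module A (N n)]
    (r : ∀ n, N (n + 1) →ₗ[A] N n) : Prop where
  surj : ∀ n, Function.Surjective (r n)
  ker : ∀ n y, r n y = 0 → ∃ z, y = f ^ (n + 1) • z
  tors : ∀ n (y : N n), f • y = 0 → ∃ z, y = f ^ n • z
  nil : ∀ n (y : N n), f ^ (n + 1) • y = 0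

variable {N : ℕ → Type*} [∀ n, AddCommGroup (N n)] [∀ n, Module A (N n)]
    (r : ∀ n, N (n + 1) →ₗ[A] N n)

/-- The limit of an inverse system, as a submodule of the product. -/
def lim : Submodule A (∀ n, N n) where
  carrier := {s | ∀ n, r n (s (n + 1)) = s n}
  zero_mem' := fun n => by simp
  add_mem' := fun {a b} ha hb n => by
    simp only [Pi.add_apply, map_add]
    rw [ha n, hb n]
  smul_mem' := fun c a ha n => by
    simp only [Pi.smul_apply, map_smul]
    rw [ha n]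

theorem mem_lim {s : ∀ n, N n} : s ∈ lim r ↔ ∀ n, r n (s (n + 1)) = s n := Iff.rfl

/-- The projection from level `n` to level `0`. -/
def down : ∀ n, N n →ₗ[A] N 0
  | 0 => LinearMap.id
  | n + 1 => (down n).comp (r n)

theorem down_succ (n : ℕ) (y : N (n + 1)) : down r (n + 1) y = down r n (r n y) := rfl

theorem down_of_mem_lim {s : ∀ n, N n} (hs : s ∈ lim r) (n : ℕ) : down r n (s n) = s 0 := by
  induction n with
  | zero => rfl
  | succ n ih => rw [down_succ, hs n, ih]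

variable {f r}

namespace AdicTower

variable (h : AdicTower f r)
include h

theorem ker_down (n : ℕ) (y : N n) (hy : down r n y = 0) : ∃ z, y = f • z := by
  induction n with
  | zero => exact ⟨0, by simpa [down] using hy⟩
  | succ n ih =>
    obtain ⟨z, hz⟩ := ih (r n y) hy
    obtain ⟨w, rfl⟩ := h.surj n z
    have : r n (y - f • w) = 0 := by rw [map_sub, map_smul, hz, sub_self]
    obtain ⟨v, hv⟩ := h.ker n _ this
    refine ⟨w + f ^ n • v, ?_⟩
    rw [smul_add, smul_smul, ← pow_succ', ← hv]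
    abel

theorem exists_mem_lim_zero (y : N 0) : ∃ s ∈ lim r, s 0 = y := by
  let s : ∀ n, N n := fun n => Nat.rec (motive := N) y (fun n x => (h.surj n x).choose) n
  exact ⟨s, fun n => (h.surj n (s n)).choose_spec, rfl⟩

theorem exists_mem_lim (n : ℕ) (y : N n) : ∃ s ∈ lim r, s n = y := by
  induction n with
  | zero => exact h.exists_mem_lim_zero y
  | succ n ih =>
    obtain ⟨s, hs, hsn⟩ := ih (r n y)
    have : r n (s (n + 1) - y) = 0 := by rw [map_sub, hs n, hsn, sub_self]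
    obtain ⟨z, hz⟩ := h.ker n _ this
    obtain ⟨w, hw, hw0⟩ := h.exists_mem_lim_zero (down r (n + 1) z)
    have h1 : down r (n + 1) (w (n + 1) - z) = 0 := by
      rw [map_sub, down_of_mem_lim r hw, hw0, sub_self]
    obtain ⟨v, hv⟩ := h.ker_down _ _ h1
    refine ⟨s - f ^ (n + 1) • w, (lim r).sub_mem hs ((lim r).smul_mem _ hw), ?_⟩
    have h2 : f ^ (n + 1) • w (n + 1) = f ^ (n + 1) • z := by
      rw [← sub_eq_zero, ← smul_sub, hv, smul_smul, ← pow_succ]
      exact h.nil _ _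
    rw [Pi.sub_apply, Pi.smul_apply, h2, ← hz]
    abel

theorem exists_smul_of_zero {s : ∀ n, N n} (hs : s ∈ lim r) (h0 : s 0 = 0) :
    ∃ t ∈ lim r, s = f • t := by
  have hz : ∀ n, ∃ z, s n = f • z := fun n => h.ker_down n (s n) (by rw [down_of_mem_lim r hs, h0])
  choose z hz using hz
  refine ⟨fun n => r n (z (n + 1)), fun n => ?_, ?_⟩
  · have h1 : f • (r (n + 1) (z (n + 2)) - z (n + 1)) = 0 := by
      rw [smul_sub, ← map_smul, ← hz, ← hz, hs, sub_self]
    obtain ⟨w, hw⟩ := h.tors _ _ h1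
    have h2 : r n (r (n + 1) (z (n + 2)) - z (n + 1)) = 0 := by
      rw [hw, map_smul]
      exact h.nil _ _
    rw [map_sub, sub_eq_zero] at h2
    exact h2
  · funext n
    rw [Pi.smul_apply, ← map_smul, ← hz, hs n]

theorem exists_smul_of_eq_zero (n : ℕ) {s : ∀ n, N n} (hs : s ∈ lim r) (h0 : s n = 0) :
    ∃ t ∈ lim r, s = f ^ (n + 1) • t := by
  induction n generalizing s with
  | zero => simpa using h.exists_smul_of_zero hs h0
  | succ n ih =>
    have hs0 : s 0 = 0 := by rw [← down_of_mem_lim r hs (n + 1), h0, map_zero]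
    obtain ⟨t, ht, rfl⟩ := h.exists_smul_of_zero hs hs0
    obtain ⟨z, hz⟩ := h.tors (n + 1) (t (n + 1)) h0
    have htn : t n = 0 := by
      rw [← ht n, hz, map_smul]
      exact h.nil _ _
    obtain ⟨t', ht', rfl⟩ := ih ht htn
    exact ⟨t', ht', by rw [smul_smul, ← pow_succ']⟩

theorem smul_eq_zero_iff {s : ∀ n, N n} (hs : s ∈ lim r) (h0 : f • s = 0) : s = 0 := by
  funext n
  have h1 : f • s (n + 1) = 0 := congrFun h0 (n + 1)
  obtain ⟨z, hz⟩ := h.tors _ _ h1
  rw [Pi.zero_apply, ← hs n, hz, map_smul]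
  exact h.nil _ _

theorem exists_sum (b : ℕ → ∀ n, N n) (hb : ∀ k, b k ∈ lim r) :
    ∃ σ ∈ lim r, ∀ k, ∃ t ∈ lim r, σ - ∑ j ∈ Finset.range k, f ^ j • b j = f ^ k • t := by
  let σ : ∀ n, N n := fun n => ∑ j ∈ Finset.range (n + 1), f ^ j • b j n
  have hσ : σ ∈ lim r := by
    intro n
    change r n (∑ j ∈ Finset.range (n + 1 + 1), f ^ j • b j (n + 1)) = ∑ j ∈ Finset.range (n + 1), f ^ j • b j n
    rw [map_sum, Finset.sum_range_succ]
    simp only [map_smul, hb _ n]
    rw [h.nil, add_zero]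
  refine ⟨σ, hσ, fun k => ?_⟩
  cases k with
  | zero => exact ⟨σ, hσ, by simp⟩
  | succ k =>
    refine h.exists_smul_of_eq_zero k ((lim r).sub_mem hσ
      ((lim r).sum_mem fun j _ => (lim r).smul_mem _ (hb j))) ?_
    simp [σ]

theorem eq_zero_of_forall {s : ∀ n, N n} (hs : ∀ k : ℕ, ∃ t ∈ lim r, s = f ^ k • t) : s = 0 := by
  funext n
  obtain ⟨t, -, ht⟩ := hs (n + 1)
  rw [ht, Pi.smul_apply, Pi.zero_apply]
  exact h.nil _ _

end AdicTower

/-! ### Complexes of towers -/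

section Complex

variable {C0 : ℕ → Type*} [∀ n, AddCommGroup (C0 n)] [∀ n, Module A (C0 n)]
    {C1 : ℕ → Type*} [∀ n, AddCommGroup (C1 n)] [∀ n, Module A (C1 n)]
    {C2 : ℕ → Type*} [∀ n, AddCommGroup (C2 n)] [∀ n, Module A (C2 n)]
    {r0 : ∀ n, C0 (n + 1) →ₗ[A] C0 n} {r1 : ∀ n, C1 (n + 1) →ₗ[A] C1 n} {r2 : ∀ n, C2 (n + 1) →ₗ[A] C2 n}
    (h0 : AdicTower f r0) (h1 : AdicTower f r1) (h2 : AdicTower f r2)
    (d0 : ∀ n, C0 n →ₗ[A] C1 n) (d1 : ∀ n, C1 n →ₗ[A] C2 n)
    (hdr0 : ∀ n s, r1 n (d0 (n + 1) s) = d0 n (r0 n s))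
    (hdr1 : ∀ n s, r2 n (d1 (n + 1) s) = d1 n (r1 n s))

/-- The map induced on limits. -/
def limMap (hdr0 : ∀ n s, r1 n (d0 (n + 1) s) = d0 n (r0 n s)) : lim r0 →ₗ[A] lim r1 where
  toFun s := ⟨fun n => d0 n (s.1 n), fun n => by rw [hdr0, s.2 n]⟩
  map_add' s t := Subtype.ext (funext fun n => by simp)
  map_smul' a s := Subtype.ext (funext fun n => by simp)

/-- The formal sections: compatible families of level-wise `0`-cocycles. -/
def sections (d0 : ∀ n, C0 n →ₗ[A] C1 n) (r0 : ∀ n, C0 (n + 1) →ₗ[A] C0 n) : Submodule A (∀ n, C0 n) where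
  carrier := {s | s ∈ lim r0 ∧ ∀ n, d0 n (s n) = 0}
  zero_mem' := ⟨(lim r0).zero_mem, fun n => by simp⟩
  add_mem' := fun {a b} ha hb => ⟨(lim r0).add_mem ha.1 hb.1, fun n => by
    rw [Pi.add_apply, map_add, ha.2 n, hb.2 n, add_zero]⟩
  smul_mem' := fun c a ha => ⟨(lim r0).smul_mem c ha.1, fun n => by
    rw [Pi.smul_apply, map_smul, ha.2 n, smul_zero]⟩

theorem mem_sections {s : ∀ n, C0 n} : s ∈ sections d0 r0 ↔ s ∈ lim r0 ∧ ∀ n, d0 n (s n) = 0 := Iff.rfl

include h0 h1 h2 hdr0 hdr1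

/-- Mittag-Leffler: for a suitable `n0`, every level-`n0` section lifts, up to a change in positive
levels, to a formal section with the same image at level `0`. -/
theorem exists_section (hdd : ∀ n s, d1 n (d0 n s) = 0)
    {H : Type*} [AddCommGroup H] [Module A H] [IsNoetherian A H]
    (R : Submodule A (C1 0 × H))
    (hR1 : ∀ c, d1 0 c = 0 → ∃ h, (c, h) ∈ R)
    (hR2 : ∀ c, (c, (0 : H)) ∈ R → ∃ b, c = d0 0 b) :
    ∃ n0 : ℕ, ∀ y : C0 n0, d0 n0 y = 0 → ∃ s ∈ sections d0 r0, s 0 = down r0 n0 y := by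
  let D0 := limMap d0 hdr0
  let D1 := limMap d1 hdr1
  let ev : lim r1 →ₗ[A] C1 0 := (LinearMap.proj 0).comp (lim r1).subtype
  obtain ⟨n0, hn0⟩ := exists_lift f D0 D1 (fun s => Subtype.ext (funext fun n => hdd n _))
    (fun c hc => Subtype.ext (h2.smul_eq_zero_iff c.2 (congrArg Subtype.val hc)))
    (fun b => by
      obtain ⟨σ, hσ, h⟩ := h0.exists_sum (fun k => (b k).1) (fun k => (b k).2)
      refine ⟨⟨σ, hσ⟩, fun k => ?_⟩
      obtain ⟨t, ht, h⟩ := h k
      refine ⟨⟨t, ht⟩, Subtype.ext ?_⟩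
      simpa using h)
    (fun c hc => Subtype.ext (h1.eq_zero_of_forall fun k => by
      obtain ⟨t, ht⟩ := hc k
      exact ⟨t.1, t.2, congrArg Subtype.val ht⟩))
    (R.comap (ev.prodMap LinearMap.id))
    (fun c hc => by
      obtain ⟨e, he⟩ := hc
      have : d1 0 (ev c) = 0 := by
        have h3 : (D1 c).1 0 = (f • e.1) 0 := by rw [he]; rfl
        have h4 : (D1 c).1 0 = d1 0 (ev c) := rfl
        rw [← h4, h3, Pi.smul_apply]
        simpa using h2.nil 0 (e.1 0)
      obtain ⟨h, hh⟩ := hR1 _ this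
      exact ⟨h, hh⟩)
    (fun c hc => by
      obtain ⟨b, hb⟩ := hR2 (ev c) hc
      obtain ⟨b', hb', hb'0⟩ := h0.exists_mem_lim_zero b
      have h3 : (c - D0 ⟨b', hb'⟩).1 0 = 0 := by
        change c.1 0 - d0 0 (b' 0) = 0
        rw [hb'0, ← hb]
        exact sub_self _
      obtain ⟨t, ht, h4⟩ := h1.exists_smul_of_zero (c - D0 ⟨b', hb'⟩).2 h3
      refine ⟨⟨b', hb'⟩, ⟨t, ht⟩, ?_⟩
      have h5 : c - D0 ⟨b', hb'⟩ = f • (⟨t, ht⟩ : lim r1) := Subtype.ext h4
      rw [← h5]; abel)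
  refine ⟨n0, fun y hy => ?_⟩
  obtain ⟨s, hs, hsn⟩ := h0.exists_mem_lim n0 y
  have h3 : (D0 ⟨s, hs⟩).1 n0 = 0 := by
    change d0 n0 (s n0) = 0
    rw [hsn, hy]
  obtain ⟨t, ht, h4⟩ := h1.exists_smul_of_eq_zero n0 (D0 ⟨s, hs⟩).2 h3
  obtain ⟨s', hs', t', ht'⟩ := hn0 ⟨s, hs⟩ ⟨f • ⟨t, ht⟩, Subtype.ext (by
    rw [h4, pow_succ]
    simp [smul_smul])⟩
  refine ⟨s'.1, ⟨s'.2, fun n => congrFun (congrArg Subtype.val hs') n⟩, ?_⟩
  have h5 : s'.1 0 = s 0 + f • t'.1 0 := by rw [ht']; rfl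
  have h6 : f • t'.1 0 = 0 := by simpa using h0.nil 0 (t'.1 0)
  rw [h5, h6, add_zero, ← hsn, down_of_mem_lim r0 hs]

omit h2 hdr1

theorem sections_exists_smul (n : ℕ) {s : ∀ n, C0 n} (hs : s ∈ sections d0 r0) (hsn : s n = 0) :
    ∃ t ∈ sections d0 r0, s = f ^ (n + 1) • t := by
  obtain ⟨t, ht, rfl⟩ := h0.exists_smul_of_eq_zero n hs.1 hsn
  refine ⟨t, ⟨ht, fun m => ?_⟩, rfl⟩
  have key : ∀ k : ℕ, f ^ k • limMap d0 hdr0 ⟨t, ht⟩ = 0 → limMap d0 hdr0 ⟨t, ht⟩ = 0 := by
    intro k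
    induction k with
    | zero => intro h; simpa using h
    | succ k ih =>
      intro h
      apply ih
      refine Subtype.ext (h1.smul_eq_zero_iff (Subtype.property _) ?_)
      rw [pow_succ', mul_smul] at h
      exact congrArg Subtype.val h
  have h3 : f ^ (n + 1) • limMap d0 hdr0 ⟨t, ht⟩ = 0 := by
    rw [← map_smul]
    exact Subtype.ext (funext fun m => hs.2 m)
  exact congrFun (congrArg Subtype.val (key _ h3)) m

end Complex

section Finite

variable {C0 : ℕ → Type*} [∀ n, AddCommGroup (C0 n)] [∀ n, Module A (C0 n)]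
    {C1 : ℕ → Type*} [∀ n, AddCommGroup (C1 n)] [∀ n, Module A (C1 n)]
    {r0 : ∀ n, C0 (n + 1) →ₗ[A] C0 n} {r1 : ∀ n, C1 (n + 1) →ₗ[A] C1 n}
    (h0 : AdicTower f r0) (h1 : AdicTower f r1)
    (d0 : ∀ n, C0 n →ₗ[A] C1 n)
    (hdr0 : ∀ n s, r1 n (d0 (n + 1) s) = d0 n (r0 n s))

include h0 in
theorem sections_tf {s : ∀ n, C0 n} (hs : s ∈ sections d0 r0) (hsn : f • s = 0) : s = 0 :=
  h0.smul_eq_zero_iff hs.1 hsn

include h0 in
theorem sections_haus : IsHausdorff (Ideal.span {f}) (sections d0 r0) where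
  haus' := by
    intro s hs
    refine Subtype.ext (h0.eq_zero_of_forall fun k => ?_)
    have h2 := hs k
    rw [SModEq.zero, Ideal.span_singleton_pow, Submodule.ideal_span_singleton_smul] at h2
    obtain ⟨t, -, ht⟩ := h2
    exact ⟨t.1, t.2.1, (congrArg Subtype.val ht).symm⟩

include h0 h1 hdr0 in
/-- The module of formal sections is finite. -/
theorem sections_finite [IsPrecomplete (Ideal.span {f}) A] [IsNoetherian A (LinearMap.ker (d0 0))] :
    Module.Finite A (sections d0 r0) := by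
  have := sections_haus h0 d0
  let ev : sections d0 r0 →ₗ[A] LinearMap.ker (d0 0) :=
    ((LinearMap.proj 0).comp (sections d0 r0).subtype).codRestrict _ (fun s => s.2.2 0)
  have hev : ∀ s, ev s = 0 → ∃ t, s = f • t := by
    intro s hs
    obtain ⟨t, ht, h3⟩ := sections_exists_smul h0 h1 d0 hdr0 0 s.2 (congrArg Subtype.val hs)
    exact ⟨⟨t, ht⟩, Subtype.ext (by simpa using h3)⟩
  obtain ⟨S, hS⟩ := (IsNoetherian.noetherian (LinearMap.range ev))
  choose g hg using fun x : S => (show (x : LinearMap.ker (d0 0)) ∈ LinearMap.range ev by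
    rw [← hS]; exact Submodule.subset_span x.2)
  let G : (S → A) →ₗ[A] sections d0 r0 := Fintype.linearCombination A g
  have : IsPrecomplete (Ideal.span {f}) (S → A) := Groth.Agent.FormalA.AdicFin.isPrecomplete_pi _ _
  have hG : Function.Surjective (Submodule.mkQ (Ideal.span {f} • ⊤) ∘ₗ G) := by
    intro y
    obtain ⟨s, rfl⟩ := Submodule.mkQ_surjective _ y
    have h3 : ev s ∈ Submodule.span A (Set.range fun x : S => ev (g x)) := by
      have h4 : (Set.range fun x : S => ev (g x)) = (S : Set _) := by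
        ext z
        simp only [hg, Set.mem_range, Subtype.exists, exists_prop, exists_eq_right]
        rfl
      rw [h4, hS]
      exact ⟨s, rfl⟩
    rw [Submodule.mem_span_range_iff_exists_fun] at h3
    obtain ⟨c, hc⟩ := h3
    refine ⟨c, ?_⟩
    rw [LinearMap.comp_apply, ← sub_eq_zero, ← map_sub, Submodule.mkQ_apply,
      Submodule.Quotient.mk_eq_zero]
    obtain ⟨t, ht⟩ := hev (G c - s) (by
      rw [map_sub, sub_eq_zero, ← hc]
      simp [G, Fintype.linearCombination_apply, map_sum])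
    rw [ht]
    exact Submodule.smul_mem_smul (Ideal.mem_span_singleton_self f) trivial
  exact Module.Finite.of_surjective G (surjective_of_mkQ_comp_surjective hG)

end Finite

end Groth.Agent.Pi1B.FormalAlgebraize
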