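import Groth.Agent.Pi1B.S2Ext
import Groth.Agent.Pi1B.DualBasis
import Groth.Prelude.Def_FEt

set_option autoImplicit false

/-!
# Global sections of finite étale covers of the punctured spectrum of a local ring of depth at least two
-/

universe u

open CategoryTheory AlgebraicGeometry TopologicalSpace Opposite CategoryTheory.Limits

namespace Groth.Agent.Pi1B.GammaProps

open Groth.Agent.Pi1B.RegPair Groth.Agent.Pi1B.Hartogs Groth.Agent.Pi1B.RestrictProp
  Groth.Agent.Pi1B.OpenPair Groth.Agent.Pi1B.RegPairFinite Groth.Agent.Pi1B.S2Ext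
  Groth.Agent.Pi1B.DualBasis

theorem isFinite_restrict {X V : Scheme.{u}} (U : X.Opens) (v : V ⟶ U) [IsFinite v] :
    IsFinite ((v ≫ U.ι) ∣_ U) := by
  have h1 : (pullbackRestrictIsoRestrict (v ≫ U.ι) U).hom ≫ (v ≫ U.ι) ∣_ U = pullback.snd (v ≫ U.ι) U.ι :=
    pullbackRestrictIsoRestrict_hom_morphismRestrict (v ≫ U.ι) U
  have h2 : IsFinite (pullback.snd (v ≫ U.ι) U.ι) := by
    rw [← Groth.Agent.Pi1B.S2Ext.fst_comp]; infer_instance
  have h3 : (v ≫ U.ι) ∣_ U = (pullbackRestrictIsoRestrict (v ≫ U.ι) U).inv ≫ pullback.snd (v ≫ U.ι) U.ι := by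
    rw [← h1, ← Category.assoc, Iso.inv_hom_id, Category.id_comp]
  rw [h3]
  infer_instance

/-- Over `f⁻¹ W`, `W` affine, sections of a finite flat morphism over the open `U` have a dual basis after
inverting any `z` with `D(z) ⊆ U`. -/
theorem hasDualBasis_app {V X : Scheme.{u}} [IsLocallyNoetherian X] (U : X.Opens)
    (f : V ⟶ X) [QuasiCompact f] [QuasiSeparated f] [Flat f] [IsFinite (f ∣_ U)] {W : X.Opens}
    (hW : IsAffineOpen W) (hfin : (f.app W).hom.Finite) (z : Γ(X, W)) (hz : X.basicOpen z ≤ U) :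
    letI := (f.app W).hom.toAlgebra
    HasDualBasis Γ(V, f ⁻¹ᵁ W) z := by
  have hN : IsNoetherianRing Γ(X, W) := IsLocallyNoetherian.component_noetherian ⟨W, hW⟩
  have hfl : (f.app (X.basicOpen z)).hom.Flat := by
    have haff : IsAffineOpen (f ⁻¹ᵁ X.basicOpen z) :=
      isAffineOpen_preimage_of_restrict f U (hW.basicOpen z) hz
    have := f.flat_appLE (hW.basicOpen z) haff le_rfl
    rwa [← Scheme.Hom.app_eq_appLE] at this
  have hfz : (f.app (X.basicOpen z)).hom.Finite := finite_app_of_restrict f U (hW.basicOpen z) hz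
  algebraize [(f.app W).hom, (f.app (X.basicOpen z)).hom]
  have hle : f ⁻¹ᵁ X.basicOpen z ≤ f ⁻¹ᵁ W := f.preimage_mono (X.basicOpen_le z)
  let algB : Algebra Γ(V, f ⁻¹ᵁ W) Γ(V, f ⁻¹ᵁ X.basicOpen z) := (res V hle).toAlgebra
  have hloc : IsLocalization.Away (algebraMap Γ(X, W) Γ(V, f ⁻¹ᵁ W) z) Γ(V, f ⁻¹ᵁ X.basicOpen z) :=
    isLocalization_of_eq_basicOpen (f.isCompact_preimage hW.isCompact)
      (f.isQuasiSeparated_preimage hW.isQuasiSeparated) (f.app W z) (f.preimage_basicOpen z) hle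
  let algA : Algebra Γ(X, W) Γ(V, f ⁻¹ᵁ X.basicOpen z) := (f.appLE W (f ⁻¹ᵁ X.basicOpen z) hle).hom.toAlgebra
  have tow : IsScalarTower Γ(X, W) Γ(V, f ⁻¹ᵁ W) Γ(V, f ⁻¹ᵁ X.basicOpen z) :=
    IsScalarTower.of_algebraMap_eq' rfl
  have hlocA : IsLocalization.Away z Γ(X, X.basicOpen z) := hW.isLocalization_basicOpen z
  have tow2 : (f.app (X.basicOpen z)).hom.comp
      (algebraMap Γ(X, W) Γ(X, X.basicOpen z)) =
        algebraMap Γ(X, W) Γ(V, f ⁻¹ᵁ X.basicOpen z) := by
    change _ = (f.appLE W (f ⁻¹ᵁ X.basicOpen z) hle).hom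
    rw [RingHom.algebraMap_toAlgebra, ← CommRingCat.hom_comp, Scheme.Hom.app_eq_appLE,
      Scheme.Hom.map_appLE]
  have towx : IsScalarTower Γ(X, W) Γ(X, X.basicOpen z) Γ(V, f ⁻¹ᵁ X.basicOpen z) :=
    IsScalarTower.of_algebraMap_eq' tow2.symm
  have hNx : IsNoetherianRing Γ(X, X.basicOpen z) :=
    IsLocalization.isNoetherianRing (.powers z) _ inferInstance
  have : Module.FinitePresentation Γ(X, X.basicOpen z) Γ(V, f ⁻¹ᵁ X.basicOpen z) :=
    Module.finitePresentation_of_finite _ _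
  have hproj : Module.Projective Γ(X, X.basicOpen z) Γ(V, f ⁻¹ᵁ X.basicOpen z) :=
    Module.Flat.projective_of_finitePresentation
  have hL : IsLocalizedModule (.powers z)
      (IsScalarTower.toAlgHom Γ(X, W) Γ(V, f ⁻¹ᵁ W) Γ(V, f ⁻¹ᵁ X.basicOpen z)).toLinearMap := by
    rw [isLocalizedModule_iff_isLocalization, Algebra.algebraMapSubmonoid_powers]
    exact hloc
  exact hasDualBasis_of_projective _ z Γ(X, X.basicOpen z) _
    (IsScalarTower.toAlgHom Γ(X, W) Γ(V, f ⁻¹ᵁ W) Γ(V, f ⁻¹ᵁ X.basicOpen z)).toLinearMap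

theorem hasDualBasis_of_ringEquiv {R S : Type*} [CommRing R] [CommRing S] (e : R ≃+* S) (M : Type*)
    [AddCommGroup M] [Module R M] [Module S M] (hsm : ∀ (r : R) (m : M), r • m = e r • m) (x : R)
    (h : HasDualBasis (R := S) M (e x)) : HasDualBasis (R := R) M x := by
  obtain ⟨k, q, m, φ, h⟩ := h
  refine ⟨k, q, m, fun j =>
    { toFun := fun b => e.symm (φ j b)
      map_add' := fun a b => by rw [map_add, map_add]
      map_smul' := fun r b => by
        rw [hsm, map_smul, smul_eq_mul, map_mul, RingEquiv.symm_apply_apply]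
        rfl }, fun b => ?_⟩
  rw [hsm, map_pow, h b]
  refine Finset.sum_congr rfl fun j _ => ?_
  rw [hsm]
  change φ j b • m j = e (e.symm (φ j b)) • m j
  rw [RingEquiv.apply_symm_apply]

section Punctured

variable (R : Type u) [CommRing R] [IsLocalRing R]

theorem basicOpen_le_puncturedSpec (x : R) (hx : x ∈ IsLocalRing.maximalIdeal R) :
    (Spec (CommRingCat.of R)).basicOpen ((Scheme.ΓSpecIso (CommRingCat.of R)).inv x) ≤
      FEt.puncturedSpec R := by
  rw [basicOpen_eq_of_affine]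
  intro q hq hq'
  have hq'' : q = IsLocalRing.closedPoint R := hq'
  subst hq''
  exact hq hx

variable {V : Scheme.{u}} (v : V ⟶ (FEt.puncturedSpec R : Scheme.{u}))

/-- The structure map of the ring of global sections. -/
noncomputable def gammaMap : R →+* Γ(V, ⊤) :=
  (v ≫ (FEt.puncturedSpec R).ι).appTop.hom.comp (Scheme.ΓSpecIso (CommRingCat.of R)).inv.hom

variable [IsNoetherianRing R] [IsFinite v] [Etale v]

theorem app_top_finite (hd : 2 ≤ LocCoh.depth R R) :
    ((v ≫ (FEt.puncturedSpec R).ι).app ⊤).hom.Finite := by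
  obtain ⟨x, hx, y, hy, hxy⟩ := two_le_depth_iff.mp hd
  let e := (Scheme.ΓSpecIso (CommRingCat.of R)).symm.commRingCatIsoToRingEquiv
  have h1 := hxy.of_ringEquiv e
  have := isFinite_restrict (FEt.puncturedSpec R) v
  have hW : IsAffineOpen (⊤ : (Spec (CommRingCat.of R)).Opens) := isAffineOpen_top _
  have hN : IsNoetherianRing Γ(Spec (CommRingCat.of R), ⊤) :=
    IsLocallyNoetherian.component_noetherian ⟨⊤, hW⟩
  have hfl : ((v ≫ (FEt.puncturedSpec R).ι).app ((Spec (CommRingCat.of R)).basicOpen (e x))).hom.Flat := by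
    have haff : IsAffineOpen ((v ≫ (FEt.puncturedSpec R).ι) ⁻¹ᵁ (Spec (CommRingCat.of R)).basicOpen (e x)) :=
      isAffineOpen_preimage_of_restrict _ (FEt.puncturedSpec R) (hW.basicOpen _)
        (basicOpen_le_puncturedSpec R x hx)
    have := (v ≫ (FEt.puncturedSpec R).ι).flat_appLE (hW.basicOpen (e x)) haff le_rfl
    rwa [← Scheme.Hom.app_eq_appLE] at this
  exact finite_app_of_isRegPair (v ≫ (FEt.puncturedSpec R).ι) hW h1
    (finite_app_of_restrict _ (FEt.puncturedSpec R) (hW.basicOpen _) (basicOpen_le_puncturedSpec R x hx)) hfl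
    (finite_app_of_restrict _ (FEt.puncturedSpec R) (hW.basicOpen _) (basicOpen_le_puncturedSpec R y hy))

theorem gammaMap_finite (hd : 2 ≤ LocCoh.depth R R) : (gammaMap R v).Finite := by
  refine RingHom.Finite.comp (app_top_finite R v hd) ?_
  exact RingHom.Finite.of_surjective _
    ((ConcreteCategory.isIso_iff_bijective (Scheme.ΓSpecIso (CommRingCat.of R)).inv).mp inferInstance).2

theorem gammaMap_hasDualBasis (hd : 2 ≤ LocCoh.depth R R) (x : R) (hx : x ∈ IsLocalRing.maximalIdeal R) :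
    letI := (gammaMap R v).toAlgebra
    HasDualBasis (R := R) Γ(V, ⊤) x := by
  have := isFinite_restrict (FEt.puncturedSpec R) v
  have hW : IsAffineOpen (⊤ : (Spec (CommRingCat.of R)).Opens) := isAffineOpen_top _
  let e := (Scheme.ΓSpecIso (CommRingCat.of R)).symm.commRingCatIsoToRingEquiv
  have h := hasDualBasis_app (FEt.puncturedSpec R) (v ≫ (FEt.puncturedSpec R).ι) hW
    (app_top_finite R v hd) (e x) (basicOpen_le_puncturedSpec R x hx)
  let : Algebra Γ(Spec (CommRingCat.of R), ⊤) Γ(V, ⊤) := ((v ≫ (FEt.puncturedSpec R).ι).app ⊤).hom.toAlgebra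
  let := (gammaMap R v).toAlgebra
  exact hasDualBasis_of_ringEquiv e Γ(V, ⊤) (fun r b => rfl) x h

end Punctured

end Groth.Agent.Pi1B.GammaProps
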