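import Groth.Agent.Pi1B.RegPair
import Mathlib.AlgebraicGeometry.Morphisms.QuasiSeparated
import Mathlib.AlgebraicGeometry.Morphisms.Flat

/-!
# Hartogs-type extension of sections across a regular pair
-/

set_option autoImplicit false

universe u

open CategoryTheory AlgebraicGeometry TopologicalSpace Opposite

namespace Groth.Agent.Pi1B.Hartogs

open Groth.Agent.Pi1B.RegPair

/-- restriction of sections as a ring hom -/
noncomputable abbrev res (V : Scheme.{u}) {T T' : V.Opens} (h : T' ≤ T) : Γ(V, T) →+* Γ(V, T') :=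
  (V.presheaf.map (homOfLE h).op).hom

theorem res_res (V : Scheme.{u}) {T T' T'' : V.Opens} (h : T' ≤ T) (h' : T'' ≤ T') (s : Γ(V, T)) :
    res V h' (res V h s) = res V (h'.trans h) s := by
  simp only [res, ← CommRingCat.comp_apply, ← Functor.map_comp]
  rfl

theorem res_self (V : Scheme.{u}) {T : V.Opens} (h : T ≤ T) (s : Γ(V, T)) : res V h s = s := by
  have : (homOfLE h).op = 𝟙 (op T) := rfl
  simp only [res, this, CategoryTheory.Functor.map_id]
  rfl

theorem basicOpen_res' (V : Scheme.{u}) {T T' : V.Opens} (h : T' ≤ T) (s : Γ(V, T)) :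
    V.basicOpen (res V h s) = T' ⊓ V.basicOpen s :=
  V.basicOpen_res s (homOfLE h).op

/-- separatedness: two sections which agree on all affine opens inside `T` agree. -/
theorem eq_of_affine (V : Scheme.{u}) {T : V.Opens} (s t : Γ(V, T))
    (h : ∀ (T' : V.Opens) (hT' : T' ≤ T), IsAffineOpen T' → res V hT' s = res V hT' t) : s = t := by
  let ι := {T' : V.Opens // T' ≤ T ∧ IsAffineOpen T'}
  refine V.sheaf.eq_of_locally_eq' (fun i : ι => i.1) T (fun i => homOfLE i.2.1) ?_ s t ?_
  · intro x hx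
    obtain ⟨_, ⟨T', hT', rfl⟩, hxT', hle⟩ := V.isBasis_affineOpens.exists_subset_of_mem_open hx T.2
    exact Opens.mem_iSup.mpr ⟨⟨T', hle, hT'⟩, hxT'⟩
  · intro i
    exact h i.1 i.2.1 i.2.2

/-- gluing from all affine opens inside `T`. -/
theorem exists_glue_affine (V : Scheme.{u}) {T : V.Opens}
    (c : ∀ (T' : V.Opens), T' ≤ T → IsAffineOpen T' → Γ(V, T'))
    (hc : ∀ (T' T'' : V.Opens) (h' : T' ≤ T) (h'' : T'' ≤ T) (ha' : IsAffineOpen T')
      (ha'' : IsAffineOpen T'') (hle : T'' ≤ T'), res V hle (c T' h' ha') = c T'' h'' ha'') :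
    ∃ s : Γ(V, T), ∀ (T' : V.Opens) (h' : T' ≤ T) (ha' : IsAffineOpen T'),
      res V h' s = c T' h' ha' := by
  let ι := {T' : V.Opens // T' ≤ T ∧ IsAffineOpen T'}
  obtain ⟨s, hs, -⟩ := V.sheaf.existsUnique_gluing' (fun i : ι => i.1) T
    (fun i => homOfLE i.2.1) (by
      intro x hx
      obtain ⟨_, ⟨T', hT', rfl⟩, hxT', hle⟩ :=
        V.isBasis_affineOpens.exists_subset_of_mem_open hx T.2
      exact Opens.mem_iSup.mpr ⟨⟨T', hle, hT'⟩, hxT'⟩)
    (fun i => c i.1 i.2.1 i.2.2) (by
      intro i j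
      change res V inf_le_left (c i.1 i.2.1 i.2.2) = res V inf_le_right (c j.1 j.2.1 j.2.2)
      refine eq_of_affine V _ _ fun T' hT' haT' => ?_
      rw [res_res, res_res, hc i.1 T' i.2.1 (hT'.trans (inf_le_left.trans i.2.1)) i.2.2 haT',
        hc j.1 T' j.2.1 (hT'.trans (inf_le_left.trans i.2.1)) j.2.2 haT'])
  exact ⟨s, fun T' h' ha' => hs ⟨T', h', ha'⟩⟩

/-- A pair of sections on `T` which is a regular pair on all affine opens contained in `T`. -/
def IsRegPairOn (V : Scheme.{u}) {T : V.Opens} (a b : Γ(V, T)) : Prop :=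
  ∀ (T' : V.Opens) (hT' : T' ≤ T), IsAffineOpen T' →
    IsRegPair Γ(V, T') (res V hT' a) (res V hT' b)

theorem IsRegPairOn.mono {V : Scheme.{u}} {T T' : V.Opens} (hT' : T' ≤ T) {a b : Γ(V, T)}
    (h : IsRegPairOn V a b) : IsRegPairOn V (res V hT' a) (res V hT' b) := by
  intro T'' hT'' ha
  rw [res_res, res_res]
  exact h T'' _ ha

/-- A regular pair locally is a regular pair. -/
theorem IsRegPairOn.isRegPair {V : Scheme.{u}} {T : V.Opens} {a b : Γ(V, T)}
    (h : IsRegPairOn V a b) : IsRegPair Γ(V, T) a b := by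
  have h1 : ∀ m : Γ(V, T), a • m = 0 → m = 0 := by
    intro m hm
    refine eq_of_affine V _ _ fun T' hT' ha => ?_
    rw [map_zero]
    apply (h T' hT' ha).reg
    have := congrArg (res V hT') hm
    simpa using this
  refine ⟨h1, fun m m' hmm' => ?_⟩
  have hloc : ∀ (T' : V.Opens) (hT' : T' ≤ T), IsAffineOpen T' →
      ∃ c : Γ(V, T'), res V hT' m = res V hT' a * c := by
    intro T' hT' ha
    have := congrArg (res V hT') hmm'
    simp only [smul_eq_mul, map_mul] at this
    obtain ⟨c, hc⟩ := (h T' hT' ha).reg₂ _ _ this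
    exact ⟨c, hc⟩
  choose c hc using hloc
  obtain ⟨s, hs⟩ := exists_glue_affine V c (by
    intro T' T'' h' h'' ha' ha'' hle
    have e1 : res V h'' a * (res V hle (c T' h' ha') - c T'' h'' ha'') = 0 := by
      rw [mul_sub, ← hc, sub_eq_zero, ← res_res V h' hle a, ← map_mul, ← hc, res_res]
    exact sub_eq_zero.mp ((h T'' h'' ha'').reg _ e1))
  refine ⟨s, eq_of_affine V _ _ fun T' hT' ha => ?_⟩
  rw [hc T' hT' ha, smul_eq_mul, map_mul, hs T' hT' ha]

/-- If `U ≤ T` contains `D(a)`, restriction `Γ(T) → Γ(U)` is injective. -/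
theorem IsRegPairOn.res_injective {V : Scheme.{u}} {T U : V.Opens} {a b : Γ(V, T)}
    (h : IsRegPairOn V a b) (hU : U ≤ T) (hUa : V.basicOpen a ≤ U) :
    Function.Injective (res V hU) := by
  rw [injective_iff_map_eq_zero]
  intro s hs
  refine eq_of_affine V _ _ fun T' hT' ha => ?_
  rw [map_zero]
  obtain ⟨n, hn⟩ := exists_pow_mul_eq_zero_of_res_basicOpen_eq_zero_of_isAffineOpen V ha
    (res V hT' s) (res V hT' a) (by
      change res V (V.basicOpen_le _) (res V hT' s) = 0
      have hle : V.basicOpen (res V hT' a) ≤ U := by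
        rw [basicOpen_res']; exact inf_le_right.trans hUa
      rw [res_res, ← res_res V hU hle, hs, map_zero])
  exact ((h T' hT' ha).pow_left n).reg _ hn

/-- Hartogs: if `U ≤ T` contains `D(a)` and `D(b)` for a regular pair `(a, b)`, restriction
`Γ(T) → Γ(U)` is bijective. -/
theorem IsRegPairOn.res_bijective {V : Scheme.{u}} {T U : V.Opens} {a b : Γ(V, T)}
    (h : IsRegPairOn V a b) (hU : U ≤ T) (hUa : V.basicOpen a ≤ U) (hUb : V.basicOpen b ≤ U) :
    Function.Bijective (res V hU) := by
  refine ⟨h.res_injective hU hUa, fun s => ?_⟩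
  -- local solutions
  have hloc : ∀ (T' : V.Opens) (hT' : T' ≤ T), IsAffineOpen T' →
      ∃ c : Γ(V, T'), res V (inf_le_left : T' ⊓ U ≤ T') c = res V (inf_le_right : T' ⊓ U ≤ U) s := by
    intro T' hT' haf
    have hreg := h T' hT' haf
    have hDa : V.basicOpen (res V hT' a) ≤ U := by
      rw [basicOpen_res']; exact inf_le_right.trans hUa
    have hDb : V.basicOpen (res V hT' b) ≤ U := by
      rw [basicOpen_res']; exact inf_le_right.trans hUb
    obtain ⟨n, c, hc⟩ := exists_eq_pow_mul_of_isAffineOpen V T' haf (res V hT' a)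
      (res V hDa s)
    obtain ⟨m, c', hc'⟩ := exists_eq_pow_mul_of_isAffineOpen V T' haf (res V hT' b)
      (res V hDb s)
    set a' := res V hT' a with ha'
    set b' := res V hT' b with hb'
    change res V (V.basicOpen_le _) c = (res V (V.basicOpen_le _) a') ^ n * res V hDa s at hc
    change res V (V.basicOpen_le _) c' = (res V (V.basicOpen_le _) b') ^ m * res V hDb s at hc'
    have hab : V.basicOpen (a' * b') ≤ V.basicOpen a' := by
      rw [V.basicOpen_mul]; exact inf_le_left
    have hab' : V.basicOpen (a' * b') ≤ V.basicOpen b' := by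
      rw [V.basicOpen_mul]; exact inf_le_right
    obtain ⟨k, hk⟩ := exists_pow_mul_eq_zero_of_res_basicOpen_eq_zero_of_isAffineOpen V haf
      (b' ^ m * c - a' ^ n * c') (a' * b') (by
        change res V (V.basicOpen_le _) _ = 0
        have e1 : res V (V.basicOpen_le (a' * b')) c =
            (res V (V.basicOpen_le _) a') ^ n * res V (hab.trans hDa) s := by
          rw [← res_res V (V.basicOpen_le _) hab c, hc, map_mul, map_pow, res_res V _ _ s]
          simp only [res_res]
        have e2 : res V (V.basicOpen_le (a' * b')) c' =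
            (res V (V.basicOpen_le _) b') ^ m * res V (hab.trans hDa) s := by
          rw [← res_res V (V.basicOpen_le _) hab' c', hc', map_mul, map_pow, res_res V _ _ s]
          simp only [res_res]
        rw [map_sub, map_mul, map_mul, map_pow, map_pow, e1, e2]
        ring)
    have h2 : b' ^ k * (b' ^ m * c - a' ^ n * c') = 0 := by
      apply (hreg.pow_left k).reg
      rw [smul_eq_mul, ← hk]; ring
    have h3 : b' ^ (k + m) • c = a' ^ n • (b' ^ k * c') := by
      rw [mul_sub, sub_eq_zero] at h2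
      simp only [smul_eq_mul]
      rw [pow_add, mul_assoc, h2]; ring
    obtain ⟨d, hd⟩ := (hreg.pow n (k + m)).reg₂ _ _ h3
    refine ⟨d, ?_⟩
    -- d = s on D(a')
    have h4 : res V (V.basicOpen_le a') d = res V hDa s := by
      have hu : IsUnit ((res V (V.basicOpen_le a') a') ^ n) :=
        (RingedSpace.isUnit_res_basicOpen _ a').pow n
      apply hu.mul_left_cancel
      rw [← hc, hd, smul_eq_mul, map_mul, map_pow]
    -- hence on T' ⊓ U
    have hreg' : IsRegPairOn V (res V (inf_le_left : T' ⊓ U ≤ T') a')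
        (res V (inf_le_left : T' ⊓ U ≤ T') b') := by
      have := (h.mono hT').mono (inf_le_left : T' ⊓ U ≤ T')
      exact this
    refine hreg'.res_injective (U := V.basicOpen (res V (inf_le_left : T' ⊓ U ≤ T') a'))
      (V.basicOpen_le _) le_rfl ?_
    have hle : V.basicOpen (res V (inf_le_left : T' ⊓ U ≤ T') a') ≤ V.basicOpen a' := by
      rw [basicOpen_res']; exact inf_le_right
    have h5 := congrArg (res V hle) h4
    rw [res_res V _ _ d, res_res V _ _ s] at h5
    rw [res_res V _ _ d, res_res V _ _ s]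
    exact h5
  choose c hc using hloc
  obtain ⟨t, ht⟩ := exists_glue_affine V c (by
    intro T' T'' h' h'' ha' ha'' hle
    have hreg' : IsRegPairOn V (res V h'' a) (res V h'' b) := h.mono h''
    refine hreg'.res_injective (U := T'' ⊓ U) inf_le_left (by
      rw [basicOpen_res']
      exact inf_le_inf le_rfl hUa) ?_
    rw [hc T'' h'' ha'', res_res, ← res_res V (inf_le_left : T' ⊓ U ≤ T')
      (inf_le_inf hle le_rfl : T'' ⊓ U ≤ T' ⊓ U), hc T' h' ha', res_res])
  refine ⟨t, eq_of_affine V _ _ fun T' hT' ha => ?_⟩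
  have h1 := congrArg (res V (le_inf le_rfl hT' : T' ≤ T' ⊓ U)) (hc T' (hT'.trans hU) ha)
  rw [res_res, res_res, res_self, ← ht T' (hT'.trans hU) ha] at h1
  rw [res_res, h1]

/-- Regular pairs pull back under flat morphisms. -/
theorem isRegPairOn_of_flat {V X : Scheme.{u}} (f : V ⟶ X) [Flat f] {W : X.Opens}
    (hW : IsAffineOpen W) {x y : Γ(X, W)} (h : IsRegPair Γ(X, W) x y) :
    IsRegPairOn V (f.app W x) (f.app W y) := by
  intro T' hT' ha
  have hfl : (f.appLE W T' hT').hom.Flat := f.flat_appLE hW ha hT'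
  algebraize [(f.appLE W T' hT').hom]
  have := IsRegPair.map_flat (B := Γ(V, T')) h
  have e : ∀ z : Γ(X, W), res V hT' (f.app W z) = algebraMap Γ(X, W) Γ(V, T') z := by
    intro z
    rfl
  rw [e, e]
  exact this

end Groth.Agent.Pi1B.Hartogs
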