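import Mathlib.AlgebraicGeometry.Pullbacks
import Mathlib.AlgebraicGeometry.AffineTransitionLimit

/-!
# Pulling back a diagram over `S` along `f : X ⟶ S`

`pullDiag D t f` is the diagram `j ↦ X ×_S D j`; `isLimitPullCone`: if `J` is connected and `c` is a
limit cone over `D` then `X ×_S c.pt` is the limit of `pullDiag D t f`.
-/

universe w v u w'

open CategoryTheory CategoryTheory.Limits AlgebraicGeometry

namespace Groth.Agent.Pi1B.LimPull

section general

variable {J : Type w'} [Category.{w} J] {C : Type u} [Category.{v} C]  {S X : C}
  (D : J ⥤ C) (t : D ⟶ (Functor.const J).obj S) (f : X ⟶ S)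

/-- The structure map to the base. -/
def str (j : J) : D.obj j ⟶ S := t.app j

@[reassoc (attr := simp)]
lemma map_str {i j : J} (h : i ⟶ j) : D.map h ≫ str D t j = str D t i := by
  have := t.naturality h
  simpa [str] using this

variable [HasPullbacks C]

set_option backward.isDefEq.respectTransparency false in
/-- The diagram `j ↦ X ×_S D j`. -/
noncomputable def pullDiag : J ⥤ C where
  obj j := pullback f (str D t j)
  map {i j} h := pullback.lift (pullback.fst _ _) (pullback.snd _ _ ≫ D.map h)
    (by rw [Category.assoc, map_str, pullback.condition])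
  map_id i := by
    apply pullback.hom_ext <;> simp
  map_comp {i j l} h h' := by
    apply pullback.hom_ext <;> simp

/-- First projection. -/
noncomputable def fst (j : J) : (pullDiag D t f).obj j ⟶ X := pullback.fst f (str D t j)

/-- Second projection. -/
noncomputable def snd (j : J) : (pullDiag D t f).obj j ⟶ D.obj j := pullback.snd f (str D t j)

lemma isPullback (j : J) : IsPullback (fst D t f j) (snd D t f j) f (str D t j) :=
  IsPullback.of_hasPullback f (str D t j)

@[reassoc (attr := simp)]
lemma map_fst {i j : J} (h : i ⟶ j) :
    (pullDiag D t f).map h ≫ fst D t f j = fst D t f i :=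
  pullback.lift_fst _ _ _

@[reassoc (attr := simp)]
lemma map_snd {i j : J} (h : i ⟶ j) :
    (pullDiag D t f).map h ≫ snd D t f j = snd D t f i ≫ D.map h :=
  pullback.lift_snd _ _ _

@[reassoc]
lemma condition (j : J) : fst D t f j ≫ f = snd D t f j ≫ str D t j := pullback.condition

/-- The projection from `pullDiag` to the original diagram. -/
noncomputable def pullSnd : pullDiag D t f ⟶ D where
  app j := snd D t f j
  naturality _ _ h := map_snd D t f h

/-- The projection from `pullDiag` to `X`. -/
noncomputable def pullFst : pullDiag D t f ⟶ (Functor.const J).obj X where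
  app j := fst D t f j
  naturality _ _ h := (map_fst D t f h).trans (Category.comp_id _).symm

lemma isPullback_map {i j : J} (h : i ⟶ j) :
    IsPullback ((pullDiag D t f).map h) (snd D t f i) (snd D t f j) (D.map h) := by
  refine IsPullback.of_right (h₁₂ := fst D t f j) (h₂₂ := str D t j) (v₁₃ := f)
    ?_ (by simp) (isPullback D t f j)
  rw [map_fst, map_str]
  exact isPullback D t f i

variable {D} (c : Cone D) (s : c.pt ⟶ S) (hs : ∀ j, c.π.app j ≫ str D t j = s)

set_option backward.isDefEq.respectTransparency false in
/-- The cone with point `P = X ×_S c.pt`. -/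
noncomputable def pullCone {P : C} {p : P ⟶ X} {q : P ⟶ c.pt} (hP : IsPullback p q f s) :
    Cone (pullDiag D t f) where
  pt := P
  π := { app := fun j => (isPullback D t f j).lift p (q ≫ c.π.app j)
          (by rw [Category.assoc, hs, hP.w])
         naturality := fun i j h => by
          apply (isPullback D t f j).hom_ext <;> simp }

variable {P : C} {p : P ⟶ X} {q : P ⟶ c.pt} (hP : IsPullback p q f s)

@[reassoc (attr := simp)]
lemma pullCone_fst (j : J) :
    (pullCone t f c s hs hP).π.app j ≫ fst D t f j = p :=
  IsPullback.lift_fst _ _ _ _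

@[reassoc (attr := simp)]
lemma pullCone_snd (j : J) :
    (pullCone t f c s hs hP).π.app j ≫ snd D t f j = q ≫ c.π.app j :=
  IsPullback.lift_snd _ _ _ _

lemma isPullback_π (j : J) :
    IsPullback ((pullCone t f c s hs hP).π.app j) q (snd D t f j)
      (c.π.app j) := by
  refine IsPullback.of_right (h₁₂ := fst D t f j) (h₂₂ := str D t j) (v₁₃ := f)
    ?_ (by exact pullCone_snd t f c s hs hP j) (isPullback D t f j)
  rw [hs]
  have := pullCone_fst t f c s hs hP j
  rw [this]
  exact hP

/-- `X ×_S c.pt` is the limit of `X ×_S D j`. -/
noncomputable def isLimitPullCone [CategoryTheory.IsConnected J] (hc : IsLimit c) :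
    IsLimit (pullCone t f c s hs hP) :=
  isLimitOfIsPullbackOfIsConnected (pullSnd D t f) _ c
    { hom := q
      w := fun j => (pullCone_snd t f c s hs hP j).symm }
    (fun j => isPullback_π t f c s hs hP j) hc

end general

section scheme

variable {J : Type w'} [Category.{w} J] {S X : Scheme.{u}}
  (D : J ⥤ Scheme.{u}) (t : D ⟶ (Functor.const J).obj S) (f : X ⟶ S)

instance isAffineHom_pullDiag_map [∀ {i j : J} (h : i ⟶ j), IsAffineHom (D.map h)] {i j : J}
    (h : i ⟶ j) : IsAffineHom ((pullDiag D t f).map h) :=
  MorphismProperty.of_isPullback (isPullback_map D t f h).flip inferInstance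

instance compactSpace_pullDiag_obj [QuasiCompact f] [∀ j, CompactSpace (D.obj j)] (j : J) :
    CompactSpace ((pullDiag D t f).obj j) :=
  have : QuasiCompact (snd D t f j) := MorphismProperty.of_isPullback (isPullback D t f j) ‹_›
  QuasiCompact.compactSpace_of_compactSpace (snd D t f j)

instance quasiSeparatedSpace_pullDiag_obj [QuasiSeparated f] [∀ j, QuasiSeparatedSpace (D.obj j)]
    (j : J) : QuasiSeparatedSpace ((pullDiag D t f).obj j) :=
  have : QuasiSeparated (snd D t f j) := MorphismProperty.of_isPullback (isPullback D t f j) ‹_›
  quasiSeparatedSpace_of_quasiSeparated (snd D t f j)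

end scheme

end Groth.Agent.Pi1B.LimPull
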