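import Mathlib.FieldTheory.IsAlgClosed.AlgebraicClosure
import Mathlib.FieldTheory.IntermediateField.Algebraic
import Mathlib.AlgebraicGeometry.Pullbacks
import Mathlib.AlgebraicGeometry.AffineTransitionLimit
import Mathlib.Algebra.Category.Ring.FilteredColimits
import Groth.Agent.Pi1B.LimPull

/-!
# An algebraic field extension as the limit of its finite subextensions (as schemes)

For an algebraic extension `K / k` and a morphism `f : X ⟶ Spec k`, the scheme `X ×_k K` is the
cofiltered limit of the `X ×_k F` for `F` running over the finite subextensions.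
-/

universe u

open CategoryTheory CategoryTheory.Limits AlgebraicGeometry

namespace Groth.Agent.Pi1B.LimField

variable (k K : Type u) [Field k] [Field K] [Algebra k K]

/-- Finite subextensions of `K / k`. -/
abbrev FinSub : Type u := {F : IntermediateField k K // FiniteDimensional k F}

instance (F : FinSub k K) : FiniteDimensional k F.1 := F.2

instance : Nonempty (FinSub k K) := ⟨⟨⊥, inferInstance⟩⟩

instance : IsDirectedOrder (FinSub k K) where
  directed F G := by
    have := F.2
    have := G.2
    exact ⟨⟨F.1 ⊔ G.1, inferInstance⟩, le_sup_left (a := F.1) (b := G.1),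
      le_sup_right (a := F.1) (b := G.1)⟩

instance : IsFiltered (FinSub k K) := inferInstance

instance : IsCofiltered (FinSub k K)ᵒᵖ := inferInstance

/-- The functor of finite subextensions. -/
noncomputable def ringFunctor : FinSub k K ⥤ CommRingCat.{u} where
  obj F := CommRingCat.of F.1
  map {F G} h := CommRingCat.ofHom (IntermediateField.inclusion (leOfHom h : F.1 ≤ G.1)).toRingHom

/-- The cocone with point `K`. -/
noncomputable def ringCocone : Cocone (ringFunctor k K) where
  pt := CommRingCat.of K
  ι := { app := fun F => CommRingCat.ofHom (algebraMap F.1 K) }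

/-- `K` is the colimit of its finite subextensions. -/
noncomputable def isColimitRingCocone [Algebra.IsAlgebraic k K] :
    IsColimit (ringCocone k K) := by
  have : ReflectsColimitsOfShape (FinSub k K) (forget CommRingCat.{u}) :=
    reflectsColimitsOfShape_of_reflectsIsomorphisms
  refine isColimitOfReflects (forget CommRingCat) ?_
  refine Types.FilteredColimit.isColimitOf' _ _ ?_ ?_
  · intro (x : K)
    have hx : _root_.IsIntegral k x := Algebra.IsIntegral.isIntegral (R := k) x
    exact ⟨⟨IntermediateField.adjoin k {x},
      IntermediateField.adjoin.finiteDimensional hx⟩,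
      ⟨x, IntermediateField.mem_adjoin_simple_self k x⟩, rfl⟩
  · intro F x y hxy
    exact ⟨F, 𝟙 F, by
      have : x = y := Subtype.ext hxy
      rw [this]⟩

/-- The diagram of the spectra of the finite subextensions. -/
noncomputable def specFunctor : (FinSub k K)ᵒᵖ ⥤ Scheme.{u} :=
  (ringFunctor k K).op ⋙ Scheme.Spec

/-- The cone over `specFunctor` with point `Spec K`. -/
noncomputable def specCone : Cone (specFunctor k K) where
  pt := Spec (CommRingCat.of K)
  π := { app := fun F => Spec.map (CommRingCat.ofHom (algebraMap F.unop.1 K))
         naturality := fun F G h => by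
          dsimp [specFunctor]
          rw [Category.id_comp, ← Spec.map_comp]
          rfl }

noncomputable def isLimitSpecCone [Algebra.IsAlgebraic k K] : IsLimit (specCone k K) :=
  (isLimitOfPreserves Scheme.Spec (isColimitRingCocone k K).op)

/-- The map `Spec F ⟶ Spec k`. -/
noncomputable abbrev toBase (F : Type u) [Field F] [Algebra k F] :
    Spec (CommRingCat.of F) ⟶ Spec (CommRingCat.of k) :=
  Spec.map (CommRingCat.ofHom (algebraMap k F))

/-- The structure map of `specFunctor`. -/
noncomputable def specBase : specFunctor k K ⟶ (Functor.const _).obj (Spec (CommRingCat.of k)) where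
  app F := toBase k F.unop.1
  naturality F G h := by
    refine Eq.trans ?_ (Category.comp_id _).symm
    exact (Spec.map_comp (CommRingCat.ofHom (algebraMap k G.unop.1))
      (CommRingCat.ofHom (IntermediateField.inclusion
        (leOfHom h.unop : G.unop.1 ≤ F.unop.1)).toRingHom)).symm

instance : ∀ {i j : (FinSub k K)ᵒᵖ} (h : i ⟶ j), IsAffineHom ((specFunctor k K).map h) := by
  intro i j h
  exact inferInstanceAs (IsAffineHom (Spec.map _))

instance (F : (FinSub k K)ᵒᵖ) : CompactSpace ((specFunctor k K).obj F) :=
  inferInstanceAs (CompactSpace (Spec (CommRingCat.of F.unop.1)))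

instance (F : (FinSub k K)ᵒᵖ) : QuasiSeparatedSpace ((specFunctor k K).obj F) :=
  inferInstanceAs (QuasiSeparatedSpace (Spec (CommRingCat.of F.unop.1)))

variable {X : Scheme.{u}} (f : X ⟶ Spec (CommRingCat.of k))

/-- The diagram `F ↦ X ×_k F`. -/
noncomputable abbrev diag : (FinSub k K)ᵒᵖ ⥤ Scheme.{u} :=
  LimPull.pullDiag (specFunctor k K) (specBase k K) f

lemma specCone_str (F : (FinSub k K)ᵒᵖ) :
    (specCone k K).π.app F ≫ LimPull.str _ (specBase k K) F = toBase k K :=
  (Spec.map_comp (CommRingCat.ofHom (algebraMap k F.unop.1))
    (CommRingCat.ofHom (algebraMap F.unop.1 K))).symm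

/-- The cone over `diag` with point `X ×_k K`. -/
noncomputable abbrev cone : Cone (diag k K f) :=
  LimPull.pullCone (specBase k K) f (specCone k K) (toBase k K) (specCone_str k K)
    (IsPullback.of_hasPullback f (toBase k K))

noncomputable def isLimitCone [Algebra.IsAlgebraic k K] : IsLimit (cone k K f) :=
  have : CategoryTheory.IsConnected (FinSub k K)ᵒᵖ := IsCofiltered.isConnected _
  LimPull.isLimitPullCone (specBase k K) f (specCone k K) (toBase k K) (specCone_str k K)
    (IsPullback.of_hasPullback f (toBase k K)) (isLimitSpecCone k K)

end Groth.Agent.Pi1B.LimField
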