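import Mathlib.Algebra.MvPolynomial.Monad
import Mathlib.Data.List.Indexes
import Mathlib.RingTheory.IntegralClosure.IsIntegralClosure.Basic
import Mathlib.RingTheory.NoetherNormalization

/-!
# Noether normalization substitution with exponents divisible by a given number

Adapted from Mathlib's `NoetherNormalization` (whose lemmas are private): the exponents are
the powers `N ^ i` of an arbitrary number `N > totalDegree f`.
Main result: `isIntegral_of_relation`.
-/

set_option autoImplicit false

open Polynomial MvPolynomial Nat List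

namespace Groth.Agent.Pi1B.NoetherP

variable {k : Type*} [Field k] {n : ℕ} (f : MvPolynomial (Fin (n + 1)) k) (N : ℕ)
variable (v w : Fin (n + 1) →₀ ℕ)

/-- the substitution `X_0 ↦ X_0`, `X_i ↦ X_i + X_0 ^ (N ^ i)`. -/
noncomputable def T : MvPolynomial (Fin (n + 1)) k →ₐ[k] MvPolynomial (Fin (n + 1)) k :=
  aeval fun i ↦ if i = 0 then X 0 else X i + X 0 ^ (N ^ i.1)

lemma T_C (a : k) : T (n := n) N (MvPolynomial.C a) = MvPolynomial.C a := by
  simp [T]

lemma T_X_zero : T (k := k) (n := n) N (X 0) = X 0 := by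
  simp [T]

lemma T_X_succ (i : Fin n) :
    T (k := k) (n := n) N (X i.succ) = X i.succ + X 0 ^ (N ^ (i.1 + 1)) := by
  simp [T, Fin.succ_ne_zero]

lemma sum_r_mul_ne (hN : 1 < N) (vlt : ∀ i, v i < N) (wlt : ∀ i, w i < N) (ne : v ≠ w) :
    ∑ x : Fin (n + 1), N ^ x.1 * v x ≠ ∑ x : Fin (n + 1), N ^ x.1 * w x := by
  intro h
  refine ne <| Finsupp.ext <| congrFun <| ofFn_inj.mp ?_
  have lt_up : ∀ (v : Fin (n + 1) →₀ ℕ), (∀ i, v i < N) → ∀ l ∈ ofFn v, l < N := by
    intro v vlt l hl
    rw [List.mem_ofFn] at hl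
    obtain ⟨i, rfl⟩ := hl
    exact vlt i
  apply ofDigits_inj_of_len_eq hN (by simp) (lt_up v vlt) (lt_up w wlt)
  simpa only [ofDigits_eq_sum_mapIdx, mapIdx_eq_ofFn, get_ofFn, length_ofFn,
    Fin.val_cast, mul_comm, sum_ofFn] using! h

lemma finSuccEquiv_T_monomial (a : k) :
    finSuccEquiv k n (T N (monomial v a)) =
      Polynomial.C (MvPolynomial.C a) * (Polynomial.X ^ v 0 *
        ∏ i : Fin n, (Polynomial.C (X (R := k) i) + Polynomial.X ^ (N ^ (i.1 + 1))) ^ v i.succ) := by
  rw [monomial_eq, Finsupp.prod_pow v fun a ↦ X a]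
  simp only [Fin.prod_univ_succ, map_mul, map_prod, map_pow, T_C, T_X_zero, T_X_succ, map_add,
    finSuccEquiv_X_zero, finSuccEquiv_X_succ]
  congr 1
  simp [finSuccEquiv_apply]

lemma natDegree_aux (i : Fin n) :
    (Polynomial.C (X (R := k) i) + Polynomial.X ^ (N ^ (i.1 + 1)) :
      Polynomial (MvPolynomial (Fin n) k)).natDegree = N ^ (i.1 + 1) := by
  rw [add_comm (Polynomial.C _), natDegree_X_pow_add_C]

lemma monic_aux (i : Fin n) (hN : 1 < N) :
    (Polynomial.C (X (R := k) i) + Polynomial.X ^ (N ^ (i.1 + 1)) :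
      Polynomial (MvPolynomial (Fin n) k)).Monic := by
  rw [add_comm (Polynomial.C _)]
  exact Polynomial.monic_X_pow_add_C _ (by positivity)

lemma monic_aux' (hN : 1 < N) :
    (Polynomial.X ^ v 0 *
        ∏ i : Fin n, (Polynomial.C (X (R := k) i) + Polynomial.X ^ (N ^ (i.1 + 1))) ^ v i.succ :
      Polynomial (MvPolynomial (Fin n) k)).Monic := by
  refine (Polynomial.monic_X_pow _).mul (Polynomial.monic_prod_of_monic _ _ fun i _ => ?_)
  exact (monic_aux N i hN).pow _

lemma natDegree_monomial (hN : 1 < N) {a : k} (ha : a ≠ 0) :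
    (finSuccEquiv k n (T N (monomial v a))).natDegree = ∑ i : Fin (n + 1), N ^ i.1 * v i := by
  rw [finSuccEquiv_T_monomial, natDegree_C_mul (by simpa using ha),
    Polynomial.Monic.natDegree_mul (Polynomial.monic_X_pow _)
      (Polynomial.monic_prod_of_monic _ _ fun i _ => (monic_aux N i hN).pow _),
    Polynomial.natDegree_prod_of_monic _ _ (fun i _ => (monic_aux N i hN).pow _)]
  simp only [Polynomial.natDegree_X_pow, Fin.sum_univ_succ, Fin.val_zero, pow_zero, one_mul,
    Fin.val_succ]
  congr 1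
  refine Finset.sum_congr rfl fun i _ => ?_
  rw [(monic_aux N i hN).natDegree_pow, natDegree_aux N i, mul_comm]

lemma leadingCoeff_monomial (hN : 1 < N) (a : k) :
    (finSuccEquiv k n (T N (monomial v a))).leadingCoeff = MvPolynomial.C a := by
  rw [finSuccEquiv_T_monomial, Polynomial.leadingCoeff_mul_monic (monic_aux' N v hN)]
  simp

/-- `T` maps `f` to a polynomial in `X_0` whose leading coefficient is invertible. -/
lemma T_leadingCoeff_isUnit (hN : 1 < N) (hN' : f.totalDegree < N) (fne : f ≠ 0) :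
    IsUnit (finSuccEquiv k n (T N f)).leadingCoeff := by
  obtain ⟨v, vin, vs⟩ := Finset.exists_max_image f.support
    (fun v ↦ (finSuccEquiv k n (T N ((monomial v) (coeff v f)))).natDegree)
    (support_nonempty.mpr fne)
  set h := fun w ↦ (MvPolynomial.monomial w) (coeff w f) with hdef
  have hlt : ∀ u ∈ f.support, ∀ i, u i < N := fun u hu i =>
    lt_of_le_of_lt ((monomial_le_degreeOf i hu).trans (degreeOf_le_totalDegree f i)) hN'
  replace vs : ∀ x ∈ f.support \ {v}, (finSuccEquiv k n (T N (h x))).degree <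
      (finSuccEquiv k n (T N (h v))).degree := by
    intro x hx
    obtain ⟨h1, h2⟩ := Finset.mem_sdiff.mp hx
    apply degree_lt_degree <| lt_of_le_of_ne (vs x h1) ?_
    rw [natDegree_monomial N x hN (mem_support_iff.mp h1),
      natDegree_monomial N v hN (mem_support_iff.mp vin)]
    exact sum_r_mul_ne N x v hN (hlt x h1) (hlt v vin) (by simpa using h2)
  have coeff : (finSuccEquiv k n (T N (h v + ∑ x ∈ f.support \ {v}, h x))).leadingCoeff =
      (finSuccEquiv k n (T N (h v))).leadingCoeff := by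
    simp only [map_add, map_sum]
    rw [add_comm]
    apply leadingCoeff_add_of_degree_lt <| (lt_of_le_of_lt <| degree_sum_le _ _) ?_
    have h2 : (finSuccEquiv k n (T N (h v))) ≠ 0 := fun eq ↦ by
      have := leadingCoeff_monomial N v hN (MvPolynomial.coeff v f)
      rw [show (monomial v) (MvPolynomial.coeff v f) = h v from rfl, eq] at this
      simp only [Polynomial.leadingCoeff_zero] at this
      exact mem_support_iff.mp vin (by simpa using this.symm)
    exact (Finset.sup_lt_iff <| Ne.bot_lt (fun x ↦ h2 <| degree_eq_bot.mp x)).mpr vs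
  nth_rw 1 [← f.support_sum_monomial_coeff]
  rw [Finset.sum_eq_add_sum_sdiff_singleton_of_mem vin h]
  rw [coeff, leadingCoeff_monomial N v hN]
  exact (mem_support_iff.mp vin).isUnit.map MvPolynomial.C

lemma aeval_cons {C : Type*} [CommRing C] [Algebra k C] (x' : Fin n → C) (y : C)
    (g : MvPolynomial (Fin (n + 1)) k) : aeval (Fin.cons y x' : Fin (n + 1) → C) g =
      Polynomial.eval₂ (aeval x' : MvPolynomial (Fin n) k →ₐ[k] C).toRingHom y
        (finSuccEquiv k n g) := by
  induction g using MvPolynomial.induction_on with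
  | C a => simp [finSuccEquiv_apply]
  | add p q hp hq => rw [map_add, hp, hq, map_add, Polynomial.eval₂_add]
  | mul_X p i hp =>
    rw [map_mul, hp, map_mul, Polynomial.eval₂_mul]
    congr 1
    refine Fin.cases ?_ (fun j => ?_) i
    · simp [finSuccEquiv_X_zero]
    · simp [finSuccEquiv_X_succ]

/-- If `f(y, x_1, …, x_n) = 0` for a nonzero polynomial `f` over a field `k`, and
`N > totalDegree f`, then `y` is integral over the subalgebra generated by the elements
`x_i - y ^ (N ^ i)`. -/
theorem isIntegral_of_relation {C : Type*} [CommRing C] [Algebra k C] (fne : f ≠ 0)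
    (hN : 1 < N) (hN' : f.totalDegree < N) (x : Fin n → C) (y : C)
    (hf : aeval (Fin.cons y x : Fin (n + 1) → C) f = 0) :
    (aeval (fun i : Fin n => x i - y ^ (N ^ (i.1 + 1))) : MvPolynomial (Fin n) k →ₐ[k] C).toRingHom.IsIntegralElem
      y := by
  set x' : Fin n → C := fun i : Fin n => x i - y ^ (N ^ (i.1 + 1)) with hx'
  have h1 : aeval (Fin.cons y x' : Fin (n + 1) → C) (T N f) = 0 := by
    rw [← hf]
    rw [← AlgHom.comp_apply]
    congr 1
    refine MvPolynomial.algHom_ext fun i => ?_
    refine Fin.cases ?_ (fun j => ?_) i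
    · simp [T_X_zero]
    · simp [T_X_succ, hx']
  rw [aeval_cons] at h1
  obtain ⟨u, hu⟩ := T_leadingCoeff_isUnit f N hN hN' fne
  refine ⟨Polynomial.C (↑u⁻¹ : MvPolynomial (Fin n) k) * finSuccEquiv k n (T N f), ?_, ?_⟩
  · rw [Polynomial.Monic, Polynomial.leadingCoeff_C_mul_of_isUnit, ← hu]
    · simp
    · exact u⁻¹.isUnit
  · rw [Polynomial.eval₂_mul, h1, mul_zero]

/-- Variant: if `y` is a root of a nonzero polynomial with coefficients in `k[x_1, …, x_n]`, then
for every `q > 0` there is a multiple `N` of `q` such that `y` is integral over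
`k[x_i - y ^ (N ^ (i + 1))]`. -/
theorem exists_isIntegralElem {C : Type*} [CommRing C] [Algebra k C] (q : ℕ) (hq : 0 < q)
    (x : Fin n → C) (y : C) (F : Polynomial (MvPolynomial (Fin n) k)) (hF : F ≠ 0)
    (hFy : F.eval₂ (aeval x : MvPolynomial (Fin n) k →ₐ[k] C).toRingHom y = 0) :
    ∃ N : ℕ, q ∣ N ∧ 1 < N ∧
      (aeval (fun i : Fin n => x i - y ^ (N ^ (i.1 + 1))) :
        MvPolynomial (Fin n) k →ₐ[k] C).toRingHom.IsIntegralElem y := by
  set f := (finSuccEquiv k n).symm F with hf
  have fne : f ≠ 0 := by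
    rw [hf]
    simpa using hF
  have h1 : 1 < q * (f.totalDegree + 2) :=
    lt_of_lt_of_le (by omega) (Nat.le_mul_of_pos_left _ hq)
  have h2 : f.totalDegree < q * (f.totalDegree + 2) :=
    lt_of_lt_of_le (by omega) (Nat.le_mul_of_pos_left _ hq)
  refine ⟨q * (f.totalDegree + 2), dvd_mul_right _ _, h1, ?_⟩
  refine isIntegral_of_relation f _ fne h1 h2 x y ?_
  rw [aeval_cons, hf, AlgEquiv.apply_symm_apply, hFy]

end Groth.Agent.Pi1B.NoetherP
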