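import Mathlib.RingTheory.Unramified.LocalStructure
import Mathlib.RingTheory.Etale.Locus
import Mathlib.FieldTheory.Minpoly.IsIntegrallyClosed

/-!
# Unramified domain extensions of a normal domain are etale (Stacks 0BQK, SGA 1 I 9.5)

* `isStandardEtale_of_surjective`: `A` a normal domain, `S` a domain containing `A` which is a
  quotient of a standard etale `A`-algebra; then `S` is standard etale over `A`.
* `etale_of_unramified`: `A` a normal domain, `S` a domain of finite type over `A`, containing `A`,
  and unramified over `A`. Then `S` is etale over `A`.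
* `isEtaleAt_of_isUnramifiedAt`: the same at one prime.
-/

set_option autoImplicit false

open Polynomial

namespace Groth.Agent.Pi1B.NormalUnram

variable {A S : Type*} [CommRing A] [IsDomain A] [IsIntegrallyClosed A]
  [CommRing S] [IsDomain S] [Algebra A S]

/-- `A` a normal domain, `S` a domain containing `A` which is a quotient of a standard etale
`A`-algebra; then `S` is standard etale over `A`. -/
theorem isStandardEtale_of_surjective (hinj : Function.Injective (algebraMap A S))
    (P : StandardEtalePair A) (φ : P.Ring →ₐ[A] S) (hφ : Function.Surjective φ) :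
    Algebra.IsStandardEtale A S := by
  have : FaithfulSMul A S := (faithfulSMul_iff_algebraMap_injective A S).mpr hinj
  set x := φ P.X with hxdef
  have hx : P.HasMap x := StandardEtalePair.hasMap_X.map φ
  have hint : IsIntegral A x := ⟨P.f, P.monic_f, by simpa [← aeval_def] using hx.1⟩
  obtain ⟨f1, hf1⟩ : minpoly A x ∣ P.f := minpoly.isIntegrallyClosed_dvd hint hx.1
  let P' : StandardEtalePair A := ⟨minpoly A x, minpoly.monic hint, P.g, by
    obtain ⟨p₁, p₂, n, e⟩ := P.cond
    rw [hf1, derivative_mul] at e
    exact ⟨f1 * p₁, derivative f1 * p₁ + f1 * p₂, n, by rw [← e]; ring⟩⟩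
  have hx' : P'.HasMap x := ⟨minpoly.aeval A x, hx.2⟩
  have hP'X : P.HasMap P'.X := by
    refine ⟨?_, StandardEtalePair.hasMap_X.2⟩
    have h1 : aeval P'.X (minpoly A x) = 0 := StandardEtalePair.hasMap_X.1
    rw [hf1, map_mul, h1, zero_mul]
  refine ⟨⟨⟨P', x, hx', ?_, ?_⟩⟩⟩
  · rw [injective_iff_map_eq_zero]
    intro y hy
    let Q : StandardEtalePresentation A P'.Ring :=
      ⟨P', P'.X, StandardEtalePair.hasMap_X, by
        simpa [StandardEtalePair.lift_X_left] using Function.bijective_id⟩
    obtain ⟨p, n, hp⟩ := Q.exists_mul_aeval_x_g_pow_eq_aeval_x y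
    change y * aeval P'.X P'.g ^ n = aeval P'.X p at hp
    have h0 : aeval x p = 0 := by
      have := congr(P'.lift x hx' $hp)
      rw [map_mul, hy, zero_mul, ← aeval_algHom_apply, StandardEtalePair.lift_X] at this
      exact this.symm
    obtain ⟨q, rfl⟩ : minpoly A x ∣ p := minpoly.isIntegrallyClosed_dvd hint h0
    have h1 : aeval P'.X (minpoly A x) = 0 := StandardEtalePair.hasMap_X.1
    rw [map_mul, h1, zero_mul] at hp
    exact ((StandardEtalePair.hasMap_X (P := P')).2.pow n).mul_left_eq_zero.mp hp
  · intro s
    obtain ⟨r, rfl⟩ := hφ s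
    refine ⟨P.lift P'.X hP'X r, ?_⟩
    have : (P'.lift x hx').comp (P.lift P'.X hP'X) = φ := P.hom_ext (by simp [x])
    exact congr($this r)

/-- `A` a normal domain, `S` a domain of finite type over `A` containing `A`, unramified at a
prime `Q` of `S`. Then `S` is etale over `A` in a neighbourhood of `Q`. -/
theorem exists_etale_of_isUnramifiedAt (hinj : Function.Injective (algebraMap A S))
    [Algebra.FiniteType A S] (Q : Ideal S) [Q.IsPrime] [Algebra.IsUnramifiedAt A Q] :
    ∃ f ∉ Q, Algebra.Etale A (Localization.Away f) := by
  obtain ⟨f, hf, P, φ, hφ⟩ :=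
    Algebra.IsUnramifiedAt.exists_hasStandardEtaleSurjectionOn (R := A) Q
  refine ⟨f, hf, ?_⟩
  have hf0 : f ≠ 0 := fun h => hf (h ▸ Q.zero_mem)
  have hle : Submonoid.powers f ≤ nonZeroDivisors S :=
    powers_le_nonZeroDivisors_of_noZeroDivisors hf0
  have : IsDomain (Localization.Away f) := IsLocalization.isDomain_localization hle
  have hinj' : Function.Injective (algebraMap A (Localization.Away f)) := by
    rw [IsScalarTower.algebraMap_eq A S (Localization.Away f)]
    exact (IsLocalization.injective _ hle).comp hinj
  have := isStandardEtale_of_surjective hinj' P φ hφ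
  infer_instance

/-- `A` a normal domain, `S` a domain of finite type over `A`, containing `A`, and (formally)
unramified over `A`. Then `S` is etale over `A`. -/
theorem etale_of_unramified (hinj : Function.Injective (algebraMap A S))
    [Algebra.FiniteType A S] [Algebra.FormallyUnramified A S] : Algebra.Etale A S := by
  let s : Set S := {f | Algebra.Etale A (Localization.Away f)}
  have hs : Ideal.span s = ⊤ := by
    by_contra H
    obtain ⟨M, hM, hle⟩ := Ideal.exists_le_maximal _ H
    have : Algebra.IsUnramifiedAt A M := inferInstance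
    obtain ⟨f, hf, hf'⟩ := exists_etale_of_isUnramifiedAt hinj M
    exact hf (hle (Ideal.subset_span hf'))
  have hfp : Algebra.FinitePresentation A S := by
    refine Algebra.FinitePresentation.of_span_eq_top_target s hs fun f hf => ?_
    have : Algebra.Etale A (Localization.Away f) := hf
    infer_instance
  rw [← Algebra.etaleLocus_eq_univ_iff_etale, Set.eq_univ_iff_forall]
  intro Q
  obtain ⟨f, hf, h⟩ := exists_etale_of_isUnramifiedAt hinj Q.asIdeal
  rw [← Algebra.basicOpen_subset_etaleLocus_iff_etale] at h
  exact h hf

end Groth.Agent.Pi1B.NormalUnram
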