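import Groth.Agent.Pi1B.Hartogs
import Mathlib.AlgebraicGeometry.Noetherian

/-!
# Regular pairs vanishing off an open whose complement has depth at least two
-/

set_option autoImplicit false

universe u

open CategoryTheory AlgebraicGeometry TopologicalSpace Opposite

namespace Groth.Agent.Pi1B.OpenPair

open Groth.Agent.Pi1B.RegPair Groth.Agent.Pi1B.Hartogs

/-- On an affine open `W` with Noetherian coordinate ring, if all the points of `W` off `U` have
local rings of depth at least two, there is a regular pair `(x, y)` on `Γ(X, W)` with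
`D(x), D(y) ⊆ U`. -/
theorem exists_isRegPair_basicOpen_le {X : Scheme.{u}} {W : X.Opens} (hW : IsAffineOpen W)
    [IsNoetherianRing Γ(X, W)] (U : X.Opens)
    (hU : ∀ x ∈ W, x ∉ U → (2 : ℕ∞) ≤ LocCoh.depth (X.presheaf.stalk x) (X.presheaf.stalk x)) :
    ∃ x y : Γ(X, W), IsRegPair Γ(X, W) x y ∧ X.basicOpen x ≤ U ∧ X.basicOpen y ≤ U := by
  let Z : Set (PrimeSpectrum Γ(X, W)) := {p | hW.fromSpec p ∉ U}
  have hZ : IsClosed Z := by
    have : IsOpen {p : PrimeSpectrum Γ(X, W) | hW.fromSpec p ∈ U} :=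
      (hW.fromSpec ⁻¹ᵁ U).2
    exact ⟨by simpa [Z, Set.compl_ofPred] using this⟩
  let I := PrimeSpectrum.vanishingIdeal Z
  have hI : ∀ p : PrimeSpectrum Γ(X, W), I ≤ p.asIdeal → hW.fromSpec p ∉ U := by
    intro p hp
    have : p ∈ PrimeSpectrum.zeroLocus (PrimeSpectrum.vanishingIdeal Z : Set Γ(X, W)) := hp
    rw [PrimeSpectrum.zeroLocus_vanishingIdeal_eq_closure, hZ.closure_eq] at this
    exact this
  have hbasic : ∀ a ∈ I, X.basicOpen a ≤ U := by
    intro a ha z hz
    by_contra hzU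
    have hzW : z ∈ W := X.basicOpen_le a hz
    obtain ⟨p, rfl⟩ : z ∈ Set.range hW.fromSpec := by rw [hW.range_fromSpec]; exact hzW
    have h1 : a ∈ p.asIdeal := by
      have : p ∈ Z := hzU
      exact (PrimeSpectrum.mem_vanishingIdeal _ _).mp ha p this
    have h2 : p ∈ hW.fromSpec ⁻¹ᵁ (X.basicOpen a) := hz
    rw [hW.fromSpec_preimage_basicOpen] at h2
    exact h2 h1
  obtain ⟨x, hx, y, hy, hxy⟩ := exists_isRegPair I (by
    intro p hp hIp
    have hpU := hI ⟨p, hp⟩ hIp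
    have hpW : hW.fromSpec ⟨p, hp⟩ ∈ W := by
      have : hW.fromSpec ⟨p, hp⟩ ∈ Set.range hW.fromSpec := ⟨_, rfl⟩
      rwa [hW.range_fromSpec] at this
    have h1 := hU _ hpW hpU
    have h2 := hW.isLocalization_stalk ⟨hW.fromSpec ⟨p, hp⟩, hpW⟩
    have h3 : hW.primeIdealOf ⟨hW.fromSpec ⟨p, hp⟩, hpW⟩ = ⟨p, hp⟩ := by
      apply (hW.fromSpec.isOpenEmbedding.injective)
      exact hW.fromSpec_primeIdealOf _
    rw [h3] at h2
    letI : Algebra Γ(X, W) (X.presheaf.stalk (hW.fromSpec ⟨p, hp⟩)) :=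
      TopCat.Presheaf.algebra_section_stalk X.presheaf (⟨_, hpW⟩ : W)
    have h2' : IsLocalization.AtPrime (X.presheaf.stalk (hW.fromSpec ⟨p, hp⟩)) p := h2
    have e := (IsLocalization.algEquiv p.primeCompl (X.presheaf.stalk (hW.fromSpec ⟨p, hp⟩))
      (Localization.AtPrime p)).toRingEquiv
    exact two_le_depth_of_ringEquiv e h1)
  exact ⟨x, y, hxy, hbasic x hx, hbasic y hy⟩

end Groth.Agent.Pi1B.OpenPair
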