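import Groth.Prelude.Def_FEt
import Groth.Agent.Pi1C.PurityQuot
import Mathlib.RingTheory.AdicCompletion.LocalRing

set_option autoImplicit false

/-!
# Base change of the punctured spectrum along local homomorphisms `A → B` with `m_A B = m_B`
-/

universe u

open CategoryTheory AlgebraicGeometry TopologicalSpace Opposite CategoryTheory.Limits

namespace Groth.Agent.Pi1B.PuncturedIso

open Groth.Agent.Pi1C.PurityQuot

/-- The punctured spectrum of `B` is the preimage of the one of `A` if `m_A B` is the maximal ideal. -/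
theorem exists_iso_puncturedSpec (A B : Type u) [CommRing A] [IsLocalRing A] [CommRing B]
    [IsLocalRing B] (φ : A →+* B) [IsLocalHom φ]
    (hφ : IsLocalRing.maximalIdeal B ≤ (IsLocalRing.maximalIdeal A).map φ) :
    ∃ e : pullback (FEt.puncturedSpec A).ι (Spec.map (CommRingCat.ofHom φ)) ≅
        (FEt.puncturedSpec B : Scheme.{u}),
      e.hom ≫ (FEt.puncturedSpec B).ι =
        pullback.snd (FEt.puncturedSpec A).ι (Spec.map (CommRingCat.ofHom φ)) := by
  have hrange : (pullback.snd (FEt.puncturedSpec A).ι (Spec.map (CommRingCat.ofHom φ))).opensRange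
      = FEt.puncturedSpec B := by
    rw [Scheme.Hom.opensRange_pullbackSnd, Scheme.Opens.opensRange_ι]
    ext x
    change PrimeSpectrum.comap φ x ≠ IsLocalRing.closedPoint A ↔ x ≠ IsLocalRing.closedPoint B
    refine not_congr ⟨fun h => ?_, fun h => ?_⟩
    · have h1 : x.asIdeal.comap φ = IsLocalRing.maximalIdeal A := congrArg PrimeSpectrum.asIdeal h
      have h2 : (IsLocalRing.maximalIdeal A).map φ ≤ x.asIdeal := by
        rw [Ideal.map_le_iff_le_comap, h1]
      exact PrimeSpectrum.ext (le_antisymm (IsLocalRing.le_maximalIdeal x.isPrime.ne_top)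
        (hφ.trans h2))
    · rw [h]
      exact IsLocalRing.comap_closedPoint φ
  refine ⟨(pullback.snd (FEt.puncturedSpec A).ι
    (Spec.map (CommRingCat.ofHom φ))).isoOpensRange ≪≫ (Spec (CommRingCat.of B)).isoOfEq hrange, ?_⟩
  simp

/-- Purity for `B` lets covers pulled back from the punctured spectrum of `A` extend. -/
theorem exists_extension_of_purityHolds (A B : Type u) [CommRing A] [IsLocalRing A] [CommRing B]
    [IsLocalRing B] (φ : A →+* B) [IsLocalHom φ]
    (hφ : IsLocalRing.maximalIdeal B ≤ (IsLocalRing.maximalIdeal A).map φ) (hB : FEt.PurityHolds B)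
    (V : FEt.Cat (pullback (FEt.puncturedSpec A).ι (Spec.map (CommRingCat.ofHom φ)))) :
    ∃ Y' : FEt.Cat (Spec (CommRingCat.of B)),
      Nonempty ((FEt.restrict (pullback.snd (FEt.puncturedSpec A).ι
        (Spec.map (CommRingCat.ofHom φ)))).obj Y' ≅ V) := by
  obtain ⟨e, he⟩ := exists_iso_puncturedSpec A B φ hφ
  have : (FEt.restrict (FEt.puncturedSpec B).ι).EssSurj := hB
  let W := (FEt.restrict e.hom).objPreimage V
  let iW : (FEt.restrict e.hom).obj W ≅ V := (FEt.restrict e.hom).objObjPreimageIso V
  let Y := (FEt.restrict (FEt.puncturedSpec B).ι).objPreimage W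
  let iY : (FEt.restrict (FEt.puncturedSpec B).ι).obj Y ≅ W :=
    (FEt.restrict (FEt.puncturedSpec B).ι).objObjPreimageIso W
  refine ⟨Y, ⟨?_⟩⟩
  exact ((restrictCongr he.symm).app Y) ≪≫ (restrictComp e.hom (FEt.puncturedSpec B).ι).app Y ≪≫
    (FEt.restrict e.hom).mapIso iY ≪≫ iW

/-- Purity is invariant under ring isomorphisms. -/
theorem purityHolds_of_ringEquiv (A B : Type u) [CommRing A] [IsLocalRing A] [CommRing B]
    [IsLocalRing B] (e : A ≃+* B) (hA : FEt.PurityHolds A) : FEt.PurityHolds B := by
  refine purityHolds_of_surjective A B e.toRingHom e.surjective hA ?_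
  have : IsIso (CommRingCat.ofHom e.toRingHom) := (ConcreteCategory.isIso_iff_bijective _).mpr e.bijective
  have : IsIso (Spec.map (CommRingCat.ofHom e.toRingHom)) := inferInstance
  have : IsIso (pullback.fst (FEt.puncturedSpec A).ι (Spec.map (CommRingCat.ofHom e.toRingHom))) :=
    inferInstance
  infer_instance

/-- the completion -/
theorem maximalIdeal_le_map_completion (A : Type u) [CommRing A] [IsLocalRing A] [IsNoetherianRing A] :
    IsLocalRing.maximalIdeal (AdicCompletion (IsLocalRing.maximalIdeal A) A) ≤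
      (IsLocalRing.maximalIdeal A).map
        (algebraMap A (AdicCompletion (IsLocalRing.maximalIdeal A) A)) :=
  le_of_eq (AdicCompletion.maximalIdeal_eq_map (R := A))

end Groth.Agent.Pi1B.PuncturedIso
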