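import Groth.Agent.Pi1B.RegPair
import Mathlib.RingTheory.Localization.Finiteness
import Mathlib.Algebra.Module.LocalizedModule.Int
import Mathlib.RingTheory.Noetherian.Basic
import Mathlib.LinearAlgebra.Dual.Lemmas
import Mathlib.RingTheory.Localization.Away.Basic

/-!
# Finiteness of sections over an open with complement of depth at least two

Let `A` be Noetherian, `(x, y)` a regular pair on `A` and `B` an `A`-module without `x`-torsion
such that `B_x` and `B_y` are finite and `B_x` is projective (torsionless).  Then `B` is a finite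
`A`-module (`finite_of_isRegPair`).
-/

set_option autoImplicit false

universe u v w

namespace Groth.Agent.Pi1B.RegPairFinite

open Groth.Agent.Pi1B.RegPair

section

variable {A : Type*} [CommRing A] {B : Type*} [AddCommGroup B] [Module A B]

/-- If `B_x` is a finite `A_x`-module then it is generated by finitely many elements of `B`. -/
theorem exists_fg_submodule_away (x : A) {Ax Bx : Type*} [CommRing Ax] [Algebra A Ax]
    [IsLocalization.Away x Ax] [AddCommGroup Bx] [Module A Bx] [Module Ax Bx]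
    [IsScalarTower A Ax Bx] (f : B →ₗ[A] Bx) [IsLocalizedModule (.powers x) f]
    [Module.Finite Ax Bx] :
    ∃ N : Submodule A B, N.FG ∧ ∀ b, ∃ n : ℕ, x ^ n • b ∈ N := by
  classical
  obtain ⟨s, hs⟩ := (Module.Finite.fg_top : (⊤ : Submodule Ax Bx).FG)
  refine ⟨Submodule.span A (IsLocalizedModule.finsetIntegerMultiple (.powers x) f s : Set B),
    ⟨_, rfl⟩, fun b => ?_⟩
  obtain ⟨t, ht⟩ := multiple_mem_span_of_mem_localization_span (.powers x) Ax (s : Set Bx) (f b)
    (by rw [hs]; trivial)
  rw [Submonoid.smul_def, ← map_smul] at ht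
  obtain ⟨m, hm⟩ := IsLocalizedModule.smul_mem_finsetIntegerMultiple_span (.powers x) f _ s ht
  obtain ⟨_, n, rfl⟩ := m
  obtain ⟨_, k, rfl⟩ := t
  exact ⟨n + k, by
    simpa [Submonoid.smul_def, pow_add, mul_smul] using hm⟩

/-- A submodule absorbing all large powers of `x` is large on `D(x)`: extension of linear forms. -/
theorem exists_extension {x y : A} (h : IsRegPair A x y) (N : Submodule A B)
    (hx : ∀ b, ∃ n : ℕ, x ^ n • b ∈ N) (hy : ∀ b, ∃ n : ℕ, y ^ n • b ∈ N)
    (hxB : ∀ b : B, x • b = 0 → b = 0)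
    (φ : N →ₗ[A] A) : ∃ ψ : B →ₗ[A] A, ∀ b : N, ψ b = φ b := by
  -- uniqueness and existence of the value
  have hxn : ∀ (n : ℕ) (a : A), x ^ n * a = 0 → a = 0 := by
    intro n a ha
    exact (h.pow_left n).reg a ha
  have ex : ∀ b : B, ∃ c : A, ∀ (n : ℕ) (hn : x ^ n • b ∈ N), x ^ n * c = φ ⟨_, hn⟩ := by
    intro b
    obtain ⟨n, hn⟩ := hx b
    obtain ⟨m, hm⟩ := hy b
    have e1 : y ^ m • (φ ⟨_, hn⟩) = x ^ n • (φ ⟨_, hm⟩) := by
      rw [← map_smul, ← map_smul]
      congr 1
      apply Subtype.ext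
      simp only [SetLike.mk_smul_mk]
      rw [smul_comm]
    obtain ⟨c, hc⟩ := (h.pow n m).reg₂ _ _ e1
    refine ⟨c, fun n' hn' => ?_⟩
    have e2 : x ^ n • φ ⟨_, hn'⟩ = x ^ n' • φ ⟨_, hn⟩ := by
      rw [← map_smul, ← map_smul]
      congr 1
      apply Subtype.ext
      simp only [SetLike.mk_smul_mk]
      rw [smul_comm]
    rw [hc] at e2
    have : x ^ n * (x ^ n' * c - φ ⟨_, hn'⟩) = 0 := by
      simp only [smul_eq_mul] at e2
      rw [mul_sub, e2]; ring
    exact sub_eq_zero.mp (hxn _ _ this)
  choose g hg using ex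
  refine ⟨{ toFun := g, map_add' := ?_, map_smul' := ?_ }, ?_⟩
  · intro b b'
    obtain ⟨n, hn⟩ := hx b
    obtain ⟨n', hn'⟩ := hx b'
    have h1 : x ^ (n + n') • b ∈ N := by
      rw [pow_add, mul_comm, mul_smul]; exact N.smul_mem _ hn
    have h2 : x ^ (n + n') • b' ∈ N := by
      rw [pow_add, mul_smul]; exact N.smul_mem _ hn'
    have h3 : x ^ (n + n') • (b + b') ∈ N := by
      rw [smul_add]; exact N.add_mem h1 h2
    have : x ^ (n + n') * (g (b + b') - (g b + g b')) = 0 := by
      rw [mul_sub, mul_add, hg _ _ h1, hg _ _ h2, hg _ _ h3, ← map_add, sub_eq_zero]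
      congr 1
      apply Subtype.ext
      simp
    exact sub_eq_zero.mp (hxn _ _ this)
  · intro a b
    obtain ⟨n, hn⟩ := hx b
    have h3 : x ^ n • (a • b) ∈ N := by
      rw [smul_comm]; exact N.smul_mem _ hn
    have : x ^ n * (g (a • b) - a • g b) = 0 := by
      rw [mul_sub, hg _ _ h3, smul_eq_mul, mul_left_comm, hg _ _ hn, ← smul_eq_mul, ← map_smul,
        sub_eq_zero]
      congr 1
      apply Subtype.ext
      simp only [SetLike.mk_smul_mk]
      rw [smul_comm]
    exact sub_eq_zero.mp (hxn _ _ this)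
  · intro b
    have h0 : x ^ 0 • (b : B) ∈ N := by simp
    have := hg b 0 h0
    simp only [pow_zero, one_mul] at this
    rw [LinearMap.coe_mk, AddHom.coe_mk, this]
    congr 1
    apply Subtype.ext
    simp

/-- Main finiteness lemma. -/
theorem finite_of_isRegPair [IsNoetherianRing A] {x y : A} (h : IsRegPair A x y)
    (hxB : ∀ b : B, x • b = 0 → b = 0)
    {Ax Bx : Type*} [CommRing Ax] [Algebra A Ax]
    [IsLocalization.Away x Ax] [AddCommGroup Bx] [Module A Bx] [Module Ax Bx]
    [IsScalarTower A Ax Bx] (f : B →ₗ[A] Bx) [IsLocalizedModule (.powers x) f]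
    [Module.Finite Ax Bx] [Module.Projective Ax Bx]
    {Ay By : Type*} [CommRing Ay] [Algebra A Ay]
    [IsLocalization.Away y Ay] [AddCommGroup By] [Module A By] [Module Ay By]
    [IsScalarTower A Ay By] (g : B →ₗ[A] By) [IsLocalizedModule (.powers y) g]
    [Module.Finite Ay By] : Module.Finite A B := by
  classical
  obtain ⟨N₁, hN₁, hx₁⟩ := exists_fg_submodule_away x (Ax := Ax) f
  obtain ⟨N₂, hN₂, hy₂⟩ := exists_fg_submodule_away y (Ax := Ay) g
  let N := N₁ ⊔ N₂
  have hN : N.FG := hN₁.sup hN₂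
  have hx : ∀ b, ∃ n : ℕ, x ^ n • b ∈ N := fun b =>
    (hx₁ b).imp fun n hn => (le_sup_left : N₁ ≤ N) hn
  have hy : ∀ b, ∃ n : ℕ, y ^ n • b ∈ N := fun b =>
    (hy₂ b).imp fun n hn => (le_sup_right : N₂ ≤ N) hn
  have : Module.Finite A N := Module.Finite.iff_fg.mpr hN
  -- `N` is torsionless
  have htl : ∀ b : N, b ≠ 0 → ∃ φ : N →ₗ[A] A, φ b ≠ 0 := by
    intro b hb
    have hfb : f b ≠ 0 := by
      intro h0
      rw [IsLocalizedModule.eq_zero_iff (.powers x)] at h0
      obtain ⟨⟨_, n, rfl⟩, hn⟩ := h0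
      have : ∀ (n : ℕ) (c : B), x ^ n • c = 0 → c = 0 := by
        intro n
        induction n with
        | zero => intro c hc; simpa using hc
        | succ n ih => intro c hc; rw [pow_succ', mul_smul] at hc; exact ih _ (hxB _ hc)
      exact hb (Subtype.ext (this n _ hn))
    obtain ⟨ψ, hψ⟩ := Module.Projective.exists_dual_ne_zero Ax hfb
    let θ : N →ₗ[A] Ax := (ψ.restrictScalars A) ∘ₗ f ∘ₗ N.subtype
    have hinj : Function.Injective (algebraMap A Ax) := by
      apply IsLocalization.injective Ax (M := .powers x)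
      rintro _ ⟨n, rfl⟩
      rw [mem_nonZeroDivisors_iff_right]
      intro c hc
      exact (h.pow_left n).reg c (by simpa [mul_comm] using hc)
    -- common denominator
    obtain ⟨s, hs⟩ := (Module.Finite.fg_top : (⊤ : Submodule A N).FG)
    obtain ⟨t, ht⟩ := IsLocalization.exist_integer_multiples_of_finset (.powers x) (s.image θ)
    have ht' : ∀ b : N, (t : A) • θ b ∈ LinearMap.range (Algebra.linearMap A Ax) := by
      intro b
      have hb : b ∈ Submodule.span A (s : Set N) := by rw [hs]; trivial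
      induction hb using Submodule.span_induction with
      | mem b hb =>
        obtain ⟨c, hc⟩ := ht (θ b) (Finset.mem_image_of_mem _ hb)
        exact ⟨c, hc⟩
      | zero => simp
      | add b b' _ _ h1 h2 => rw [map_add, smul_add]; exact add_mem h1 h2
      | smul a b _ h1 => rw [map_smul, smul_comm]; exact Submodule.smul_mem _ _ h1
    let θ' : N →ₗ[A] LinearMap.range (Algebra.linearMap A Ax) :=
      ((t : A) • θ).codRestrict _ (fun b => ht' b)
    let e := LinearEquiv.ofInjective (Algebra.linearMap A Ax) hinj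
    refine ⟨e.symm.toLinearMap ∘ₗ θ', ?_⟩
    intro h0
    have h1 : θ' b = 0 := by
      have := congrArg e h0
      simpa using this
    have h2 : (t : A) • θ b = 0 := congrArg Subtype.val h1
    have h3 : ψ (f b) = 0 := by
      have hu : IsUnit (algebraMap A Ax t) := IsLocalization.map_units Ax t
      have h4 : algebraMap A Ax t * ψ (f b) = 0 := by
        rw [← Algebra.smul_def]; exact h2
      exact (hu.mul_right_eq_zero).mp h4
    exact hψ h3
  -- generators of the dual
  have hfd : Module.Finite A (N →ₗ[A] A) := Module.IsNoetherian.finite A _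
  obtain ⟨s, hs⟩ := (Module.Finite.fg_top : (⊤ : Submodule A (N →ₗ[A] A)).FG)
  choose ext hext using fun φ : N →ₗ[A] A => exists_extension h N hx hy hxB φ
  let Φ : B →ₗ[A] (s → A) := LinearMap.pi (fun φ => ext φ)
  have hΦ : Function.Injective Φ := by
    rw [injective_iff_map_eq_zero]
    intro b hb
    obtain ⟨n, hn⟩ := hx b
    have hb' : ∀ φ : N →ₗ[A] A, φ ⟨_, hn⟩ = 0 := by
      intro φ
      have hφ : φ ∈ Submodule.span A (s : Set (N →ₗ[A] A)) := by rw [hs]; trivial
      induction hφ using Submodule.span_induction with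
      | mem φ hφ =>
        have h1 : ext φ b = 0 := congrFun hb ⟨φ, hφ⟩
        rw [← hext φ ⟨_, hn⟩, map_smul, h1, smul_zero]
      | zero => simp
      | add φ φ' _ _ h1 h2 => simp [h1, h2]
      | smul a φ _ h1 => simp [h1]
    have h0 : (⟨_, hn⟩ : N) = 0 := by
      by_contra hne
      obtain ⟨φ, hφ⟩ := htl _ hne
      exact hφ (hb' φ)
    have h1 : x ^ n • b = 0 := congrArg Subtype.val h0
    clear hb' h0 hn
    induction n with
    | zero => simpa using h1
    | succ n ih => rw [pow_succ', mul_smul] at h1; exact ih (hxB _ h1)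
  exact Module.Finite.of_injective Φ hΦ

end

end Groth.Agent.Pi1B.RegPairFinite
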