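import Groth.Agent.Pi1B.RegPair
import Mathlib.RingTheory.Unramified.Finite
import Mathlib.RingTheory.Localization.BaseChange
import Mathlib.RingTheory.Localization.Away.Basic

/-!
# Unramifiedness extends across a regular pair (flat case)
-/

set_option autoImplicit false

universe u v w

open scoped TensorProduct

namespace Groth.Agent.Pi1B.RegPairUnramified

open Groth.Agent.Pi1B.RegPair

section

variable {A : Type*} [CommRing A] {B : Type*} [CommRing B] [Algebra A B]

/-- the set of `s` with `(1 ⊗ s - s ⊗ 1) * m = 0` is a subalgebra -/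
def balSub (m : B ⊗[A] B) : Subalgebra A B where
  carrier := {s | ((1 : B) ⊗ₜ[A] s - s ⊗ₜ[A] (1 : B)) * m = 0}
  mul_mem' {a b} ha hb := by
    simp only [Set.mem_ofPred_eq] at ha hb ⊢
    have e : ((1 : B) ⊗ₜ[A] (a * b) - (a * b) ⊗ₜ[A] (1 : B)) =
        ((1 : B) ⊗ₜ[A] a) * ((1 : B) ⊗ₜ[A] b - b ⊗ₜ[A] (1 : B)) +
        (b ⊗ₜ[A] (1 : B)) * ((1 : B) ⊗ₜ[A] a - a ⊗ₜ[A] (1 : B)) := by
      simp only [mul_sub, Algebra.TensorProduct.tmul_mul_tmul, mul_one, one_mul, mul_comm a b]
      abel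
    rw [e, add_mul, mul_assoc, mul_assoc, ha, hb, mul_zero, mul_zero, add_zero]
  add_mem' {a b} ha hb := by
    simp only [Set.mem_ofPred_eq] at ha hb ⊢
    have e : ((1 : B) ⊗ₜ[A] (a + b) - (a + b) ⊗ₜ[A] (1 : B)) =
        ((1 : B) ⊗ₜ[A] a - a ⊗ₜ[A] (1 : B)) + ((1 : B) ⊗ₜ[A] b - b ⊗ₜ[A] (1 : B)) := by
      rw [TensorProduct.tmul_add, TensorProduct.add_tmul]; abel
    rw [e, add_mul, ha, hb, add_zero]
  algebraMap_mem' r := by
    simp only [Set.mem_ofPred_eq]
    rw [Algebra.algebraMap_eq_smul_one, TensorProduct.tmul_smul, TensorProduct.smul_tmul', sub_self,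
      zero_mul]

theorem mem_balSub {m : B ⊗[A] B} {s : B} :
    s ∈ balSub m ↔ ((1 : B) ⊗ₜ[A] s - s ⊗ₜ[A] (1 : B)) * m = 0 := Iff.rfl

/-- clearing denominators in the separability element of `B_x`. -/
theorem exists_elem_away [Algebra.FiniteType A B] (x : A) (Bx : Type*) [CommRing Bx] [Algebra A Bx]
    [Algebra B Bx] [IsScalarTower A B Bx] [IsLocalization.Away (algebraMap A B x) Bx]
    [Algebra.FormallyUnramified A Bx] :
    ∃ (n : ℕ) (m : B ⊗[A] B), (∀ s : B, ((1 : B) ⊗ₜ[A] s - s ⊗ₜ[A] (1 : B)) * m = 0) ∧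
      Algebra.TensorProduct.lmul' A m = algebraMap A B (x ^ n) := by
  classical
  have : Algebra.EssFiniteType B Bx :=
    Algebra.EssFiniteType.of_isLocalization Bx (.powers (algebraMap A B x))
  have : Algebra.EssFiniteType A Bx := Algebra.EssFiniteType.comp A B Bx
  let f : B →ₐ[A] Bx := IsScalarTower.toAlgHom A B Bx
  have hloc : IsLocalizedModule (.powers x) f.toLinearMap := by
    rw [isLocalizedModule_iff_isLocalization]
    rw [Algebra.algebraMapSubmonoid_powers]
    infer_instance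
  let F : B ⊗[A] B →ₐ[A] Bx ⊗[A] Bx := Algebra.TensorProduct.map f f
  have hF : IsLocalizedModule (.powers x) F.toLinearMap := by
    have : F.toLinearMap = TensorProduct.map f.toLinearMap f.toLinearMap := by
      ext; simp [F]
    rw [this]; infer_instance
  obtain ⟨e, he, he1⟩ := (Algebra.FormallyUnramified.iff_exists_tensorProduct (R := A) (S := Bx)).mp inferInstance
  obtain ⟨⟨m₀, ⟨_, n, rfl⟩⟩, hm₀⟩ := IsLocalizedModule.surj (.powers x) F.toLinearMap e
  simp only [Submonoid.smul_def] at hm₀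
  replace hm₀ : x ^ n • e = F m₀ := hm₀
  have hzero : ∀ s : B, ∃ k : ℕ, x ^ k • (((1 : B) ⊗ₜ[A] s - s ⊗ₜ[A] (1 : B)) * m₀) = 0 := by
    intro s
    have : F (((1 : B) ⊗ₜ[A] s - s ⊗ₜ[A] (1 : B)) * m₀) = 0 := by
      rw [map_mul, ← hm₀, map_sub, Algebra.TensorProduct.map_tmul, Algebra.TensorProduct.map_tmul,
        map_one, mul_smul_comm, he, smul_zero]
    obtain ⟨⟨_, k, rfl⟩, hk⟩ := (IsLocalizedModule.eq_zero_iff (.powers x) F.toLinearMap).mp this
    exact ⟨k, hk⟩
  have hone : ∃ k : ℕ, x ^ k • (Algebra.TensorProduct.lmul' A m₀) = x ^ k • algebraMap A B (x ^ n) := by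
    have h1 : f (Algebra.TensorProduct.lmul' A m₀) = f (algebraMap A B (x ^ n)) := by
      have h2 : f (Algebra.TensorProduct.lmul' A m₀) = Algebra.TensorProduct.lmul' A (F m₀) := by
        have : f.comp (Algebra.TensorProduct.lmul' A) = (Algebra.TensorProduct.lmul' A).comp F := by
          ext <;> simp [F]
        exact DFunLike.congr_fun this m₀
      rw [h2, ← hm₀, map_smul, he1, AlgHom.commutes, Algebra.algebraMap_eq_smul_one]
    obtain ⟨⟨_, k, rfl⟩, hk⟩ := (IsLocalizedModule.eq_iff_exists (.powers x) f.toLinearMap).mp h1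
    exact ⟨k, hk⟩
  obtain ⟨G, hG⟩ := (Algebra.FiniteType.out : (⊤ : Subalgebra A B).FG)
  choose k hk using hzero
  obtain ⟨k₁, hk₁⟩ := hone
  let K := k₁ + ∑ g ∈ G, k g
  refine ⟨K + n, x ^ K • m₀, ?_, ?_⟩
  · intro s
    rw [← mem_balSub]
    have hs : s ∈ Algebra.adjoin A (G : Set B) := by rw [hG]; trivial
    refine Algebra.adjoin_le ?_ hs
    intro g hg
    have hle : k g ≤ K :=
      (Finset.single_le_sum (f := k) (fun _ _ => Nat.zero_le _) hg).trans (Nat.le_add_left _ _)
    obtain ⟨j, hj⟩ := Nat.exists_eq_add_of_le hle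
    change _ = _
    rw [mul_smul_comm, hj, pow_add, mul_comm, mul_smul, hk, smul_zero]
  · have : K = (∑ g ∈ G, k g) + k₁ := Nat.add_comm _ _
    rw [map_smul, this, pow_add, mul_smul, hk₁, pow_add, pow_add, map_mul, map_mul, ← mul_smul]
    rw [Algebra.smul_def, map_mul]

/-- **Flat unramified extension across a regular pair.**  If `B` is flat of finite type over `A`,
`(x, y)` is a regular pair on `A` and `B_x`, `B_y` are unramified over `A`, so is `B`. -/
theorem formallyUnramified_of_isRegPair [Algebra.FiniteType A B] [Module.Flat A B] {x y : A}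
    (h : IsRegPair A x y) (Bx : Type*) [CommRing Bx] [Algebra A Bx]
    [Algebra B Bx] [IsScalarTower A B Bx] [IsLocalization.Away (algebraMap A B x) Bx]
    [Algebra.FormallyUnramified A Bx] (By : Type*) [CommRing By] [Algebra A By]
    [Algebra B By] [IsScalarTower A B By] [IsLocalization.Away (algebraMap A B y) By]
    [Algebra.FormallyUnramified A By] : Algebra.FormallyUnramified A B := by
  obtain ⟨n, m, hm, hm1⟩ := exists_elem_away (B := B) x Bx
  obtain ⟨k, m', hm', hm1'⟩ := exists_elem_away (B := B) y By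
  -- `t * m' = (μ t ⊗ 1) * m'`
  have key : ∀ (m' : B ⊗[A] B) (_ : ∀ s : B, ((1 : B) ⊗ₜ[A] s - s ⊗ₜ[A] (1 : B)) * m' = 0)
      (t : B ⊗[A] B), t * m' = ((Algebra.TensorProduct.lmul' A t) ⊗ₜ[A] (1 : B)) * m' := by
    intro m' hm' t
    induction t with
    | zero => simp
    | tmul a b =>
      have h1 := hm' b
      rw [sub_mul, sub_eq_zero] at h1
      have e : a ⊗ₜ[A] b = (a ⊗ₜ[A] (1 : B)) * ((1 : B) ⊗ₜ[A] b) := by
        rw [Algebra.TensorProduct.tmul_mul_tmul, mul_one, one_mul]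
      rw [e, mul_assoc, h1, ← mul_assoc, Algebra.TensorProduct.tmul_mul_tmul, map_mul]
      simp
    | add a b ha hb => rw [add_mul, ha, hb, map_add, TensorProduct.add_tmul, add_mul]
  have e1 : m * m' = x ^ n • m' := by
    rw [key m' hm' m, hm1, Algebra.algebraMap_eq_smul_one, ← TensorProduct.smul_tmul',
      smul_mul_assoc, ← Algebra.TensorProduct.one_def, one_mul]
  have e2 : m * m' = y ^ k • m := by
    rw [mul_comm, key m hm m', hm1', Algebra.algebraMap_eq_smul_one, ← TensorProduct.smul_tmul',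
      smul_mul_assoc, ← Algebra.TensorProduct.one_def, one_mul]
  have hT : IsRegPair (B ⊗[A] B) (x ^ n) (y ^ k) := (IsRegPair.of_flat h).pow n k
  have hB : IsRegPair B (x ^ n) (y ^ k) := (IsRegPair.of_flat h).pow n k
  obtain ⟨c, hc⟩ := hT.reg₂ m m' (by rw [← e2, e1])
  rw [Algebra.FormallyUnramified.iff_exists_tensorProduct]
  refine ⟨c, fun s => ?_, ?_⟩
  · apply hT.reg
    rw [← mul_smul_comm, ← hc, hm]
  · have : x ^ n • (Algebra.TensorProduct.lmul' A c - 1) = 0 := by
      rw [smul_sub, ← map_smul, ← hc, hm1, Algebra.algebraMap_eq_smul_one, sub_self]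
    exact sub_eq_zero.mp (hB.reg _ this)

end

end Groth.Agent.Pi1B.RegPairUnramified
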