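import Mathlib.AlgebraicGeometry.Morphisms.RingHomProperties
import Mathlib.AlgebraicGeometry.Morphisms.Finite
import Mathlib.AlgebraicGeometry.Morphisms.Flat
import Mathlib.AlgebraicGeometry.Morphisms.Etale
import Mathlib.AlgebraicGeometry.Morphisms.FormallyUnramified

/-!
# Ring-level properties over opens contained in `U` from properties of `f ∣_ U`
-/

set_option autoImplicit false

universe u

open CategoryTheory AlgebraicGeometry TopologicalSpace Opposite CategoryTheory.Limits

namespace Groth.Agent.Pi1B.RestrictProp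

section

variable {X Y : Scheme.{u}}

theorem exists_image_eq {U D : X.Opens} (h : D ≤ U) : ∃ V : U.toScheme.Opens, U.ι ''ᵁ V = D := by
  refine ⟨U.ι ⁻¹ᵁ D, ?_⟩
  rw [Scheme.Hom.image_preimage_eq_opensRange_inf, Scheme.Opens.opensRange_ι]
  exact inf_eq_right.mpr h

/-- If `f ∣_ U` has a ring-theoretic property `P` then so do the maps on sections over affine opens
lying over affine opens `D ≤ U`. -/
theorem appLE_of_restrict {P : MorphismProperty Scheme.{u}}
    {Q : ∀ {R S : Type u} [CommRing R] [CommRing S], (R →+* S) → Prop}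
    [HasRingHomProperty P Q] (f : Y ⟶ X) (U : X.Opens) (h : P (f ∣_ U)) {D : X.Opens}
    (hD : IsAffineOpen D) (hDU : D ≤ U) {E : Y.Opens} (hE : IsAffineOpen E)
    (e : E ≤ f ⁻¹ᵁ D) : Q (f.appLE D E e).hom := by
  obtain ⟨V, rfl⟩ := exists_image_eq hDU
  obtain ⟨W, rfl⟩ : ∃ W : (f ⁻¹ᵁ U).toScheme.Opens, (f ⁻¹ᵁ U).ι ''ᵁ W = E :=
    exists_image_eq (e.trans (f.preimage_mono hDU))
  have hV : IsAffineOpen V := (U.ι.isAffineOpen_iff_of_isOpenImmersion).mp hD
  have hW : IsAffineOpen W := ((f ⁻¹ᵁ U).ι.isAffineOpen_iff_of_isOpenImmersion).mp hE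
  have e' : W ≤ (f ∣_ U) ⁻¹ᵁ V := by
    rw [← image_morphismRestrict_preimage] at e
    intro z hz
    obtain ⟨z', hz', h2⟩ := e ⟨z, hz, rfl⟩
    have : z' = z := (f ⁻¹ᵁ U).ι.isOpenEmbedding.injective h2
    rwa [← this]
  have := morphismRestrict_appLE f U V W e'
  have h2 := HasRingHomProperty.appLE P (f ∣_ U) h ⟨V, hV⟩ ⟨W, hW⟩ e'
  simp only at h2
  rwa [this] at h2

theorem finite_app_of_restrict (f : Y ⟶ X) (U : X.Opens) [IsFinite (f ∣_ U)] {D : X.Opens}
    (hD : IsAffineOpen D) (hDU : D ≤ U) : (f.app D).hom.Finite := by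
  obtain ⟨V, rfl⟩ := exists_image_eq hDU
  have hV : IsAffineOpen V := (U.ι.isAffineOpen_iff_of_isOpenImmersion).mp hD
  have h := IsFinite.finite_app (f := f ∣_ U) V hV
  rw [morphismRestrict_app] at h
  exact (RingHom.finite_respectsIso.cancel_right_isIso _ _).mp h

theorem isAffineOpen_preimage_of_restrict (f : Y ⟶ X) (U : X.Opens) [IsAffineHom (f ∣_ U)]
    {D : X.Opens} (hD : IsAffineOpen D) (hDU : D ≤ U) : IsAffineOpen (f ⁻¹ᵁ D) := by
  obtain ⟨V, rfl⟩ := exists_image_eq hDU
  have hV : IsAffineOpen V := (U.ι.isAffineOpen_iff_of_isOpenImmersion).mp hD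
  rw [← image_morphismRestrict_preimage]
  exact ((f ⁻¹ᵁ U).ι.isAffineOpen_iff_of_isOpenImmersion).mpr (hV.preimage (f ∣_ U))

/-- For an affine morphism, a ring-theoretic property can be checked on `f.app W`. -/
theorem of_app {P : MorphismProperty Scheme.{u}}
    {Q : ∀ {R S : Type u} [CommRing R] [CommRing S], (R →+* S) → Prop}
    [HasRingHomProperty P Q] (f : Y ⟶ X) [IsAffineHom f]
    (H : ∀ W : X.Opens, IsAffineOpen W → Q (f.app W).hom) : P f := by
  rw [IsZariskiLocalAtTarget.iff_of_iSup_eq_top (P := P) _ (iSup_affineOpens_eq_top _)]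
  intro W
  have : IsAffine (f ⁻¹ᵁ W.1).toScheme := W.2.preimage f
  have : IsAffine W.1.toScheme := W.2
  have hQ : RingHom.RespectsIso Q := (HasRingHomProperty.isLocal_ringHomProperty P).respectsIso
  have h := (hQ.cancel_right_isIso (f.app (W.1.ι ''ᵁ ⊤))
    (Y.presheaf.map (eqToHom (image_morphismRestrict_preimage f W.1 ⊤)).op)).mpr
    (H _ (by rw [Scheme.Opens.ι_image_top]; exact W.2))
  rw [HasRingHomProperty.iff_of_isAffine (P := P), morphismRestrict_appTop]
  exact h

end

end Groth.Agent.Pi1B.RestrictProp
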