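import Groth.Agent.Pi1B.OpenPair
import Groth.Agent.Pi1B.RestrictProp
import Groth.Agent.Pi1B.RegPairFinite
import Mathlib.AlgebraicGeometry.Normalization
import Mathlib.AlgebraicGeometry.Morphisms.FinitePresentation
import Mathlib.RingTheory.Flat.EquationalCriterion

/-!
# The depth-two extension of a finite flat morphism over an open

Let `f : V ⟶ X` be a flat qcqs morphism with `X` locally Noetherian, factoring through the open `U`,
such that `f ∣_ U` is finite, and such that the local rings of `X` off `U` have depth at least two.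
Then `f_* O_V` is a coherent `O_X`-algebra; its relative spectrum is `f.normalization`.
-/

set_option autoImplicit false

universe u

open CategoryTheory AlgebraicGeometry TopologicalSpace Opposite CategoryTheory.Limits

namespace Groth.Agent.Pi1B.S2Ext

open Groth.Agent.Pi1B.RegPair Groth.Agent.Pi1B.Hartogs Groth.Agent.Pi1B.RestrictProp
  Groth.Agent.Pi1B.OpenPair Groth.Agent.Pi1B.RegPairFinite

theorem isLocalization_of_eq_basicOpen {V : Scheme.{u}} {T T' : V.Opens} (hT : IsCompact T.1)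
    (hT' : IsQuasiSeparated T.1) (s : Γ(V, T)) (e : T' = V.basicOpen s) (h : T' ≤ T) :
    letI : Algebra Γ(V, T) Γ(V, T') := (res V h).toAlgebra
    IsLocalization.Away s Γ(V, T') := by
  subst e
  exact isLocalization_basicOpen_of_qcqs hT hT' s

/-- Sections over the preimage of an affine open form a finite module. -/
theorem finite_app_of_isRegPair {V X : Scheme.{u}} (f : V ⟶ X) [QuasiCompact f] [QuasiSeparated f]
    [Flat f] {W : X.Opens} (hW : IsAffineOpen W) [IsNoetherianRing Γ(X, W)] {x y : Γ(X, W)}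
    (h : IsRegPair Γ(X, W) x y) (hfx : (f.app (X.basicOpen x)).hom.Finite)
    (hflx : (f.app (X.basicOpen x)).hom.Flat)
    (hfy : (f.app (X.basicOpen y)).hom.Finite) : (f.app W).hom.Finite := by
  have hpair : IsRegPair Γ(V, f ⁻¹ᵁ W) (f.app W x) (f.app W y) :=
    (isRegPairOn_of_flat f hW h).isRegPair
  algebraize [(f.app W).hom, (f.app (X.basicOpen x)).hom, (f.app (X.basicOpen y)).hom]
  have hle : ∀ z : Γ(X, W), f ⁻¹ᵁ X.basicOpen z ≤ f ⁻¹ᵁ W :=
    fun z => f.preimage_mono (X.basicOpen_le z)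
  let algB : ∀ z : Γ(X, W), Algebra Γ(V, f ⁻¹ᵁ W) Γ(V, f ⁻¹ᵁ X.basicOpen z) :=
    fun z => (res V (hle z)).toAlgebra
  have hloc : ∀ z : Γ(X, W), IsLocalization.Away (algebraMap Γ(X, W) Γ(V, f ⁻¹ᵁ W) z)
      Γ(V, f ⁻¹ᵁ X.basicOpen z) := fun z =>
    isLocalization_of_eq_basicOpen (f.isCompact_preimage hW.isCompact)
      (f.isQuasiSeparated_preimage hW.isQuasiSeparated) (f.app W z) (f.preimage_basicOpen z) (hle z)
  let algA : ∀ z : Γ(X, W), Algebra Γ(X, W) Γ(V, f ⁻¹ᵁ X.basicOpen z) :=
    fun z => (f.appLE W (f ⁻¹ᵁ X.basicOpen z) (hle z)).hom.toAlgebra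
  have tow : ∀ z : Γ(X, W), IsScalarTower Γ(X, W) Γ(V, f ⁻¹ᵁ W) Γ(V, f ⁻¹ᵁ X.basicOpen z) :=
    fun z => IsScalarTower.of_algebraMap_eq' rfl
  have hlocA : ∀ z : Γ(X, W), IsLocalization.Away z Γ(X, X.basicOpen z) :=
    fun z => hW.isLocalization_basicOpen z
  have tow2 : ∀ z : Γ(X, W), (f.app (X.basicOpen z)).hom.comp
      (algebraMap Γ(X, W) Γ(X, X.basicOpen z)) =
        algebraMap Γ(X, W) Γ(V, f ⁻¹ᵁ X.basicOpen z) := by
    intro z
    change _ = (f.appLE W (f ⁻¹ᵁ X.basicOpen z) (hle z)).hom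
    rw [RingHom.algebraMap_toAlgebra, ← CommRingCat.hom_comp, Scheme.Hom.app_eq_appLE,
      Scheme.Hom.map_appLE]
  have towx : IsScalarTower Γ(X, W) Γ(X, X.basicOpen x) Γ(V, f ⁻¹ᵁ X.basicOpen x) :=
    IsScalarTower.of_algebraMap_eq' (tow2 x).symm
  have towy : IsScalarTower Γ(X, W) Γ(X, X.basicOpen y) Γ(V, f ⁻¹ᵁ X.basicOpen y) :=
    IsScalarTower.of_algebraMap_eq' (tow2 y).symm
  have hNx : IsNoetherianRing Γ(X, X.basicOpen x) :=
    IsLocalization.isNoetherianRing (.powers x) _ inferInstance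
  have : Module.FinitePresentation Γ(X, X.basicOpen x) Γ(V, f ⁻¹ᵁ X.basicOpen x) :=
    Module.finitePresentation_of_finite _ _
  have hproj : Module.Projective Γ(X, X.basicOpen x) Γ(V, f ⁻¹ᵁ X.basicOpen x) :=
    Module.Flat.projective_of_finitePresentation
  have hL : ∀ z : Γ(X, W), IsLocalizedModule (.powers z)
      (IsScalarTower.toAlgHom Γ(X, W) Γ(V, f ⁻¹ᵁ W) Γ(V, f ⁻¹ᵁ X.basicOpen z)).toLinearMap := by
    intro z
    rw [isLocalizedModule_iff_isLocalization, Algebra.algebraMapSubmonoid_powers]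
    exact hloc z
  have hx0 : ∀ b : Γ(V, f ⁻¹ᵁ W), x • b = 0 → b = 0 := by
    intro b hb
    apply hpair.reg
    rw [← hb, Algebra.smul_def]
    rfl
  have := hL x
  have := hL y
  exact finite_of_isRegPair h hx0 (Ax := Γ(X, X.basicOpen x))
    (IsScalarTower.toAlgHom Γ(X, W) Γ(V, f ⁻¹ᵁ W) Γ(V, f ⁻¹ᵁ X.basicOpen x)).toLinearMap
    (Ay := Γ(X, X.basicOpen y))
    (IsScalarTower.toAlgHom Γ(X, W) Γ(V, f ⁻¹ᵁ W) Γ(V, f ⁻¹ᵁ X.basicOpen y)).toLinearMap

section

variable {X V : Scheme.{u}} [IsLocallyNoetherian X] (U : X.Opens)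
  (hU : ∀ x : X, x ∉ U → (2 : ℕ∞) ≤ LocCoh.depth (X.presheaf.stalk x) (X.presheaf.stalk x))
  (f : V ⟶ X) [QuasiCompact f] [QuasiSeparated f] [Flat f] [IsFinite (f ∣_ U)]

include hU in
/-- `Γ(V, f⁻¹ W)` is finite over `Γ(X, W)`. -/
theorem finite_app {W : X.Opens} (hW : IsAffineOpen W) : (f.app W).hom.Finite := by
  have hN : IsNoetherianRing Γ(X, W) := IsLocallyNoetherian.component_noetherian ⟨W, hW⟩
  obtain ⟨x, y, hxy, hx, hy⟩ := exists_isRegPair_basicOpen_le hW U (fun x _ hxU => hU x hxU)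
  have hfl : (f.app (X.basicOpen x)).hom.Flat := by
    have haff : IsAffineOpen (f ⁻¹ᵁ X.basicOpen x) :=
      isAffineOpen_preimage_of_restrict f U (hW.basicOpen x) hx
    have := f.flat_appLE (hW.basicOpen x) haff le_rfl
    rwa [← Scheme.Hom.app_eq_appLE] at this
  exact finite_app_of_isRegPair f hW hxy (finite_app_of_restrict f U (hW.basicOpen x) hx) hfl
    (finite_app_of_restrict f U (hW.basicOpen y) hy)

include hU in
theorem integralClosure_eq_top {W : X.Opens} (hW : IsAffineOpen W) :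
    letI := (f.app W).hom.toAlgebra
    integralClosure Γ(X, W) Γ(V, f ⁻¹ᵁ W) = ⊤ := by
  let := (f.app W).hom.toAlgebra
  have : Module.Finite Γ(X, W) Γ(V, f ⁻¹ᵁ W) := finite_app U hU f hW
  rw [integralClosure_eq_top_iff]
  infer_instance

include hU in
/-- The depth-two extension is finite. -/
theorem isFinite_fromNormalization : IsFinite f.fromNormalization := by
  refine ⟨fun W hW => ?_⟩
  have hN : IsNoetherianRing Γ(X, W) := IsLocallyNoetherian.component_noetherian ⟨W, hW⟩
  rw [f.fromNormalization_app hW]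
  let := (f.app W).hom.toAlgebra
  have : Module.Finite Γ(X, W) Γ(V, f ⁻¹ᵁ W) := finite_app U hU f hW
  have h2 : Module.Finite Γ(X, W) (integralClosure Γ(X, W) Γ(V, f ⁻¹ᵁ W)) :=
    Module.Finite.of_injective (integralClosure Γ(X, W) Γ(V, f ⁻¹ᵁ W)).val.toLinearMap
      Subtype.val_injective
  refine (RingHom.finite_respectsIso.cancel_right_isIso _ _).mpr ?_
  exact RingHom.finite_algebraMap.mpr h2

include hU in
/-- The sections of the depth two extension over the preimage of an affine open. -/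
theorem bijective_toNormalization_app {W : X.Opens} (hW : IsAffineOpen W) :
    Function.Bijective (f.toNormalization.app (f.fromNormalization ⁻¹ᵁ W)) := by
  have h := f.toNormalization_app_preimage ⟨W, hW⟩
  simp only at h
  let := (f.app W).hom.toAlgebra
  have h2 : IsIso (CommRingCat.ofHom (integralClosure Γ(X, W) Γ(V, f ⁻¹ᵁ W)).val.toRingHom) := by
    rw [integralClosure_eq_top U hU f hW]
    exact inferInstanceAs (IsIso (Subalgebra.topEquiv
      (R := Γ(X, W)) (A := ↑Γ(V, f ⁻¹ᵁ W))).toRingEquiv.toCommRingCatIso.hom)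
  have h3 : IsIso (f.toNormalization.app (f.fromNormalization ⁻¹ᵁ W)) := by
    rw [h]
    exact IsIso.comp_isIso' inferInstance (IsIso.comp_isIso' h2 inferInstance)
  exact (ConcreteCategory.isIso_iff_bijective _).mp h3

/-- depth at least two at a point of an affine open from a regular pair of sections vanishing
there. -/
theorem two_le_depth_stalk_of_isRegPair {N : Scheme.{u}} {T : N.Opens} (hT : IsAffineOpen T)
    {a b : Γ(N, T)} (h : IsRegPair Γ(N, T) a b) (y : N) (hyT : y ∈ T) (ha : y ∉ N.basicOpen a)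
    (hb : y ∉ N.basicOpen b) :
    (2 : ℕ∞) ≤ LocCoh.depth (N.presheaf.stalk y) (N.presheaf.stalk y) := by
  let : Algebra Γ(N, T) (N.presheaf.stalk y) :=
    TopCat.Presheaf.algebra_section_stalk N.presheaf (⟨y, hyT⟩ : T)
  have h2 : IsLocalization.AtPrime (N.presheaf.stalk y) (hT.primeIdealOf ⟨y, hyT⟩).asIdeal :=
    hT.isLocalization_stalk ⟨y, hyT⟩
  have : Module.Flat Γ(N, T) (N.presheaf.stalk y) :=
    IsLocalization.flat _ (hT.primeIdealOf ⟨y, hyT⟩).asIdeal.primeCompl
  refine two_le_depth_of_isRegPair ?_ ?_ (IsRegPair.map_flat (B := N.presheaf.stalk y) h)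
  · rw [IsLocalRing.mem_maximalIdeal, mem_nonunits_iff]
    intro hu
    exact ha ((N.mem_basicOpen a y hyT).mpr hu)
  · rw [IsLocalRing.mem_maximalIdeal, mem_nonunits_iff]
    intro hu
    exact hb ((N.mem_basicOpen b y hyT).mpr hu)

include hU in
/-- The depth-two extension has depth at least two at all points over the complement of `U`. -/
theorem two_le_depth_normalization (y : f.normalization) (hy : f.fromNormalization y ∉ U) :
    (2 : ℕ∞) ≤ LocCoh.depth (f.normalization.presheaf.stalk y)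
      (f.normalization.presheaf.stalk y) := by
  obtain ⟨_, ⟨W, hW, rfl⟩, hyW, -⟩ := X.isBasis_affineOpens.exists_subset_of_mem_open
    (Set.mem_univ (f.fromNormalization y)) isOpen_univ
  have hN : IsNoetherianRing Γ(X, W) := IsLocallyNoetherian.component_noetherian ⟨W, hW⟩
  obtain ⟨a, b, hab, ha, hb⟩ := exists_isRegPair_basicOpen_le hW U (fun x _ hxU => hU x hxU)
  have hflat : Flat (f.toNormalization ≫ f.fromNormalization) := by
    rw [f.toNormalization_fromNormalization]; infer_instance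
  have h1 := (isRegPairOn_of_flat (f.toNormalization ≫ f.fromNormalization) hW hab).isRegPair
  let e := RingEquiv.ofBijective _ (bijective_toNormalization_app U hU f hW)
  have h2 : IsRegPair Γ(f.normalization, f.fromNormalization ⁻¹ᵁ W)
      (f.fromNormalization.app W a) (f.fromNormalization.app W b) := by
    have h3 := h1.of_ringEquiv e.symm
    have h4 : ∀ c : Γ(X, W), e.symm ((f.toNormalization ≫ f.fromNormalization).app W c) =
        f.fromNormalization.app W c := by
      intro c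
      refine (RingEquiv.symm_apply_eq e).mpr ?_
      exact congrArg (fun φ => φ.hom c)
        (Scheme.Hom.comp_app f.toNormalization f.fromNormalization W)
    rw [h4, h4] at h3
    exact h3
  refine two_le_depth_stalk_of_isRegPair (hW.preimage f.fromNormalization) h2 y hyW ?_ ?_
  · rw [← Scheme.Hom.preimage_basicOpen]
    exact fun h => hy (ha h)
  · rw [← Scheme.Hom.preimage_basicOpen]
    exact fun h => hy (hb h)

end

section

variable {X : Scheme.{u}} (U : X.Opens) {V : Scheme.{u}} (v : V ⟶ (U : Scheme.{u}))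

/-- `V ≅ pullback (V ⟶ U ⟶ X) U.ι`. -/
theorem isIso_fst : IsIso (pullback.fst (v ≫ U.ι) U.ι) := inferInstance

theorem fst_comp : pullback.fst (v ≫ U.ι) U.ι ≫ v = pullback.snd (v ≫ U.ι) U.ι := by
  rw [← cancel_mono U.ι, Category.assoc, pullback.condition]

theorem isIntegralHom_snd [IsIntegralHom v] : IsIntegralHom (pullback.snd (v ≫ U.ι) U.ι) := by
  rw [← fst_comp]; infer_instance

/-- restricting the extension back to `U` -/
noncomputable def extIso [QuasiCompact (v ≫ U.ι)] [QuasiSeparated (v ≫ U.ι)] [IsIntegralHom v] :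
    pullback (v ≫ U.ι).fromNormalization U.ι ≅ V :=
  have := isIntegralHom_snd U v
  (asIso ((v ≫ U.ι).normalizationPullback U.ι)).symm ≪≫
    (asIso (pullback.snd (v ≫ U.ι) U.ι).toNormalization).symm ≪≫
    asIso (pullback.fst (v ≫ U.ι) U.ι)

theorem extIso_hom_comp [QuasiCompact (v ≫ U.ι)] [QuasiSeparated (v ≫ U.ι)] [IsIntegralHom v] :
    (extIso U v).hom ≫ v = pullback.snd (v ≫ U.ι).fromNormalization U.ι := by
  have := isIntegralHom_snd U v
  rw [← Iso.eq_inv_comp]
  simp only [extIso, Iso.trans_inv, Iso.symm_inv, asIso_hom, asIso_inv, Category.assoc]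
  rw [IsIso.eq_inv_comp, fst_comp, Scheme.Hom.normalizationPullback_snd,
    Scheme.Hom.toNormalization_fromNormalization]

end

end Groth.Agent.Pi1B.S2Ext
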