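import Groth.Agent.Pi1A.FEtAffine
import Groth.Agent.Pi1B.LimField
import Groth.Agent.Pi1B.SectionDesc
import Mathlib.FieldTheory.SeparableClosure
import Mathlib.RingTheory.Etale.Field
import Mathlib.RingTheory.Etale.Pi
import Groth.Agent.S0283

/-!
# Points of a finite etale cover over `X ×_k kbar` are defined over a finite separable extension
-/

universe u

open CategoryTheory CategoryTheory.Limits AlgebraicGeometry

namespace Groth.Agent.Pi1B.SplitDom

open Groth.Agent.Pi1A.FEtAffine LimField SectionDesc

set_option backward.isDefEq.respectTransparency.types false in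
set_option backward.defeqAttrib.useBackward true in
/-- Pulling back a finite coproduct of schemes: the pieces again form a coproduct. -/
lemma isIso_sigmaDesc_fst {α : Type u} [Finite α]
    {X : Scheme.{u}} {Z : α → Scheme.{u}} (π : (a : α) → Z a ⟶ X) {Y : Scheme.{u}} (f : Y ⟶ X)
    (hπ : IsIso (Sigma.desc π)) :
    IsIso (Sigma.desc ((fun _ ↦ pullback.fst _ _) : (a : α) → pullback f (π a) ⟶ _)) := by
  let c := (Cofan.mk _ ((fun _ ↦ pullback.fst _ _) : (a : α) → pullback f (π a) ⟶ _))
  apply c.nonempty_isColimit_iff_isIso_sigmaDesc.mp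
  have hau : IsUniversalColimit (Cofan.mk X π) := FinitaryPreExtensive.isUniversal_finiteCoproducts
    ((Cofan.nonempty_isColimit_iff_isIso_sigmaDesc _).mpr hπ).some
  refine hau.nonempty_isColimit_of_pullbackCone_left _ (𝟙 _) _ _ (fun i ↦ ?_)
    (PullbackCone.mk (𝟙 _) f (by simp)) (IsPullback.id_horiz f).isLimit _ (Iso.refl _)
    (by simp) (by simp [c]) (by simp [pullback.condition, c])
  exact pullback.isLimit _ _

section

variable (k : Type u) [Field k] {X : Scheme.{u}} (f : X ⟶ Spec (CommRingCat.of k))

/-- The map `X ×_k F ⟶ X ×_k E`. -/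
noncomputable def trans (E F : Type u) [Field E] [Field F] [Algebra k E] [Algebra k F]
    [Algebra E F] [IsScalarTower k E F] :
    pullback f (toBase k F) ⟶ pullback f (toBase k E) :=
  pullback.lift (pullback.fst _ _)
    (pullback.snd _ _ ≫ Spec.map (CommRingCat.ofHom (algebraMap E F)))
    (by rw [Category.assoc, ← Spec.map_comp, ← CommRingCat.ofHom_comp,
      ← IsScalarTower.algebraMap_eq, pullback.condition])

@[reassoc (attr := simp)]
lemma trans_fst (E F : Type u) [Field E] [Field F] [Algebra k E] [Algebra k F]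
    [Algebra E F] [IsScalarTower k E F] :
    trans k f E F ≫ pullback.fst f (toBase k E) = pullback.fst f (toBase k F) :=
  pullback.lift_fst _ _ _

lemma toBase_comp (E F : Type u) [Field E] [Field F] [Algebra k E] [Algebra k F]
    [Algebra E F] [IsScalarTower k E F] :
    Spec.map (CommRingCat.ofHom (algebraMap E F)) ≫ toBase k E = toBase k F := by
  rw [← Spec.map_comp, ← CommRingCat.ofHom_comp, ← IsScalarTower.algebraMap_eq]

lemma isPullback_trans (E F : Type u) [Field E] [Field F] [Algebra k E] [Algebra k F]
    [Algebra E F] [IsScalarTower k E F] :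
    IsPullback (trans k f E F) (pullback.snd f (toBase k F)) (pullback.snd f (toBase k E))
      (Spec.map (CommRingCat.ofHom (algebraMap E F))) := by
  refine IsPullback.of_right (h₁₂ := pullback.fst f (toBase k E)) (h₂₂ := toBase k E) (v₁₃ := f)
    ?_ (pullback.lift_snd _ _ _) (IsPullback.of_hasPullback f (toBase k E))
  rw [trans_fst, toBase_comp]
  exact IsPullback.of_hasPullback f (toBase k F)

/-- Over `X`, a map from `X ×_k F` (`F / k` finite) to a finite etale cover factors through
`X ×_k E` for `E` the separable closure of `k` in `F`. -/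
lemma exists_sep (F : Type u) [Field F] [Algebra k F] [FiniteDimensional k F]
    (U : FEt.Cat X) (g : pullback f (toBase k F) ⟶ U.left)
    (hg : g ≫ U.hom = pullback.fst f (toBase k F)) :
    ∃ h : pullback f (toBase k (separableClosure k F)) ⟶ U.left,
      h ≫ U.hom = pullback.fst f (toBase k (separableClosure k F)) ∧
      trans k f (separableClosure k F) F ≫ h = g := by
  let p := trans k f (separableClosure k F) F
  have hpb := isPullback_trans k f (separableClosure k F) F
  have : IsIntegralHom p := MorphismProperty.of_isPullback hpb.flip inferInstance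
  have : UniversallyInjective p := MorphismProperty.of_isPullback hpb.flip
    (universallyInjective_spec_map (separableClosure k F) F)
  have : Surjective p := MorphismProperty.of_isPullback hpb.flip inferInstance
  have : (FEt.restrict p).Full := (Groth.Agent.S0283.result p).1
  exact exists_desc_of_full p (pullback.fst f _) U g (by rw [hg]; exact (trans_fst k f _ F).symm)

variable (K : Type u) [Field K] [Algebra k K] [Algebra.IsAlgebraic k K]

lemma exists_finSub [CompactSpace X] [QuasiSeparatedSpace X] (U : FEt.Cat X)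
    (s : pullback f (toBase k K) ⟶ U.left) (hs : s ≫ U.hom = pullback.fst f (toBase k K)) :
    ∃ (F : FinSub k K) (g : pullback f (toBase k F.1) ⟶ U.left)
      (q : pullback f (toBase k K) ⟶ pullback f (toBase k F.1)),
      g ≫ U.hom = pullback.fst f (toBase k F.1) ∧ q ≫ g = s := by
  have hQC : QuasiCompact f := inferInstance
  have hQS : QuasiSeparated f := inferInstance
  have hE : Etale U.hom := U.prop.2
  obtain ⟨F, g, h1, h2⟩ := Scheme.exists_π_app_comp_eq_of_locallyOfFinitePresentation
    (diag k K f) (LimPull.pullFst (specFunctor k K) (specBase k K) f) U.hom (cone k K f)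
    (isLimitCone k K f) s (by
      ext F : 2
      refine Eq.trans ?_ hs.symm
      exact LimPull.pullCone_fst _ _ _ _ _ _ F)
  exact ⟨F.unop, g, (cone k K f).π.app F, h2, h1⟩

/-- Every `X`-morphism from `X ×_k K` (`K / k` algebraic) to a finite etale cover of `X` factors
through `X ×_k E` for a finite separable extension `E / k`. -/
lemma exists_sepField [CompactSpace X] [QuasiSeparatedSpace X] (U : FEt.Cat X)
    (s : pullback f (toBase k K) ⟶ U.left) (hs : s ≫ U.hom = pullback.fst f (toBase k K)) :
    ∃ (E : Type u) (_ : Field E) (_ : Algebra k E) (_ : FiniteDimensional k E)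
      (_ : Algebra.IsSeparable k E) (h : pullback f (toBase k E) ⟶ U.left)
      (q : pullback f (toBase k K) ⟶ pullback f (toBase k E)),
      h ≫ U.hom = pullback.fst f (toBase k E) ∧ q ≫ h = s := by
  obtain ⟨F, g, q, hg, hq⟩ := exists_finSub k f K U s hs
  obtain ⟨h, hh, hh'⟩ := exists_sep k f F.1 U g hg
  exact ⟨separableClosure k F.1, inferInstance, inferInstance, inferInstance, inferInstance, h,
    q ≫ trans k f (separableClosure k F.1) F.1, hh, by rw [Category.assoc, hh', hq]⟩

/-- Assembling finitely many separable points. -/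
lemma exists_cover {ι : Type u} [Finite ι] (U : FEt.Cat X)
    (E : ι → Type u) [∀ i, Field (E i)] [∀ i, Algebra k (E i)] [∀ i, FiniteDimensional k (E i)]
    [∀ i, Algebra.IsSeparable k (E i)] (h : ∀ i, pullback f (toBase k (E i)) ⟶ U.left)
    (hh : ∀ i, h i ≫ U.hom = pullback.fst f (toBase k (E i)))
    (hcov : ∀ u : U.left, ∃ (i : ι) (z : (pullback f (toBase k (E i)) : Scheme.{u})), h i z = u) :
    ∃ (V : FEt.Cat (Spec (CommRingCat.of k))) (e : (FEt.restrict f).obj V ⟶ U),
      Surjective e.left := by
  have (i : ι) : Algebra.FormallyEtale k (E i) := Algebra.FormallyEtale.of_isSeparable k (E i)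
  have (i : ι) : Algebra.Etale k (E i) :=
    { finitePresentation := Algebra.FinitePresentation.of_finiteType.mp inferInstance }
  let V : FEt.Cat (Spec (CommRingCat.of k)) := ofAlgebra k (∀ i, E i)
  let π : ∀ i, Spec (CommRingCat.of (E i)) ⟶ V.left := fun i =>
    Spec.map (CommRingCat.ofHom (Pi.evalRingHom _ i))
  have hπV : ∀ i, π i ≫ V.hom = toBase k (E i) := fun i =>
    (Spec.map_comp (CommRingCat.ofHom (algebraMap k (∀ i, E i)))
      (CommRingCat.ofHom (Pi.evalRingHom _ i))).symm
  have hπ : IsIso (Sigma.desc π) :=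
    inferInstanceAs (IsIso (sigmaSpec (fun i => CommRingCat.of (E i))))
  let W := (FEt.restrict f).obj V
  have hiso := isIso_sigmaDesc_fst π (proj f V) hπ
  let F : ∀ i, pullback (proj f V) (π i) ⟶ W.left := fun i => pullback.fst (proj f V) (π i)
  have hF : IsIso (Sigma.desc F) := hiso
  let cc : ∀ i, pullback (proj f V) (π i) ⟶ pullback f (toBase k (E i)) := fun i =>
    pullback.lift (F i ≫ W.hom) (pullback.snd (proj f V) (π i)) (by
      rw [← hπV, ← pullback.condition_assoc, Category.assoc]
      exact congr(F i ≫ $((isPullback f V).w.symm)))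
  have hcc1 : ∀ i, cc i ≫ pullback.fst _ _ = F i ≫ W.hom := fun i => pullback.lift_fst _ _ _
  have hcc2 : ∀ i, cc i ≫ pullback.snd _ _ = pullback.snd _ _ := fun i => pullback.lift_snd _ _ _
  let m : W.left ⟶ U.left := inv (Sigma.desc F) ≫ Sigma.desc (fun i => cc i ≫ h i)
  have hm : Sigma.desc F ≫ m = Sigma.desc (fun i => cc i ≫ h i) := by
    simp only [m, IsIso.hom_inv_id_assoc]
  have hFm : ∀ i, F i ≫ m = cc i ≫ h i := fun i => by
    have := congr(Sigma.ι _ i ≫ $hm)
    simpa using this
  have hmw : m ≫ U.hom = W.hom := by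
    rw [← cancel_epi (Sigma.desc F), reassoc_of% hm]
    apply Sigma.hom_ext
    intro i
    rw [Sigma.ι_desc_assoc, Sigma.ι_desc_assoc]
    rw [Category.assoc, hh, hcc1]
  refine ⟨V, MorphismProperty.Over.homMk m hmw trivial, ⟨?_⟩⟩
  intro u
  obtain ⟨i, z, hz⟩ := hcov u
  let d1 : pullback f (toBase k (E i)) ⟶ W.left :=
    (isPullback f V).lift (pullback.snd f (toBase k (E i)) ≫ π i) (pullback.fst _ _)
      (by rw [Category.assoc, hπV, pullback.condition])
  have hd1 : d1 ≫ proj f V = pullback.snd f (toBase k (E i)) ≫ π i :=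
    (isPullback f V).lift_fst _ _ _
  have hd2 : d1 ≫ W.hom = pullback.fst f (toBase k (E i)) :=
    (isPullback f V).lift_snd _ _ _
  let d : pullback f (toBase k (E i)) ⟶ pullback (proj f V) (π i) :=
    pullback.lift d1 (pullback.snd _ _) hd1
  have hd : d ≫ F i = d1 := pullback.lift_fst _ _ _
  have hdc : d ≫ cc i = 𝟙 _ := by
    apply pullback.hom_ext
    · rw [Category.assoc, hcc1, reassoc_of% hd, hd2, Category.id_comp]
    · rw [Category.assoc, hcc2, Category.id_comp]
      exact pullback.lift_snd _ _ _
  refine ⟨d1 z, ?_⟩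
  change m (d1 z) = u
  rw [← hz, ← Scheme.Hom.comp_apply]
  congr 2
  rw [← hd, Category.assoc, hFm, reassoc_of% hdc]

end

end Groth.Agent.Pi1B.SplitDom
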