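import Mathlib.AlgebraicGeometry.Morphisms.Integral
import Mathlib.AlgebraicGeometry.Morphisms.UniversallyInjective
import Mathlib.FieldTheory.IsAlgClosed.AlgebraicClosure
import Mathlib.RingTheory.Spectrum.Prime.Topology

set_option autoImplicit false

universe u

open TensorProduct

namespace Groth.Agent.Pi1B.UHRing

/-- A prime of an integral algebra over the kernel of a geometric point is the kernel of a
geometric point over it. -/
theorem exists_algHom_of_isIntegral {R T Ω : Type u} [CommRing R] [CommRing T] [Algebra R T]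
    [Algebra.IsIntegral R T] [Field Ω] [IsAlgClosed Ω] [Algebra R Ω] (n : Ideal T) [n.IsPrime]
    (h : n.comap (algebraMap R T) = RingHom.ker (algebraMap R Ω)) :
    ∃ φ : T →ₐ[R] Ω, RingHom.ker φ = n := by
  let p : Ideal R := n.under R
  have hp : p = RingHom.ker (algebraMap R Ω) := h
  let f : R ⧸ p →+* Ω := Ideal.Quotient.lift p (algebraMap R Ω) (fun a ha => by
    rw [hp] at ha; exact ha)
  have hf : Function.Injective f := by
    rw [injective_iff_map_eq_zero]
    intro a ha
    obtain ⟨a, rfl⟩ := Ideal.Quotient.mk_surjective a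
    rw [Ideal.Quotient.eq_zero_iff_mem, hp]
    exact ha
  let _ : Algebra (R ⧸ p) Ω := f.toAlgebra
  have : FaithfulSMul (R ⧸ p) Ω := (faithfulSMul_iff_algebraMap_injective _ _).mpr hf
  let φ : T ⧸ n →ₐ[R ⧸ p] Ω := IsAlgClosed.lift
  let φ' : T →+* Ω := φ.toRingHom.comp (Ideal.Quotient.mk n)
  refine ⟨⟨φ', fun r => ?_⟩, ?_⟩
  · have : algebraMap R Ω r = algebraMap (R ⧸ p) Ω (Ideal.Quotient.mk p r) := rfl
    rw [this, ← φ.commutes]
    rfl
  · ext x
    have hinj : Function.Injective φ := by
      rw [← AlgHom.coe_toRingHom, RingHom.injective_iff_ker_eq_bot]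
      have : (RingHom.ker φ.toRingHom).IsPrime := RingHom.ker_isPrime _
      apply Ideal.eq_bot_of_comap_eq_bot (R := R ⧸ p)
      rw [RingHom.comap_ker, AlgHom.comp_algebraMap]
      exact (RingHom.injective_iff_ker_eq_bot _).mp hf
    rw [RingHom.mem_ker]
    change φ (Ideal.Quotient.mk n x) = 0 ↔ _
    rw [map_eq_zero_iff _ hinj, Ideal.Quotient.eq_zero_iff_mem]

/-- Ring-level universal homeomorphisms: integral, radicial and surjective on spectra. -/
structure UH (R S : Type u) [CommRing R] [CommRing S] [Algebra R S] : Prop where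
  isIntegral : Algebra.IsIntegral R S
  inj : ∀ (K : Type u) [Field K] (g₁ g₂ : S →+* K),
    g₁.comp (algebraMap R S) = g₂.comp (algebraMap R S) → g₁ = g₂
  surj : Function.Surjective (PrimeSpectrum.comap (algebraMap R S))

namespace UH

/-- For a universal homeomorphism, there is exactly one geometric point over a given one. -/
theorem existsUnique_algHom {R S : Type u} [CommRing R] [CommRing S] [Algebra R S] (h : UH R S)
    (Ω : Type u) [Field Ω] [IsAlgClosed Ω] [Algebra R Ω] : ∃! _φ : S →ₐ[R] Ω, True := by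
  have := h.isIntegral
  obtain ⟨q, hq⟩ := h.surj ⟨RingHom.ker (algebraMap R Ω), RingHom.ker_isPrime _⟩
  obtain ⟨φ, -⟩ := exists_algHom_of_isIntegral (R := R) (Ω := Ω) q.asIdeal
    (congrArg PrimeSpectrum.asIdeal hq)
  refine ⟨φ, trivial, fun ψ _ => ?_⟩
  apply AlgHom.coe_ringHom_injective
  apply h.inj
  rw [AlgHom.comp_algebraMap, AlgHom.comp_algebraMap]

theorem algHom_subsingleton {R S : Type u} [CommRing R] [CommRing S] [Algebra R S] (h : UH R S)
    {Ω : Type u} [Field Ω] [Algebra R Ω] (φ ψ : S →ₐ[R] Ω) : φ = ψ := by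
  apply AlgHom.coe_ringHom_injective
  apply h.inj
  rw [AlgHom.comp_algebraMap, AlgHom.comp_algebraMap]

theorem isHomeomorph {R S : Type u} [CommRing R] [CommRing S] [Algebra R S] (h : UH R S) :
    IsHomeomorph (PrimeSpectrum.comap (algebraMap R S)) := by
  have := h.isIntegral
  rw [isHomeomorph_iff_continuous_isClosedMap_bijective]
  refine ⟨(PrimeSpectrum.continuous_comap _), PrimeSpectrum.isClosedMap_comap_of_isIntegral _
    this.1, ⟨fun q₁ q₂ hq => ?_, h.surj⟩⟩
  let p := PrimeSpectrum.comap (algebraMap R S) q₁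
  let Ω := AlgebraicClosure p.asIdeal.ResidueField
  have hker : RingHom.ker (algebraMap R Ω) = p.asIdeal := by
    rw [IsScalarTower.algebraMap_eq R p.asIdeal.ResidueField Ω, ← RingHom.comap_ker,
      (RingHom.injective_iff_ker_eq_bot _).mp (algebraMap p.asIdeal.ResidueField Ω).injective]
    exact Ideal.ker_algebraMap_residueField _
  obtain ⟨φ₁, h₁⟩ := exists_algHom_of_isIntegral (R := R) (Ω := Ω) q₁.asIdeal hker.symm
  obtain ⟨φ₂, h₂⟩ := exists_algHom_of_isIntegral (R := R) (Ω := Ω) q₂.asIdeal
    ((congrArg PrimeSpectrum.asIdeal hq.symm).trans hker.symm)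
  have := h.algHom_subsingleton φ₁ φ₂
  ext1
  rw [← h₁, ← h₂, this]

theorem baseChange {R S : Type u} [CommRing R] [CommRing S] [Algebra R S] (h : UH R S)
    (R' : Type u) [CommRing R'] [Algebra R R'] : UH R' (R' ⊗[R] S) := by
  have := h.isIntegral
  refine ⟨inferInstance, fun K _ g₁ g₂ hg => ?_, fun P => ?_⟩
  · have e1 : g₁.comp (Algebra.TensorProduct.includeRight : S →ₐ[R] R' ⊗[R] S).toRingHom =
        g₂.comp (Algebra.TensorProduct.includeRight : S →ₐ[R] R' ⊗[R] S).toRingHom := by
      apply h.inj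
      rw [RingHom.comp_assoc, RingHom.comp_assoc]
      have e2 : (Algebra.TensorProduct.includeRight : S →ₐ[R] R' ⊗[R] S).toRingHom.comp
          (algebraMap R S) = (algebraMap R' (R' ⊗[R] S)).comp (algebraMap R R') := by
        rw [AlgHom.toRingHom_eq_coe, AlgHom.comp_algebraMap, ← IsScalarTower.algebraMap_eq]
      rw [e2, ← RingHom.comp_assoc, ← RingHom.comp_assoc, hg]
    apply Algebra.TensorProduct.ringHom_ext
    · exact hg
    · exact e1
  · let Ω := AlgebraicClosure P.asIdeal.ResidueField
    have hker : RingHom.ker (algebraMap R' Ω) = P.asIdeal := by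
      rw [IsScalarTower.algebraMap_eq R' P.asIdeal.ResidueField Ω, ← RingHom.comap_ker,
        (RingHom.injective_iff_ker_eq_bot _).mp (algebraMap P.asIdeal.ResidueField Ω).injective]
      exact Ideal.ker_algebraMap_residueField _
    obtain ⟨φ, -⟩ := h.existsUnique_algHom Ω
    let ψ : R' ⊗[R] S →ₐ[R'] Ω :=
      Algebra.TensorProduct.lift (Algebra.ofId R' Ω) φ (fun _ _ => .all _ _)
    refine ⟨⟨RingHom.ker ψ, RingHom.ker_isPrime _⟩, ?_⟩
    ext1
    change (RingHom.ker ψ.toRingHom).comap (algebraMap R' (R' ⊗[R] S)) = _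
    rw [RingHom.comap_ker, AlgHom.toRingHom_eq_coe, AlgHom.comp_algebraMap, hker]

open AlgebraicGeometry CategoryTheory in
/-- The ring-level predicate from the scheme-level one. -/
theorem of_specMap {R S : Type u} [CommRing R] [CommRing S] [Algebra R S]
    (h1 : IsIntegralHom (Spec.map (CommRingCat.ofHom (algebraMap R S))))
    (h2 : UniversallyInjective (Spec.map (CommRingCat.ofHom (algebraMap R S))))
    (h3 : Surjective (Spec.map (CommRingCat.ofHom (algebraMap R S)))) : UH R S := by
  refine ⟨⟨?_⟩, fun K _ g₁ g₂ hg => ?_, ?_⟩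
  · rw [IsIntegralHom.SpecMap_iff] at h1
    exact h1
  · have h5 : ∀ (K : Type u) [Field K], Function.Injective (fun g : Spec (.of K) ⟶
        Spec (CommRingCat.of S) ↦ g ≫ Spec.map (CommRingCat.ofHom (algebraMap R S))) :=
      ((tfae_universallyInjective (Spec.map (CommRingCat.ofHom (algebraMap R S)))).out 0 1).mp h2
    have h4 := @h5 K _ (Spec.map (CommRingCat.ofHom g₁)) (Spec.map (CommRingCat.ofHom g₂)) (by
      change Spec.map _ ≫ Spec.map _ = Spec.map _ ≫ Spec.map _
      rw [← Spec.map_comp, ← Spec.map_comp]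
      congr 1
      ext x
      exact DFunLike.congr_fun hg x)
    exact congrArg CommRingCat.Hom.hom (Spec.map_injective h4)
  · exact h3.surj

end UH

end Groth.Agent.Pi1B.UHRing
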