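import Mathlib.RingTheory.TotallySplit
import Mathlib.RingTheory.Finiteness.ModuleFinitePresentation
import Mathlib.RingTheory.Flat.Rank
import Mathlib.RingTheory.Etale.Field
import Mathlib.FieldTheory.IsAlgClosed.AlgebraicClosure
import Groth.Agent.Pi1B.EtaleSep
import Groth.Agent.Pi1B.UHRing

set_option autoImplicit false

universe u

open TensorProduct

namespace Groth.Agent.Pi1B.UHSplit

open UHRing EtaleSep

/-- A finite étale algebra with exactly one geometric point over a given one has rank one there. -/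
theorem rankAtStalk_eq_one {S T Ω : Type u} [CommRing S] [CommRing T] [Algebra S T]
    [Module.Finite S T] [Algebra.Etale S T] [Field Ω] [IsAlgClosed Ω] [Algebra S Ω]
    (φ : T →ₐ[S] Ω) (h : ∀ ψ : T →ₐ[S] Ω, ψ = φ) (q : PrimeSpectrum S)
    (hq : q.asIdeal = RingHom.ker (algebraMap S Ω)) : Module.rankAtStalk (R := S) T q = 1 := by
  have h1 : PrimeSpectrum.comap (algebraMap S Ω) ⊥ = q := by
    ext1
    rw [hq]; rfl
  rw [← h1, ← Module.rankAtStalk_baseChange, Module.rankAtStalk_eq_finrank_of_free]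
  obtain ⟨n, ⟨e⟩⟩ := Algebra.IsFiniteSplit.nonempty_algEquiv_fun Ω (Ω ⊗[S] T)
  have h2 : Module.finrank Ω (Ω ⊗[S] T) = n := by
    rw [e.toLinearEquiv.finrank_eq]; simp
  rw [Pi.natCast_apply, h2]
  let φ' : Ω ⊗[S] T →ₐ[Ω] Ω := Algebra.TensorProduct.lift (AlgHom.id Ω Ω) φ (fun _ _ => .all _ _)
  have h3 : n ≠ 0 := by
    rintro rfl
    have : Subsingleton (Ω ⊗[S] T) := e.toEquiv.subsingleton
    have h4 : (1 : Ω ⊗[S] T) = 0 := Subsingleton.elim _ _
    have := congrArg φ' h4
    simp at this
  have h4 : Subsingleton (Fin n) := by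
    refine ⟨fun i j => ?_⟩
    have h5 : ∀ i : Fin n, (((Pi.evalAlgHom Ω (fun _ : Fin n => Ω) i).comp e.toAlgHom)) = φ' := by
      intro i
      apply Algebra.TensorProduct.ext
      · ext
      · exact (h _).trans (h _).symm
    by_contra hij
    have h6 := DFunLike.congr_fun ((h5 i).trans (h5 j).symm) (e.symm (Pi.single i 1))
    simp [hij] at h6
  simp only [Nat.cast_id]
  have := Fintype.card_le_one_iff_subsingleton.mpr h4
  simp at this
  omega


/-- Finiteness of the set of geometric points of a finite étale algebra over a given point. -/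
theorem finite_algHom (S T Ω : Type u) [CommRing S] [CommRing T] [Algebra S T]
    [Module.Finite S T] [Field Ω] [Algebra S Ω] : Finite (T →ₐ[S] Ω) := by
  let f : (T →ₐ[S] Ω) → (Ω ⊗[S] T →ₐ[Ω] Ω) := fun φ =>
    Algebra.TensorProduct.lift (AlgHom.id Ω Ω) φ (fun _ _ => .all _ _)
  refine Finite.of_injective f fun φ ψ h => ?_
  ext t
  have := DFunLike.congr_fun h (1 ⊗ₜ t)
  simpa [f] using this

/-- If `T` is finite étale over `S` of rank one at `q`, then after a localization on `R` it has
a section, for a universal homeomorphism `R → S`. -/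
theorem exists_away_section {R S T : Type u} [CommRing R] [CommRing S] [CommRing T]
    [Algebra R S] [Algebra S T] (h : UH R S) [Module.Finite S T] [Algebra.Etale S T]
    (q : PrimeSpectrum S) (hq : Module.rankAtStalk (R := S) T q = 1) :
    ∃ g : R, PrimeSpectrum.comap (algebraMap R S) q ∈ PrimeSpectrum.basicOpen g ∧
      ∃ σ : T →+* Localization.Away g ⊗[R] S, ∀ s : S, σ (algebraMap S T s) = 1 ⊗ₜ s := by
  let U : Set (PrimeSpectrum S) := Module.rankAtStalk (R := S) T ⁻¹' {1}
  have hfp : Module.FinitePresentation S T :=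
    Module.FinitePresentation.of_finite_of_finitePresentation _ _
  have hU : IsOpen U := Module.isLocallyConstant_rankAtStalk {1}
  have hF := h.isHomeomorph
  have hFU : IsOpen (PrimeSpectrum.comap (algebraMap R S) '' U) := hF.isOpenMap _ hU
  obtain ⟨_, ⟨g, rfl⟩, hg, hg'⟩ :=
    PrimeSpectrum.isTopologicalBasis_basic_opens.exists_subset_of_mem_open
      (Set.mem_image_of_mem _ (show q ∈ U from hq)) hFU
  refine ⟨g, hg, ?_⟩
  let _ : Algebra S (Localization.Away g ⊗[R] S) := Algebra.TensorProduct.rightAlgebra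
  have hr : (algebraMap S (Localization.Away g ⊗[R] S)).comp (algebraMap R S) =
      (algebraMap (Localization.Away g) (Localization.Away g ⊗[R] S)).comp
        (algebraMap R (Localization.Away g)) := by
    rw [← IsScalarTower.algebraMap_eq, ← IsScalarTower.algebraMap_eq]
  have hrank : Module.rankAtStalk (R := Localization.Away g ⊗[R] S)
      ((Localization.Away g ⊗[R] S) ⊗[S] T) = 1 := by
    ext x
    rw [Module.rankAtStalk_baseChange]
    have h1 : PrimeSpectrum.comap (algebraMap R S)
        (PrimeSpectrum.comap (algebraMap S (Localization.Away g ⊗[R] S)) x) ∈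
        PrimeSpectrum.comap (algebraMap R S) '' U := by
      apply hg'
      rw [← PrimeSpectrum.comap_comp_apply, hr, PrimeSpectrum.comap_comp_apply]
      change _ ∈ (PrimeSpectrum.basicOpen g : Set (PrimeSpectrum R))
      rw [← PrimeSpectrum.localization_away_comap_range (Localization.Away g) g]
      exact ⟨_, rfl⟩
    obtain ⟨u, hu, hu'⟩ := h1
    rw [← hF.injective hu']
    exact hu
  have hbij : Function.Bijective (algebraMap (Localization.Away g ⊗[R] S)
      ((Localization.Away g ⊗[R] S) ⊗[S] T)) :=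
    (Module.algebraMap_bijective_iff_rankAtStalk (R := Localization.Away g ⊗[R] S)
      (S := (Localization.Away g ⊗[R] S) ⊗[S] T)).mp hrank
  let ε : (Localization.Away g ⊗[R] S) ≃+* ((Localization.Away g ⊗[R] S) ⊗[S] T) :=
    RingEquiv.ofBijective (algebraMap (Localization.Away g ⊗[R] S)
      ((Localization.Away g ⊗[R] S) ⊗[S] T)) hbij
  let τ : T →ₐ[S] ((Localization.Away g ⊗[R] S) ⊗[S] T) := Algebra.TensorProduct.includeRight
  refine ⟨ε.symm.toRingHom.comp τ.toRingHom, fun s => ?_⟩
  change ε.symm (τ (algebraMap S T s)) = _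
  rw [RingEquiv.symm_apply_eq, τ.commutes]
  exact IsScalarTower.algebraMap_apply S (Localization.Away g ⊗[R] S)
    ((Localization.Away g ⊗[R] S) ⊗[S] T) s

/-- Étale-locally on the base of a universal homeomorphism `R → S`, a finite étale algebra `T`
over `S` which is surjective on spectra has a section. -/
theorem exists_etale_section {R S T : Type u} [CommRing R] [CommRing S] [CommRing T]
    [Algebra R S] [Algebra S T] (h : UH R S) [Module.Finite S T] [Algebra.Etale S T]
    (hsurj : Function.Surjective (PrimeSpectrum.comap (algebraMap S T))) (p : PrimeSpectrum R) :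
    ∃ (R' : Type u) (_ : CommRing R') (_ : Algebra R R') (_ : Algebra.Etale R R')
      (P' : PrimeSpectrum R') (σ : T →+* R' ⊗[R] S),
      PrimeSpectrum.comap (algebraMap R R') P' = p ∧
      ∀ s : S, σ (algebraMap S T s) = 1 ⊗ₜ s := by
  have hRS := h.isIntegral
  let Ω := AlgebraicClosure p.asIdeal.ResidueField
  have hker : RingHom.ker (algebraMap R Ω) = p.asIdeal := by
    rw [IsScalarTower.algebraMap_eq R p.asIdeal.ResidueField Ω, ← RingHom.comap_ker,
      (RingHom.injective_iff_ker_eq_bot _).mp (algebraMap p.asIdeal.ResidueField Ω).injective]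
    exact Ideal.ker_algebraMap_residueField _
  obtain ⟨φS, -⟩ := (h.existsUnique_algHom Ω).exists
  let _ : Algebra S Ω := φS.toRingHom.toAlgebra
  have _ : IsScalarTower R S Ω := IsScalarTower.of_algebraMap_eq' (by
    ext x; exact (φS.commutes x).symm)
  let _ : Algebra R T := ((algebraMap S T).comp (algebraMap R S)).toAlgebra
  have _ : IsScalarTower R S T := IsScalarTower.of_algebraMap_eq' rfl
  have hRT : Algebra.IsIntegral R T := Algebra.IsIntegral.trans S
  -- a geometric point of `T` over the one of `S`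
  obtain ⟨n, hn⟩ := hsurj ⟨RingHom.ker (algebraMap S Ω), RingHom.ker_isPrime _⟩
  obtain ⟨φ, -⟩ := exists_algHom_of_isIntegral (R := S) (Ω := Ω) n.asIdeal
    (congrArg PrimeSpectrum.asIdeal hn)
  -- all geometric points of `T` over `R` are over `S`
  have hS : ∀ ψ : T →ₐ[R] Ω, ∀ s : S, ψ (algebraMap S T s) = algebraMap S Ω s := by
    intro ψ s
    have := h.algHom_subsingleton (ψ.comp (IsScalarTower.toAlgHom R S T)) φS
    exact DFunLike.congr_fun this s
  have hfinS : Finite (T →ₐ[S] Ω) := finite_algHom S T Ω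
  have hfin : Finite (T →ₐ[R] Ω) := by
    refine Finite.of_injective (β := T →ₐ[S] Ω)
      (fun ψ => ⟨ψ.toRingHom, hS ψ⟩) fun ψ₁ ψ₂ h => ?_
    ext t
    exact DFunLike.congr_fun h t
  classical
  have _ := Fintype.ofFinite (T →ₐ[R] Ω)
  obtain ⟨R', _, _, _, χ, e, he, heφ, heψ⟩ := exists_etale_idempotent R T Ω
    (φ.restrictScalars R) (Finset.univ.erase (φ.restrictScalars R)) (by simp)
  let _ : Algebra S (R' ⊗[R] S) := Algebra.TensorProduct.rightAlgebra
  let f : R' →ₐ[R] (R' ⊗[R] S) ⊗[S] T :=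
    (IsScalarTower.toAlgHom R (R' ⊗[R] S) _).comp Algebra.TensorProduct.includeLeft
  let g : T →ₐ[R] (R' ⊗[R] S) ⊗[S] T :=
    (Algebra.TensorProduct.includeRight : T →ₐ[S] (R' ⊗[R] S) ⊗[S] T).restrictScalars R
  let j : R' ⊗[R] T →ₐ[R] (R' ⊗[R] S) ⊗[S] T :=
    Algebra.TensorProduct.lift f g (fun _ _ => .all _ _)
  let e' := j e
  have he' : IsIdempotentElem e' := he.map j
  let T' := Localization.Away e'
  have hT'1 : Module.Finite ((R' ⊗[R] S) ⊗[S] T) T' :=
    Module.Finite.of_surjective (Algebra.linearMap _ _)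
      (IsLocalization.Away.algebraMap_surjective_of_isIdempotentElem e' he')
  have hT'2 : Algebra.Etale ((R' ⊗[R] S) ⊗[S] T) T' := Algebra.Etale.of_isLocalizationAway e'
  have hT'3 : Module.Finite (R' ⊗[R] S) T' := Module.Finite.trans ((R' ⊗[R] S) ⊗[S] T) T'
  have hT'4 : Algebra.Etale (R' ⊗[R] S) T' := Algebra.Etale.comp _ ((R' ⊗[R] S) ⊗[S] T) T'
  let χS : R' ⊗[R] S →ₐ[R] Ω := Algebra.TensorProduct.lift χ φS (fun _ _ => .all _ _)
  let _ : Algebra (R' ⊗[R] S) Ω := χS.toRingHom.toAlgebra
  have _ : IsScalarTower S (R' ⊗[R] S) Ω := IsScalarTower.of_algebraMap_eq' (by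
    ext x
    change _ = χS (1 ⊗ₜ x)
    simp [χS]
    rfl)
  have _ : IsScalarTower R (R' ⊗[R] S) Ω := IsScalarTower.of_algebraMap_eq' χS.comp_algebraMap.symm
  -- evaluation of idempotents
  have key : ∀ (θ : (R' ⊗[R] S) ⊗[S] T →ₐ[R' ⊗[R] S] Ω) (x : R' ⊗[R] T),
      θ (j x) = Algebra.TensorProduct.lift χ ((θ.restrictScalars R).comp g)
        (fun _ _ => .all _ _) x := by
    intro θ x
    have : (θ.restrictScalars R).comp j = Algebra.TensorProduct.lift χ
        ((θ.restrictScalars R).comp g) (fun _ _ => .all _ _) := by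
      apply Algebra.TensorProduct.ext
      · ext r
        have h1 := θ.commutes (r ⊗ₜ[R] (1 : S))
        have h2 : algebraMap (R' ⊗[R] S) Ω (r ⊗ₜ[R] (1 : S)) = χ r := by
          change χS (r ⊗ₜ 1) = χ r
          simp [χS]
        rw [h2] at h1
        simpa [j, f] using h1
      · ext t
        simp [j, g]
    exact DFunLike.congr_fun this x
  let θ₀ : (R' ⊗[R] S) ⊗[S] T →ₐ[R' ⊗[R] S] Ω :=
    Algebra.TensorProduct.lift (Algebra.ofId (R' ⊗[R] S) Ω) φ (fun _ _ => .all _ _)
  have hθ₀g : (θ₀.restrictScalars R).comp g = φ.restrictScalars R := by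
    ext t
    simp [θ₀, g]
  have hθ₀ : θ₀ e' = 1 := by rw [key, hθ₀g, heφ]
  let φ' : T' →ₐ[R' ⊗[R] S] Ω := IsLocalization.liftAlgHom (M := Submonoid.powers e') (f := θ₀) (by
    rintro ⟨_, n, rfl⟩
    simp [hθ₀])
  have hφ' : ∀ θ : T' →ₐ[R' ⊗[R] S] Ω, θ = φ' := by
    intro θ
    let θ' : (R' ⊗[R] S) ⊗[S] T →ₐ[R' ⊗[R] S] Ω := θ.comp (IsScalarTower.toAlgHom _ _ T')
    have h1 : θ' e' ≠ 0 :=
      ((IsLocalization.Away.algebraMap_isUnit (S := T') e').map θ).ne_zero
    have h2 : (θ'.restrictScalars R).comp g = φ.restrictScalars R := by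
      by_contra hne
      apply h1
      rw [key]
      exact heψ _ (by simp [hne])
    have h3 : θ' = θ₀ := by
      apply Algebra.TensorProduct.ext
      · ext
      · ext t
        have h4 : θ' (1 ⊗ₜ t) = φ t := DFunLike.congr_fun h2 t
        simpa [θ₀] using h4
    apply IsLocalization.algHom_ext (Submonoid.powers e')
    refine AlgHom.ext fun x => ?_
    change θ' x = φ' (algebraMap _ T' x)
    rw [h3]
    exact (IsLocalization.lift_eq _ x).symm
  -- the rank of `T'` is one around the geometric point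
  let q' : PrimeSpectrum (R' ⊗[R] S) :=
    ⟨RingHom.ker (algebraMap (R' ⊗[R] S) Ω), RingHom.ker_isPrime _⟩
  have hrank : Module.rankAtStalk (R := R' ⊗[R] S) T' q' = 1 := rankAtStalk_eq_one φ' hφ' q' rfl
  obtain ⟨g₀, hg₀, σ, hσ⟩ := exists_away_section (h.baseChange R') q' hrank
  obtain ⟨P'', hP''⟩ : PrimeSpectrum.comap (algebraMap R' (R' ⊗[R] S)) q' ∈
      Set.range (PrimeSpectrum.comap (algebraMap R' (Localization.Away g₀))) := by
    rw [PrimeSpectrum.localization_away_comap_range (Localization.Away g₀) g₀]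
    exact hg₀
  have hP3 : PrimeSpectrum.comap (algebraMap R (Localization.Away g₀)) P'' = p := by
    rw [IsScalarTower.algebraMap_eq R R' (Localization.Away g₀), PrimeSpectrum.comap_comp_apply,
      hP'']
    ext1
    rw [← hker]
    change ((RingHom.ker (algebraMap (R' ⊗[R] S) Ω)).comap (algebraMap R' (R' ⊗[R] S))).comap
      (algebraMap R R') = _
    rw [RingHom.comap_ker, RingHom.comap_ker, RingHom.comp_assoc, ← IsScalarTower.algebraMap_eq,
      ← IsScalarTower.algebraMap_eq]
  let c := Algebra.TensorProduct.cancelBaseChange R R' R' (Localization.Away g₀) S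
  refine ⟨Localization.Away g₀, inferInstance, inferInstance,
    Algebra.Etale.comp R R' (Localization.Away g₀), P'',
    c.toRingEquiv.toRingHom.comp ((σ.comp (algebraMap ((R' ⊗[R] S) ⊗[S] T) T')).comp g.toRingHom),
    hP3, fun s => ?_⟩
  change c (σ (algebraMap ((R' ⊗[R] S) ⊗[S] T) T' (g (algebraMap S T s)))) = _
  have h1 : algebraMap ((R' ⊗[R] S) ⊗[S] T) T' (g (algebraMap S T s)) =
      algebraMap (R' ⊗[R] S) T' (1 ⊗ₜ s) := by
    rw [IsScalarTower.algebraMap_apply (R' ⊗[R] S) ((R' ⊗[R] S) ⊗[S] T) T']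
    congr 1
    exact ((Algebra.TensorProduct.includeRight : T →ₐ[S] (R' ⊗[R] S) ⊗[S] T).commutes s)
  rw [h1, hσ]
  simp [c]

/-- Étale-locally on the base of a universal homeomorphism `R → S`, a finite étale `S`-algebra of
constant rank splits. -/
theorem exists_etale_isFiniteSplit {R S B : Type u} [CommRing R] [CommRing S] [CommRing B]
    [Algebra R S] [Algebra S B] (h : UH R S) [Module.Finite S B] [Algebra.Etale S B] {n : ℕ}
    (hn : Module.rankAtStalk (R := S) B = n) (p : PrimeSpectrum R) :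
    ∃ (R' : Type u) (_ : CommRing R') (_ : Algebra R R') (_ : Algebra.Etale R R')
      (P' : PrimeSpectrum R'), PrimeSpectrum.comap (algebraMap R R') P' = p ∧
      letI : Algebra S (R' ⊗[R] S) := Algebra.TensorProduct.rightAlgebra
      Algebra.IsFiniteSplit (R' ⊗[R] S) ((R' ⊗[R] S) ⊗[S] B) := by
  obtain ⟨T, _, _, _, _, _, hT⟩ := Algebra.IsFiniteSplit.exists_tensorProduct_of_etale hn
  obtain ⟨R', _, _, het, P', σ, hP', hσ⟩ := exists_etale_section (T := T) h
    (PrimeSpectrum.comap_surjective_of_faithfullyFlat) p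
  refine ⟨R', inferInstance, inferInstance, het, P', hP', ?_⟩
  let _ : Algebra S (R' ⊗[R] S) := Algebra.TensorProduct.rightAlgebra
  let _ : Algebra T (R' ⊗[R] S) := σ.toAlgebra
  have _ : IsScalarTower S T (R' ⊗[R] S) := IsScalarTower.of_algebraMap_eq (fun s => (hσ s).symm)
  exact Algebra.IsFiniteSplit.of_algEquiv
    (Algebra.TensorProduct.cancelBaseChange S T (R' ⊗[R] S) (R' ⊗[R] S) B)

end Groth.Agent.Pi1B.UHSplit
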