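import Groth.Prelude.Def_Pi1
import Mathlib.RingTheory.Finiteness.Descent
import Mathlib.RingTheory.Flat.EquationalCriterion
import Mathlib.RingTheory.Etale.Descent
import Mathlib.RingTheory.Smooth.Fiber

/-!
# Descent along universally injective ring maps (Stacks 08XD, 08XE)
-/

set_option autoImplicit false
universe u
open scoped TensorProduct

namespace Groth.Agent.Pi1B.UnivInj

variable {R S : Type u} [CommRing R] [CommRing S] [Algebra R S]

/-- `P → S ⊗ P` is injective for `R → S` universally injective. -/
theorem one_tmul_injective (h : Pi1.UnivInjective R S) (P : Type u) [AddCommGroup P] [Module R P] :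
    Function.Injective (fun p : P => (1 : S) ⊗ₜ[R] p) := by
  have key : (fun p : P => (1 : S) ⊗ₜ[R] p) =
      (TensorProduct.comm R P S) ∘ (LinearMap.lTensor P (Algebra.linearMap R S)) ∘
        (TensorProduct.rid R P).symm := by
    funext p
    simp
  rw [key]
  exact (TensorProduct.comm R P S).injective.comp ((h P).comp (TensorProduct.rid R P).symm.injective)

theorem eq_zero_of_one_tmul_eq_zero (h : Pi1.UnivInjective R S) {P : Type u} [AddCommGroup P]
    [Module R P] {p : P} (hp : (1 : S) ⊗ₜ[R] p = 0) : p = 0 :=
  one_tmul_injective h P (by simpa using hp)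

/-- A module which becomes trivial after a universally injective base change is trivial. -/
theorem subsingleton_of_tensor (h : Pi1.UnivInjective R S) (P : Type u) [AddCommGroup P]
    [Module R P] [Subsingleton (S ⊗[R] P)] : Subsingleton P :=
  (one_tmul_injective h P).subsingleton

/-- "Equational criterion": if `1 ⊗ n` lies in the range of `S ⊗ f` then `n` lies in the range
of `f`. -/
theorem mem_range_of_one_tmul_mem_range (h : Pi1.UnivInjective R S) {M N : Type u}
    [AddCommGroup M] [Module R M] [AddCommGroup N] [Module R N] (f : M →ₗ[R] N) (n : N)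
    (hn : (1 : S) ⊗ₜ[R] n ∈ LinearMap.range (f.lTensor S)) : n ∈ LinearMap.range f := by
  obtain ⟨z, hz⟩ := hn
  rw [← Submodule.Quotient.mk_eq_zero]
  apply eq_zero_of_one_tmul_eq_zero h
  have h1 : (1 : S) ⊗ₜ[R] (Submodule.Quotient.mk n : N ⧸ LinearMap.range f) =
      (LinearMap.range f).mkQ.lTensor S ((1 : S) ⊗ₜ[R] n) := by simp
  rw [h1, ← hz, ← LinearMap.comp_apply, ← LinearMap.lTensor_comp]
  have h2 : (LinearMap.range f).mkQ ∘ₗ f = 0 := by
    ext x
    simp
  rw [h2]
  simp

theorem surjective_of_lTensor (h : Pi1.UnivInjective R S) {M N : Type u}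
    [AddCommGroup M] [Module R M] [AddCommGroup N] [Module R N] (f : M →ₗ[R] N)
    (hf : Function.Surjective (f.lTensor S)) : Function.Surjective f := fun n =>
  mem_range_of_one_tmul_mem_range h f n (hf _)

theorem injective_of_lTensor (h : Pi1.UnivInjective R S) {M N : Type u}
    [AddCommGroup M] [Module R M] [AddCommGroup N] [Module R N] (f : M →ₗ[R] N)
    (hf : Function.Injective (f.lTensor S)) : Function.Injective f := by
  intro x y hxy
  apply one_tmul_injective h M
  apply hf
  simp [hxy]

/-- Stacks 08XD (a). -/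
theorem finite (h : Pi1.UnivInjective R S) (M : Type u) [AddCommGroup M] [Module R M]
    [Module.Finite S (S ⊗[R] M)] : Module.Finite R M := by
  obtain ⟨n, s, hs⟩ := Module.Finite.exists_fin (R := S) (M := S ⊗[R] M)
  choose k t m hm using fun i : Fin n ↦ TensorProduct.exists_sum_tmul_eq (s i)
  let f₀ : (ULift.{u} (Σ i, Fin (k i)) → R) →ₗ[R] M :=
    (Pi.basisFun R _).constr R fun x ↦ m x.down.1 x.down.2
  apply Module.Finite.of_surjective f₀
  apply surjective_of_lTensor h
  have : Function.Surjective (TensorProduct.AlgebraTensorModule.lTensor S S f₀) := by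
    rw [← LinearMap.range_eq_top, eq_top_iff, ← hs, Submodule.span_le, Set.range_subset_iff]
    intro i
    use ∑ (j : Fin (k i)), t i j ⊗ₜ Pi.basisFun R _ (ULift.up ⟨i, j⟩)
    simp [f₀, -Pi.basisFun_equivFun, -Pi.basisFun_apply, hm i]
  exact this

/-- The kernel of `S ⊗ N → S ⊗ M` is generated by the kernel of `N → M`, for a surjection. -/
theorem ker_lTensor_eq_range {M N : Type u} [AddCommGroup M] [Module R M] [AddCommGroup N]
    [Module R N] (g : N →ₗ[R] M) (hg : Function.Surjective g) :
    LinearMap.ker (g.lTensor S) = LinearMap.range ((LinearMap.ker g).subtype.lTensor S) :=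
  (lTensor_exact S (f := (LinearMap.ker g).subtype) (g := g)
    (LinearMap.exact_subtype_ker_map g) hg).linearMap_ker_eq


/-- If the `S`-span of the image of `K` in `S ⊗ N` is finitely generated, so is `K`. -/
theorem fg_of_fg_baseChange (h : Pi1.UnivInjective R S) {N : Type u} [AddCommGroup N] [Module R N]
    (K : Submodule R N) (hK : (K.baseChange S).FG) : K.FG := by
  classical
  rw [Submodule.baseChange_eq_span] at hK
  rw [Submodule.fg_span_iff_fg_span_finset_subset] at hK
  obtain ⟨s', hs', hspan⟩ := hK
  obtain ⟨t, ht, rfl⟩ := Finset.subset_set_image_iff.mp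
    (show (s' : Set (S ⊗[R] N)) ⊆ (TensorProduct.mk R S N 1) '' (K : Set N) from hs')
  refine ⟨t, le_antisymm (Submodule.span_le.mpr ht) fun x hx => ?_⟩
  have h1 : (1 : S) ⊗ₜ[R] x ∈ (Submodule.span R (t : Set N)).baseChange S := by
    rw [Submodule.baseChange_span]
    rw [Finset.coe_image] at hspan
    rw [← hspan]
    exact Submodule.subset_span ⟨x, hx, rfl⟩
  have h2 := mem_range_of_one_tmul_mem_range h (Submodule.span R (t : Set N)).subtype x h1
  simpa using h2

/-- Stacks 08XD (b). -/
theorem finitePresentation (h : Pi1.UnivInjective R S) (M : Type u) [AddCommGroup M] [Module R M]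
    [Module.FinitePresentation S (S ⊗[R] M)] : Module.FinitePresentation R M := by
  have hfin : Module.Finite R M := finite h M
  obtain ⟨n, g, hg⟩ := Module.Finite.exists_fin' R M
  refine Module.finitePresentation_of_surjective g hg (fg_of_fg_baseChange h _ ?_)
  have hgS : Function.Surjective (g.baseChange S) := LinearMap.lTensor_surjective S hg
  have hfg := Module.FinitePresentation.fg_ker (g.baseChange S) hgS
  have : LinearMap.ker (g.baseChange S) = (LinearMap.ker g).baseChange S := by
    ext x
    have := ker_lTensor_eq_range (S := S) g hg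
    constructor
    · intro hx
      have hx' : x ∈ LinearMap.ker (g.lTensor S) := hx
      rw [this] at hx'
      exact hx'
    · intro hx
      have hx' : x ∈ LinearMap.range ((LinearMap.ker g).subtype.lTensor S) := hx
      rw [← this] at hx'
      exact hx'
  rwa [this] at hfg

/-- Stacks 08XE (a). -/
theorem finiteType (h : Pi1.UnivInjective R S) (A : Type u) [CommRing A] [Algebra R A]
    [Algebra.FiniteType S (S ⊗[R] A)] : Algebra.FiniteType R A := by
  obtain ⟨s, hs⟩ := Algebra.FiniteType.out (R := S) (A := S ⊗[R] A)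
  have (x : s) := TensorProduct.exists_sum_tmul_eq x.1
  choose k t m hm using this
  let f : MvPolynomial (Σ x : s, Fin (k x)) R →ₐ[R] A := MvPolynomial.aeval (fun ⟨x, i⟩ ↦ m x i)
  apply Algebra.FiniteType.of_surjective f
  have hf : Function.Surjective (Algebra.TensorProduct.map (.id S S) f) := by
    rw [← AlgHom.range_eq_top, _root_.eq_top_iff, ← hs, Algebra.adjoin_le_iff]
    intro x hx
    let i : s := ⟨x, hx⟩
    use ∑ (j : Fin (k i)), t i j ⊗ₜ MvPolynomial.X ⟨i, j⟩
    simp [f, ← hm, i]
  exact surjective_of_lTensor h f.toLinearMap hf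

/-- Universal injectivity is preserved by base change. -/
theorem baseChange (h : Pi1.UnivInjective R S) (A : Type u) [CommRing A] [Algebra R A] :
    Pi1.UnivInjective A (A ⊗[R] S) := by
  intro P _ _
  let _ : Module R P := Module.compHom P (algebraMap R A)
  have : IsScalarTower R A P := IsScalarTower.of_algebraMap_smul fun r x => rfl
  have h1 := h P
  have key : (TensorProduct.AlgebraTensorModule.cancelBaseChange R A A P S) ∘
      (LinearMap.lTensor P (Algebra.linearMap A (A ⊗[R] S))) =
      (LinearMap.lTensor P (Algebra.linearMap R S)) ∘ (TensorProduct.rid R P).symm ∘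
        (TensorProduct.rid A P) := by
    funext x
    induction x with
    | zero => simp
    | add x y hx hy =>
      simp only [Function.comp_apply, map_add] at hx hy ⊢
      rw [hx, hy]
    | tmul p a =>
      simp [Algebra.TensorProduct.algebraMap_apply]
  have h2 : Function.Injective ((TensorProduct.AlgebraTensorModule.cancelBaseChange R A A P S) ∘
      (LinearMap.lTensor P (Algebra.linearMap A (A ⊗[R] S)))) := by
    rw [key]
    exact h1.comp ((TensorProduct.rid R P).symm.injective.comp (TensorProduct.rid A P).injective)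
  exact h2.of_comp

theorem of_algEquiv {S' : Type u} [CommRing S'] [Algebra R S'] (e : S ≃ₐ[R] S')
    (h : Pi1.UnivInjective R S) : Pi1.UnivInjective R S' := by
  intro P _ _
  have key : LinearMap.lTensor P (Algebra.linearMap R S') =
      (LinearMap.lTensor P e.toLinearMap) ∘ₗ (LinearMap.lTensor P (Algebra.linearMap R S)) := by
    rw [← LinearMap.lTensor_comp]
    congr 1
    ext
    simp
  rw [key]
  have := (LinearEquiv.lTensor P e.toLinearEquiv).injective
  exact this.comp (h P)

theorem ideal_fg_of_map_fg (h : Pi1.UnivInjective R S) (I : Ideal R)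
    (hI : (I.map (algebraMap R S)).FG) : I.FG := by
  classical
  change (Submodule.span S ((algebraMap R S) '' (I : Set R))).FG at hI
  rw [Submodule.fg_span_iff_fg_span_finset_subset] at hI
  obtain ⟨s', hs', hspan⟩ := hI
  obtain ⟨t, ht, rfl⟩ := Finset.subset_set_image_iff.mp hs'
  refine ⟨t, le_antisymm (Submodule.span_le.mpr ht) fun x hx => ?_⟩
  have h1 : algebraMap R S x ∈ (Ideal.span (t : Set R)).map (algebraMap R S) := by
    rw [Ideal.map_span]
    rw [Finset.coe_image] at hspan
    rw [Ideal.span, ← hspan]
    exact Submodule.subset_span ⟨x, hx, rfl⟩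
  have h2 : ∀ z ∈ (Ideal.span (t : Set R)).map (algebraMap R S),
      z ⊗ₜ[R] (1 : R) ∈ LinearMap.range ((Ideal.span (t : Set R)).subtype.lTensor S) := by
    intro z hz
    induction hz using Submodule.span_induction with
    | mem x hx =>
      obtain ⟨y, hy, rfl⟩ := hx
      refine ⟨1 ⊗ₜ ⟨y, hy⟩, ?_⟩
      simp only [LinearMap.lTensor_tmul, Submodule.subtype_apply]
      rw [Algebra.algebraMap_eq_smul_one, TensorProduct.smul_tmul, smul_eq_mul, mul_one]
    | zero => simp
    | add x y _ _ hx hy =>
      rw [TensorProduct.add_tmul]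
      exact add_mem hx hy
    | smul a x _ hx =>
      obtain ⟨w, hw⟩ := hx
      refine ⟨a • w, ?_⟩
      have : (LinearMap.lTensor S (Ideal.span (t : Set R)).subtype) (a • w) =
        a • ((LinearMap.lTensor S (Ideal.span (t : Set R)).subtype) w) :=
        map_smul ((Ideal.span (t : Set R)).subtype.baseChange S) a w
      rw [this, hw]
      rfl
  have h3 := h2 _ h1
  rw [Algebra.algebraMap_eq_smul_one, TensorProduct.smul_tmul, smul_eq_mul, mul_one] at h3
  have h4 := mem_range_of_one_tmul_mem_range h (Ideal.span (t : Set R)).subtype x h3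
  simpa using h4

attribute [local instance] Algebra.TensorProduct.rightAlgebra in
/-- Stacks 08XE (b). -/
theorem algFinitePresentation (h : Pi1.UnivInjective R S) (A : Type u) [CommRing A] [Algebra R A]
    [Algebra.FinitePresentation S (S ⊗[R] A)] : Algebra.FinitePresentation R A := by
  have : Algebra.FiniteType R A := finiteType h A
  rw [Algebra.FiniteType.iff_quotient_mvPolynomial''] at this
  obtain ⟨n, f, hf⟩ := this
  have h' : Pi1.UnivInjective (MvPolynomial (Fin n) R) (S ⊗[R] MvPolynomial (Fin n) R) :=
    of_algEquiv (Algebra.TensorProduct.commRight _ _ _) (baseChange h _)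
  let fT := Algebra.TensorProduct.map (.id S S) f
  refine .of_surjective hf (ideal_fg_of_map_fg h' _ ?_)
  have : (RingHom.ker f.toRingHom).map
      (algebraMap (MvPolynomial (Fin n) R) (S ⊗[R] MvPolynomial (Fin n) R)) = RingHom.ker fT :=
    (Algebra.TensorProduct.lTensor_ker f hf).symm
  rw [this]
  apply Algebra.FinitePresentation.ker_fG_of_surjective
  exact Algebra.FiniteType.baseChangeAux_surj S hf

/-- A relation in `M` lifts to a relation in any module `F` surjecting to `M`, when `S ⊗ M` is flat
over `S`. -/
theorem exists_lift_relation (h : Pi1.UnivInjective R S) {M F : Type u} [AddCommGroup M]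
    [Module R M] [Module.Flat S (S ⊗[R] M)] [AddCommGroup F] [Module R F] (π : F →ₗ[R] M)
    (hπ : Function.Surjective π) {l : ℕ} (r : Fin l → R) (f : Fin l → F)
    (hrel : ∑ i, r i • π (f i) = 0) :
    ∃ T : Fin l → F, (∀ i, π (T i) = π (f i)) ∧ ∑ i, r i • T i = 0 := by
  -- the relation over `S`
  have hrelS : ∑ i, (algebraMap R S (r i)) • ((1 : S) ⊗ₜ[R] π (f i)) = 0 := by
    have : ∀ i, (algebraMap R S (r i)) • ((1 : S) ⊗ₜ[R] π (f i)) =
        (1 : S) ⊗ₜ[R] (r i • π (f i)) := by
      intro i
      rw [TensorProduct.tmul_smul, algebraMap_smul]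
    simp_rw [this]
    rw [← TensorProduct.tmul_sum, hrel, TensorProduct.tmul_zero]
  obtain ⟨k, a, y, hy, ha⟩ := Module.Flat.isTrivialRelation_of_sum_smul_eq_zero hrelS
  have hπS : Function.Surjective (π.baseChange S) := LinearMap.lTensor_surjective S hπ
  choose Y hY using fun j => hπS (y j)
  -- elements of the kernel of `S ⊗ F → S ⊗ M`
  have hV : ∀ i, ∃ w : S ⊗[R] (LinearMap.ker π), (LinearMap.ker π).subtype.lTensor S w =
      1 ⊗ₜ f i - ∑ j, a i j • Y j := by
    intro i
    have h1 : (π.baseChange S) (1 ⊗ₜ f i - ∑ j, a i j • Y j) = 0 := by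
      simp only [map_sub, map_sum, map_smul, hY]
      rw [← hy i]
      rw [LinearMap.baseChange_tmul, sub_self]
    have h2 : (1 ⊗ₜ f i - ∑ j, a i j • Y j) ∈ LinearMap.ker (π.lTensor S) := h1
    rw [ker_lTensor_eq_range π hπ] at h2
    exact h2
  choose W hW using hV
  let A : (Fin l → (LinearMap.ker π)) →ₗ[R] F :=
    ∑ i, (r i) • ((LinearMap.ker π).subtype ∘ₗ LinearMap.proj i)
  have hA : ∀ U : Fin l → (LinearMap.ker π), A U = ∑ i, r i • (U i : F) := by
    intro U
    simp [A]
  have ht : (1 : S) ⊗ₜ[R] (∑ i, r i • f i) ∈ LinearMap.range (A.lTensor S) := by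
    refine ⟨∑ i, (LinearMap.single R (fun _ : Fin l => (LinearMap.ker π)) i).lTensor S (W i), ?_⟩
    have h1 : ∀ i, A ∘ₗ (LinearMap.single R (fun _ : Fin l => (LinearMap.ker π)) i) =
        r i • (LinearMap.ker π).subtype := by
      intro i
      ext x : 1
      simp only [LinearMap.comp_apply, hA, LinearMap.smul_apply]
      rw [Finset.sum_eq_single i]
      · simp
      · intro j _ hj
        simp [hj]
      · simp
    have h2 : ∀ i, (A.lTensor S)
        ((LinearMap.single R (fun _ : Fin l => (LinearMap.ker π)) i).lTensor S (W i)) =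
        r i • (1 ⊗ₜ f i - ∑ j, a i j • Y j) := by
      intro i
      rw [← LinearMap.comp_apply, ← LinearMap.lTensor_comp, h1, LinearMap.lTensor_smul,
        LinearMap.smul_apply, hW]
    rw [map_sum]
    simp_rw [h2]
    simp only [smul_sub, Finset.sum_sub_distrib]
    have h3 : ∑ i, r i • ∑ j, a i j • Y j = 0 := by
      simp_rw [Finset.smul_sum]
      rw [Finset.sum_comm]
      apply Finset.sum_eq_zero
      intro j _
      have : ∀ i, r i • a i j • Y j = (algebraMap R S (r i) * a i j) • Y j := by
        intro i
        rw [mul_smul, algebraMap_smul]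
      simp_rw [this]
      rw [← Finset.sum_smul, ha j, zero_smul]
    rw [h3, sub_zero]
    simp only [TensorProduct.tmul_sum, TensorProduct.tmul_smul]
  obtain ⟨U, hU⟩ := mem_range_of_one_tmul_mem_range h A _ ht
  rw [hA] at hU
  refine ⟨fun i => f i - U i, fun i => ?_, ?_⟩
  · have : π (U i : F) = 0 := (U i).2
    rw [map_sub, this, sub_zero]
  · simp only [smul_sub, Finset.sum_sub_distrib, hU, sub_self]

/-- Stacks 08XD (c). -/
theorem flat (h : Pi1.UnivInjective R S) (M : Type u) [AddCommGroup M] [Module R M]
    [Module.Flat S (S ⊗[R] M)] : Module.Flat R M := by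
  classical
  apply Module.Flat.of_forall_isTrivialRelation
  intro l r m hrel
  have hπ1 : ∀ x : M, Finsupp.linearCombination R (id : M → M) (Finsupp.single x 1) = x := fun x =>
    (Finsupp.linearCombination_single R 1 x).trans (one_smul _ _)
  have hπ : Function.Surjective (Finsupp.linearCombination R (id : M → M)) :=
    fun x => ⟨Finsupp.single x 1, hπ1 x⟩
  obtain ⟨T, hT, hrT⟩ := exists_lift_relation h (Finsupp.linearCombination R (id : M → M)) hπ r
    (fun i => Finsupp.single (m i) 1) (by simpa only [hπ1] using hrel)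
  simp only [hπ1] at hT
  -- conclusion
  obtain ⟨supp, hsupp⟩ : ∃ supp : Finset M, ∀ i, (T i).support ⊆ supp :=
    ⟨Finset.univ.biUnion fun i => (T i).support, fun i =>
      Finset.subset_biUnion_of_mem (fun i => (T i).support) (Finset.mem_univ i)⟩
  let e : Fin supp.card ≃ supp := supp.equivFin.symm
  refine ⟨supp.card, fun i j => T i (e j), fun j => (e j : M), fun i => ?_, fun j => ?_⟩
  · rw [e.sum_comp (fun x : supp => T i x • (x : M)), Finset.sum_coe_sort supp (fun x => T i x • x)]
    conv_lhs => rw [← hT i]
    simp only [Finsupp.linearCombination_apply, id_eq]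
    exact Finsupp.sum_of_support_subset _ (hsupp i) _ (by simp)
  · have := congrArg (fun g : M →₀ R => g (e j)) hrT
    simpa using this

/-- Descent of formal unramifiedness. -/
theorem formallyUnramified (h : Pi1.UnivInjective R S) (A : Type u) [CommRing A] [Algebra R A]
    [Algebra.FormallyUnramified S (S ⊗[R] A)] : Algebra.FormallyUnramified R A := by
  constructor
  let _ : Algebra A (S ⊗[R] A) := Algebra.TensorProduct.rightAlgebra
  have : Subsingleton (S ⊗[R] Ω[A⁄R]) :=
    (KaehlerDifferential.tensorKaehlerEquivBase R S A (S ⊗[R] A)).subsingleton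
  exact subsingleton_of_tensor h _

/-- Stacks 08XE (e). -/
theorem etale (h : Pi1.UnivInjective R S) (A : Type u) [CommRing A] [Algebra R A]
    [Algebra.Etale S (S ⊗[R] A)] : Algebra.Etale R A := by
  have : Algebra.FinitePresentation R A := algFinitePresentation h A
  have : Module.Flat R A := flat h A
  have : Algebra.FormallyUnramified R A := formallyUnramified h A
  exact Algebra.Etale.of_formallyUnramified_of_flat

end Groth.Agent.Pi1B.UnivInj
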